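import Mathlib
import Cfsg.Prelude.Def_PhanSystems
import Cfsg.Agent.Lib.H16.Herm

/-!
Phan systems, part A: hermitian forms over the field with `q ^ 2` elements: norms, common non-zeros of hermitian
quadratic functions, orthonormal families.
-/

set_option autoImplicit false
set_option linter.unusedSectionVars false

namespace H60.Ph

open Matrix Cfsg H16.Herm Polynomial

variable {F : Type*} [Field F] [Fintype F] {q : ℕ} {n : ℕ}

theorem norm_surj (hF : Fintype.card F = q ^ 2) {η : F} (h0 : η ≠ 0) (hη : η ^ q = η) :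
    ∃ w : F, w ≠ 0 ∧ w * w ^ q = η := by
  classical
  have hq : 1 < q := one_lt_q hF
  have hN : Nat.card Fˣ = (q - 1) * (q + 1) := by
    rw [Nat.card_units, Nat.card_eq_fintype_card, hF]
    obtain ⟨a, ha⟩ := Nat.exists_eq_add_of_le hq.le
    rw [ha]
    have : (1 + a) ^ 2 = (1 + a - 1) * (1 + a + 1) + 1 := by
      have h : 1 + a - 1 = a := by omega
      rw [h]; ring
    omega
  have h1 := IsCyclic.card_powMonoidHom_range Fˣ (q + 1)
  have h2 := IsCyclic.card_powMonoidHom_ker Fˣ (q - 1)
  rw [hN, Nat.gcd_eq_right (Dvd.intro_left _ rfl), Nat.mul_div_cancel _ (by omega)] at h1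
  rw [hN, Nat.gcd_eq_right (Dvd.intro _ rfl)] at h2
  have hle : (powMonoidHom (q + 1) : Fˣ →* Fˣ).range ≤ (powMonoidHom (q - 1) : Fˣ →* Fˣ).ker := by
    rintro _ ⟨x, rfl⟩
    rw [MonoidHom.mem_ker, powMonoidHom_apply, powMonoidHom_apply, ← pow_mul, mul_comm, ← hN]
    exact pow_card_eq_one'
  have heq := Subgroup.eq_of_le_of_card_ge hle (by rw [h1, h2])
  have hmem : Units.mk0 η h0 ∈ (powMonoidHom (q - 1) : Fˣ →* Fˣ).ker := by
    rw [MonoidHom.mem_ker, powMonoidHom_apply]
    apply Units.ext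
    rw [Units.val_pow_eq_pow_val, Units.val_mk0, Units.val_one]
    have h3 : η ^ (q - 1) * η = η := by rw [← pow_succ, Nat.sub_add_cancel hq.le, hη]
    exact mul_eq_right₀ h0 |>.mp h3
  rw [← heq] at hmem
  obtain ⟨w, hw⟩ := hmem
  refine ⟨w, w.ne_zero, ?_⟩
  have h3 := congrArg Units.val hw
  rw [powMonoidHom_apply, Units.val_pow_eq_pow_val, Units.val_mk0] at h3
  rw [← pow_succ', h3]

theorem form_self_fix (hF : Fintype.card F = q ^ 2) (u : Fin n → F) :
    (hermForm n F q u u) ^ q = hermForm n F q u u := hermForm_swap hF u u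

/-- scale a nonsingular vector to a unit vector -/
theorem exists_unit_smul (hF : Fintype.card F = q ^ 2) {u : Fin n → F} (hu : hermForm n F q u u ≠ 0) :
    ∃ c : F, c ≠ 0 ∧ hermForm n F q (c • u) (c • u) = 1 := by
  have h1 : ((hermForm n F q u u)⁻¹) ^ q = (hermForm n F q u u)⁻¹ := by
    rw [inv_pow, form_self_fix hF]
  obtain ⟨w, hw0, hw⟩ := norm_surj hF (inv_ne_zero hu) h1
  refine ⟨w, hw0, ?_⟩
  rw [hermForm_smul_left, hermForm_smul_right, ← mul_assoc, hw, inv_mul_cancel₀ hu]

/-! ### Common non-zeros -/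

/-- the polynomial `A + B t ^ q + C t + D t ^ (q + 1)` -/
noncomputable def pol (q : ℕ) (z : F × F × F × F) : F[X] :=
  C z.1 + C z.2.1 * X ^ q + C z.2.2.1 * X + C z.2.2.2 * X ^ (q + 1)

theorem pol_eval (z : F × F × F × F) (t : F) :
    (pol q z).eval t = z.1 + z.2.1 * t ^ q + z.2.2.1 * t + z.2.2.2 * t ^ (q + 1) := by
  simp [pol]

theorem pol_natDegree_le (z : F × F × F × F) : (pol q z).natDegree ≤ q + 1 := by
  unfold pol
  compute_degree

theorem pol_ne_zero (hq : 1 < q) {z : F × F × F × F} (hz : z ≠ 0) : pol q z ≠ 0 := by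
  intro h
  apply hz
  have h0 := congrArg (fun p => p.coeff 0) h
  have h1 := congrArg (fun p => p.coeff 1) h
  have h2 := congrArg (fun p => p.coeff q) h
  have h3 := congrArg (fun p => p.coeff (q + 1)) h
  have e1 : q ≠ 0 := by omega
  have e3 : (1 : ℕ) ≠ q + 1 := by omega
  have e4 : (0 : ℕ) ≠ q := by omega
  have e5 : (1 : ℕ) ≠ q := by omega
  simp only [pol, coeff_add, coeff_C, coeff_C_mul, coeff_X_pow, coeff_X, coeff_zero] at h0 h1 h2 h3
  simp only [e1, e3, e4, e5, if_true, if_false, mul_zero, add_zero, mul_one, zero_add, one_ne_zero] at h0 h1 h2 h3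
  ext
  · simpa using h0
  · simpa using h2
  · simpa [e1] using h1
  · simpa [e1, e5] using h3

theorem exists_common (hF : Fintype.card F = q ^ 2) (L : List (F × F × F × F)) (hL : L.length * (q + 1) < q ^ 2)
    (h : ∀ z ∈ L, z ≠ 0) : ∃ t : F, ∀ z ∈ L, z.1 + z.2.1 * t ^ q + z.2.2.1 * t + z.2.2.2 * t ^ (q + 1) ≠ 0 := by
  have hq := one_lt_q hF
  have hne : (L.map (pol q)).prod ≠ 0 := by
    apply List.prod_ne_zero
    intro hmem
    rw [List.mem_map] at hmem
    obtain ⟨z, hz, hz0⟩ := hmem
    exact pol_ne_zero hq (h z hz) hz0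
  have hdeg : (L.map (pol q)).prod.natDegree < Fintype.card F := by
    rw [hF]
    refine lt_of_le_of_lt ?_ hL
    clear hL h hne
    induction L with
    | nil => simp
    | cons z L ih =>
      rw [List.map_cons, List.prod_cons]
      refine le_trans natDegree_mul_le ?_
      rw [List.length_cons]
      have := pol_natDegree_le (q := q) z
      nlinarith
  by_contra hcon
  push Not at hcon
  apply hne
  apply Polynomial.eq_zero_of_natDegree_lt_card_of_eval_eq_zero (f := (fun x : F => x)) _ (fun a b h => h) _ hdeg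
  intro t
  obtain ⟨z, hz, hz0⟩ := hcon t
  rw [Polynomial.eval_list_prod]
  apply List.prod_eq_zero
  rw [List.mem_map]
  exact ⟨pol q z, List.mem_map.mpr ⟨z, hz, rfl⟩, by rw [pol_eval]; exact hz0⟩

/-- hermitian type functions -/
def IsHF (q : ℕ) (Q : (Fin n → F) → F) : Prop :=
  ∀ r s : Fin n → F, ∃ B C : F, ∀ t : F, Q (r + t • s) = Q r + B * t ^ q + C * t + Q s * t ^ (q + 1)

theorem isHF_form (hF : Fintype.card F = q ^ 2) : IsHF q (fun r : Fin n → F => hermForm n F q r r) := by
  intro r s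
  refine ⟨hermForm n F q r s, hermForm n F q s r, fun t => ?_⟩
  simp only [hermForm_add_left, hermForm_add_right hF, hermForm_smul_left, hermForm_smul_right]
  ring

theorem isHF_norm (hF : Fintype.card F = q ^ 2) (x : Fin n → F) :
    IsHF q (fun r : Fin n → F => hermForm n F q r x * (hermForm n F q r x) ^ q) := by
  intro r s
  refine ⟨hermForm n F q r x * (hermForm n F q s x) ^ q, hermForm n F q s x * (hermForm n F q r x) ^ q, fun t => ?_⟩
  simp only [hermForm_add_left, hermForm_smul_left, add_pow_q hF, mul_pow]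
  ring

theorem IsHF.sub {Q Q' : (Fin n → F) → F} (h : IsHF q Q) (h' : IsHF q Q') : IsHF q (fun r => Q r - Q' r) := by
  intro r s
  obtain ⟨B, C, h1⟩ := h r s
  obtain ⟨B', C', h2⟩ := h' r s
  refine ⟨B - B', C - C', fun t => ?_⟩
  simp only [h1, h2]
  ring

theorem exists_all_ne (hF : Fintype.card F = q ^ 2) (Y : Submodule F (Fin n → F)) (L : List ((Fin n → F) → F))
    (hL : L.length * (q + 1) < q ^ 2) (h1 : ∀ Q ∈ L, IsHF q Q) (h2 : ∀ Q ∈ L, ∃ y ∈ Y, Q y ≠ 0) :
    ∃ r ∈ Y, ∀ Q ∈ L, Q r ≠ 0 := by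
  classical
  induction L with
  | nil => exact ⟨0, Y.zero_mem, by simp⟩
  | cons Q L ih =>
    have hL' : L.length * (q + 1) < q ^ 2 := by
      rw [List.length_cons] at hL
      nlinarith
    obtain ⟨r, hr, hrL⟩ := ih hL' (fun Q hQ => h1 Q (List.mem_cons_of_mem _ hQ)) (fun Q hQ => h2 Q (List.mem_cons_of_mem _ hQ))
    obtain ⟨s, hs, hsQ⟩ := h2 Q List.mem_cons_self
    choose B C hBC using fun (Q' : {Q' // Q' ∈ (Q :: L)}) => h1 Q'.1 Q'.2 r s
    obtain ⟨t, ht⟩ := exists_common hF ((Q :: L).attach.map (fun Q' => (Q'.1 r, B Q', C Q', Q'.1 s)))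
      (by rw [List.length_map, List.length_attach]; exact hL) (by
        intro z hz
        rw [List.mem_map] at hz
        obtain ⟨⟨Q', hQ'⟩, _, rfl⟩ := hz
        intro h0
        rw [Prod.ext_iff, Prod.ext_iff, Prod.ext_iff] at h0
        obtain ⟨e1, _, _, e4⟩ := h0
        rcases List.mem_cons.mp hQ' with rfl | hQL
        · exact hsQ e4
        · exact hrL Q' hQL e1)
    refine ⟨r + t • s, Y.add_mem hr (Y.smul_mem t hs), fun Q' hQ' => ?_⟩
    have := ht (Q' r, B ⟨Q', hQ'⟩, C ⟨Q', hQ'⟩, Q' s) (List.mem_map.mpr ⟨⟨Q', hQ'⟩, List.mem_attach _ _, rfl⟩)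
    have e := hBC ⟨Q', hQ'⟩ t
    simp only at e
    rw [e]
    exact this

/-! ### Orthonormal families -/

/-- orthonormal family -/
def ON (q : ℕ) {ι : Type} [DecidableEq ι] (f : ι → (Fin n → F)) : Prop :=
  ∀ i j, hermForm n F q (f i) (f j) = if i = j then 1 else 0

theorem exists_perp (hF : Fintype.card F = q ^ 2) {ι : Type} [Fintype ι] (f : ι → (Fin n → F)) (hι : Fintype.card ι < n) :
    ∃ w : Fin n → F, w ≠ 0 ∧ ∀ i, hermForm n F q w (f i) = 0 := by
  let φ : (Fin n → F) →ₗ[F] (ι → F) :=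
    { toFun := fun w i => hermForm n F q w (f i)
      map_add' := fun a b => by ext i; exact hermForm_add_left _ _ _
      map_smul' := fun c a => by ext i; exact hermForm_smul_left _ _ _ }
  have hni : ¬ Function.Injective φ := by
    intro hinj
    have := LinearMap.finrank_le_finrank_of_injective hinj
    rw [Module.finrank_fintype_fun_eq_card, Module.finrank_fintype_fun_eq_card, Fintype.card_fin] at this
    omega
  rw [← LinearMap.ker_eq_bot, Submodule.eq_bot_iff] at hni
  push Not at hni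
  obtain ⟨w, hw, hw0⟩ := hni
  exact ⟨w, hw0, fun i => congrFun (LinearMap.mem_ker.mp hw) i⟩

theorem form_sum_left {ι : Type} [Fintype ι] (c : ι → F) (f : ι → (Fin n → F)) (v : Fin n → F) :
    hermForm n F q (∑ i, c i • f i) v = ∑ i, c i * hermForm n F q (f i) v := by
  classical
  induction (Finset.univ : Finset ι) using Finset.induction_on with
  | empty => simp [hermForm_zero_left]
  | insert a s ha ih => rw [Finset.sum_insert ha, Finset.sum_insert ha, hermForm_add_left, hermForm_smul_left, ih]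

theorem form_sum_right (hF : Fintype.card F = q ^ 2) {ι : Type} [Fintype ι] (c : ι → F) (f : ι → (Fin n → F)) (v : Fin n → F) :
    hermForm n F q v (∑ i, c i • f i) = ∑ i, c i ^ q * hermForm n F q v (f i) := by
  classical
  induction (Finset.univ : Finset ι) using Finset.induction_on with
  | empty => simp [hermForm_zero_right hF]
  | insert a s ha ih => rw [Finset.sum_insert ha, Finset.sum_insert ha, hermForm_add_right hF, hermForm_smul_right, ih]

/-- projection away from an orthonormal family -/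
theorem proj_perp {ι : Type} [Fintype ι] [DecidableEq ι] {f : ι → (Fin n → F)} (hf : ON q f) (v : Fin n → F) (j : ι) :
    hermForm n F q (v - ∑ i, hermForm n F q v (f i) • f i) (f j) = 0 := by
  rw [hermForm_sub_left, form_sum_left, sub_eq_zero]
  rw [Finset.sum_eq_single j]
  · rw [hf, if_pos rfl, mul_one]
  · intro i _ hij
    rw [hf, if_neg hij, mul_zero]
  · intro h; exact absurd (Finset.mem_univ _) h

theorem exists_nonvanish (hF : Fintype.card F = q ^ 2) {ι κ : Type} [Fintype ι] [DecidableEq ι] [Fintype κ]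
    {f : ι → (Fin n → F)} (hf : ON q f) (x : κ → (Fin n → F)) (hc : Fintype.card ι + Fintype.card κ < n) :
    ∃ r : Fin n → F, (∀ i, hermForm n F q r (f i) = 0) ∧
      hermForm n F q r r - ∑ k, hermForm n F q r (x k) * (hermForm n F q r (x k)) ^ q ≠ 0 := by
  classical
  obtain ⟨s, hs0, hs⟩ := exists_perp hF (Sum.elim f x) (by rw [Fintype.card_sum]; exact hc)
  have hsf : ∀ i, hermForm n F q s (f i) = 0 := fun i => hs (Sum.inl i)
  have hsx : ∀ k, hermForm n F q s (x k) = 0 := fun k => hs (Sum.inr k)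
  have : ∃ v, hermForm n F q v s ≠ 0 := by
    by_contra hcon
    push Not at hcon
    exact hs0 (eq_zero_of_forall_left hF hcon)
  obtain ⟨v, hv⟩ := this
  set r := v - ∑ i, hermForm n F q v (f i) • f i with hr
  have hrf : ∀ j, hermForm n F q r (f j) = 0 := fun j => proj_perp hf v j
  have hsf' : ∀ i, hermForm n F q (f i) s = 0 := by
    intro i
    rw [← hermForm_swap hF, hsf, zero_pow_q hF]
  have hrs : hermForm n F q r s ≠ 0 := by
    rw [hr, hermForm_sub_left, form_sum_left, Finset.sum_eq_zero (fun i _ => by rw [hsf', mul_zero]), sub_zero]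
    exact hv
  have hsr : hermForm n F q s r ≠ 0 := by
    rw [← hermForm_swap hF]
    exact pow_ne_zero _ hrs
  have hq := one_lt_q hF
  obtain ⟨t, ht⟩ := exists_common hF [(hermForm n F q r r - ∑ k, hermForm n F q r (x k) * (hermForm n F q r (x k)) ^ q,
    hermForm n F q r s, hermForm n F q s r, hermForm n F q s s)] (by simp; nlinarith) (by
      intro z hz
      rw [List.mem_singleton] at hz
      subst hz
      intro h0
      rw [Prod.ext_iff, Prod.ext_iff] at h0
      exact hrs h0.2.1)
  have ht' := ht _ (List.mem_singleton_self _)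
  refine ⟨r + t • s, fun i => ?_, ?_⟩
  · rw [hermForm_add_left, hermForm_smul_left, hrf, hsf, mul_zero, add_zero]
  · have e1 : ∀ k, hermForm n F q (r + t • s) (x k) = hermForm n F q r (x k) := by
      intro k
      rw [hermForm_add_left, hermForm_smul_left, hsx, mul_zero, add_zero]
    simp only [e1]
    simp only [hermForm_add_left, hermForm_add_right hF, hermForm_smul_left, hermForm_smul_right]
    convert ht' using 1
    ring

theorem exists_unit_perp (hF : Fintype.card F = q ^ 2) {ι : Type} [Fintype ι] [DecidableEq ι]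
    {f : ι → (Fin n → F)} (hf : ON q f) (hc : Fintype.card ι < n) :
    ∃ w : Fin n → F, hermForm n F q w w = 1 ∧ ∀ i, hermForm n F q w (f i) = 0 := by
  obtain ⟨r, hr, hr0⟩ := exists_nonvanish hF hf (κ := Empty) (fun k => k.elim) (by simpa using hc)
  rw [Finset.univ_eq_empty, Finset.sum_empty, sub_zero] at hr0
  obtain ⟨c, _, hc⟩ := exists_unit_smul hF hr0
  refine ⟨c • r, hc, fun i => ?_⟩
  rw [hermForm_smul_left, hr, mul_zero]

end H60.Ph
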