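import Mathlib
import Cfsg.Agent.Lib.H60.PhA

/-!
Phan systems, part B: block embeddings of special unitary groups, transitivity on orthonormal families.
-/

set_option autoImplicit false
set_option linter.unusedSectionVars false

namespace H60.Ph

open Matrix Cfsg H16.Herm

variable {F : Type*} [Field F] [Fintype F] {q : ℕ} {m n k : ℕ}

/-- the zero-one matrix of an embedding -/
def PM (F : Type*) [Field F] (ε : Fin m ↪ Fin n) : Matrix (Fin n) (Fin m) F :=
  (1 : Matrix (Fin n) (Fin n) F).submatrix id ε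

theorem PM_apply (ε : Fin m ↪ Fin n) (i : Fin n) (j : Fin m) : PM F ε i j = if i = ε j then 1 else 0 := by
  simp [PM, Matrix.one_apply]

theorem PMT_PM (ε : Fin m ↪ Fin n) : (PM F ε)ᵀ * PM F ε = 1 := by
  ext i j
  rw [Matrix.mul_apply]
  simp only [Matrix.transpose_apply, PM_apply, Matrix.one_apply]
  rw [Finset.sum_eq_single (ε i)]
  · simp
  · intro b _ hb
    simp [hb]
  · simp

theorem PM_comp (δ : Fin k ↪ Fin m) (ε : Fin m ↪ Fin n) : PM F ε * PM F δ = PM F (δ.trans ε) := by
  ext i j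
  rw [Matrix.mul_apply]
  simp only [PM_apply]
  rw [Finset.sum_eq_single (δ j)]
  · simp
  · intro b _ hb
    simp [hb]
  · simp

theorem PMT_PM_disj (δ : Fin k ↪ Fin n) (ε : Fin m ↪ Fin n) (h : ∀ i j, δ i ≠ ε j) : (PM F δ)ᵀ * PM F ε = 0 := by
  ext i j
  rw [Matrix.mul_apply]
  simp only [Matrix.transpose_apply, PM_apply, Matrix.zero_apply]
  apply Finset.sum_eq_zero
  intro b _
  by_cases h1 : b = δ i
  · subst h1
    simp [h i j]
  · simp [h1]

/-- extension of a matrix by the identity -/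
def EM (ε : Fin m ↪ Fin n) (A : Matrix (Fin m) (Fin m) F) : Matrix (Fin n) (Fin n) F :=
  1 + PM F ε * (A - 1) * (PM F ε)ᵀ

theorem EM_one (ε : Fin m ↪ Fin n) : EM ε (1 : Matrix (Fin m) (Fin m) F) = 1 := by
  simp [EM]

theorem EM_mul (ε : Fin m ↪ Fin n) (A B : Matrix (Fin m) (Fin m) F) : EM ε (A * B) = EM ε A * EM ε B := by
  unfold EM
  have h : PM F ε * (A - 1) * (PM F ε)ᵀ * (PM F ε * (B - 1) * (PM F ε)ᵀ) =
      PM F ε * ((A - 1) * (B - 1)) * (PM F ε)ᵀ := by
    calc _ = PM F ε * (A - 1) * ((PM F ε)ᵀ * PM F ε) * (B - 1) * (PM F ε)ᵀ := by simp only [Matrix.mul_assoc]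
      _ = _ := by rw [PMT_PM, Matrix.mul_one]; simp only [Matrix.mul_assoc]
  rw [Matrix.add_mul, Matrix.mul_add, Matrix.one_mul, Matrix.mul_add, Matrix.mul_one, Matrix.one_mul, h]
  have e : A * B - 1 = (B - 1) + (A - 1) + (A - 1) * (B - 1) := by noncomm_ring
  rw [e, Matrix.mul_add, Matrix.mul_add, Matrix.add_mul, Matrix.add_mul]
  abel

theorem EM_comp (δ : Fin k ↪ Fin m) (ε : Fin m ↪ Fin n) (A : Matrix (Fin k) (Fin k) F) :
    EM ε (EM δ A) = EM (δ.trans ε) A := by
  unfold EM
  rw [add_sub_cancel_left, ← PM_comp, Matrix.transpose_mul]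
  simp only [Matrix.mul_assoc]

theorem EM_det (ε : Fin m ↪ Fin n) (A : Matrix (Fin m) (Fin m) F) : (EM ε A).det = A.det := by
  unfold EM
  rw [Matrix.mul_assoc, Matrix.det_one_add_mul_comm, Matrix.mul_assoc, PMT_PM, Matrix.mul_one, add_sub_cancel]

theorem EM_commute (δ : Fin k ↪ Fin n) (ε : Fin m ↪ Fin n) (h : ∀ i j, δ i ≠ ε j)
    (A : Matrix (Fin k) (Fin k) F) (B : Matrix (Fin m) (Fin m) F) : EM δ A * EM ε B = EM ε B * EM δ A := by
  unfold EM
  have h1 : PM F δ * (A - 1) * (PM F δ)ᵀ * (PM F ε * (B - 1) * (PM F ε)ᵀ) = 0 := by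
    calc _ = PM F δ * (A - 1) * ((PM F δ)ᵀ * PM F ε) * (B - 1) * (PM F ε)ᵀ := by simp only [Matrix.mul_assoc]
      _ = _ := by rw [PMT_PM_disj δ ε h]; simp
  have h2 : PM F ε * (B - 1) * (PM F ε)ᵀ * (PM F δ * (A - 1) * (PM F δ)ᵀ) = 0 := by
    calc _ = PM F ε * (B - 1) * ((PM F ε)ᵀ * PM F δ) * (A - 1) * (PM F δ)ᵀ := by simp only [Matrix.mul_assoc]
      _ = _ := by rw [PMT_PM_disj ε δ (fun i j => (h j i).symm)]; simp
  rw [Matrix.add_mul, Matrix.mul_add, Matrix.one_mul, Matrix.mul_add, Matrix.mul_one, Matrix.add_mul,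
    Matrix.mul_add, Matrix.one_mul, Matrix.mul_add, Matrix.mul_one, h1, h2]
  simp only [Matrix.mul_one, Matrix.one_mul, add_zero]
  abel

/-- extension of a vector by zero -/
def ext (ε : Fin m ↪ Fin n) (w : Fin m → F) : Fin n → F := PM F ε *ᵥ w

theorem ext_apply (ε : Fin m ↪ Fin n) (w : Fin m → F) (i : Fin m) : ext ε w (ε i) = w i := by
  unfold ext
  rw [Matrix.mulVec, dotProduct, Finset.sum_eq_single i]
  · simp [PM_apply]
  · intro b _ hb
    have : ε i ≠ ε b := fun h => hb (ε.injective h).symm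
    simp [PM_apply, this]
  · simp

theorem ext_apply' (ε : Fin m ↪ Fin n) (w : Fin m → F) {j : Fin n} (hj : ∀ i, ε i ≠ j) : ext ε w j = 0 := by
  unfold ext
  rw [Matrix.mulVec, dotProduct]
  apply Finset.sum_eq_zero
  intro b _
  simp [PM_apply, (hj b).symm]

theorem ext_single (ε : Fin m ↪ Fin n) (i : Fin m) : ext ε (Pi.single i (1 : F)) = Pi.single (ε i) 1 := by
  ext j
  by_cases hj : ∃ l, ε l = j
  · obtain ⟨l, rfl⟩ := hj
    rw [ext_apply]
    by_cases h : l = i
    · subst h; simp
    · rw [Pi.single_eq_of_ne h, Pi.single_eq_of_ne (fun h' => h (ε.injective h'))]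
  · push Not at hj
    rw [ext_apply' ε _ hj, Pi.single_eq_of_ne (hj i).symm]

theorem ext_add (ε : Fin m ↪ Fin n) (w w' : Fin m → F) : ext ε (w + w') = ext ε w + ext ε w' := Matrix.mulVec_add _ _ _

theorem ext_sub (ε : Fin m ↪ Fin n) (w w' : Fin m → F) : ext ε (w - w') = ext ε w - ext ε w' := Matrix.mulVec_sub _ _ _

theorem ext_smul (ε : Fin m ↪ Fin n) (c : F) (w : Fin m → F) : ext ε (c • w) = c • ext ε w := Matrix.mulVec_smul _ _ _

theorem PMT_mulVec (ε : Fin m ↪ Fin n) (v : Fin n → F) : (PM F ε)ᵀ *ᵥ v = v ∘ ε := by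
  ext i
  rw [Matrix.mulVec, dotProduct, Finset.sum_eq_single (ε i)]
  · simp [PM_apply]
  · intro b _ hb
    simp [PM_apply, hb]
  · simp

theorem EM_mulVec (ε : Fin m ↪ Fin n) (A : Matrix (Fin m) (Fin m) F) (v : Fin n → F) :
    EM ε A *ᵥ v = v + ext ε (A *ᵥ (v ∘ ε) - v ∘ ε) := by
  unfold EM ext
  rw [Matrix.add_mulVec, Matrix.one_mulVec, ← Matrix.mulVec_mulVec, ← Matrix.mulVec_mulVec, PMT_mulVec,
    Matrix.sub_mulVec, Matrix.one_mulVec]

theorem ext_comp (ε : Fin m ↪ Fin n) (w : Fin m → F) : (ext ε w) ∘ ε = w := by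
  ext i
  exact ext_apply ε w i

theorem EM_mulVec_ext (ε : Fin m ↪ Fin n) (A : Matrix (Fin m) (Fin m) F) (w : Fin m → F) :
    EM ε A *ᵥ (ext ε w) = ext ε (A *ᵥ w) := by
  rw [EM_mulVec, ext_comp, ← ext_add]
  congr 1
  abel

theorem EM_mulVec_of_zero (ε : Fin m ↪ Fin n) (A : Matrix (Fin m) (Fin m) F) (v : Fin n → F) (hv : v ∘ ε = 0) :
    EM ε A *ᵥ v = v := by
  rw [EM_mulVec, hv, Matrix.mulVec_zero, sub_zero]
  unfold ext
  rw [Matrix.mulVec_zero, add_zero]

theorem form_ext_left (ε : Fin m ↪ Fin n) (w : Fin m → F) (v : Fin n → F) :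
    hermForm n F q (ext ε w) v = hermForm m F q w (v ∘ ε) := by
  unfold hermForm
  symm
  apply Fintype.sum_of_injective ε ε.injective
  · intro i hi
    rw [ext_apply' ε w (fun j hj => hi ⟨j, hj⟩), zero_mul]
  · intro i
    rw [ext_apply]
    rfl

theorem form_ext_right (hF : Fintype.card F = q ^ 2) (ε : Fin m ↪ Fin n) (w : Fin m → F) (v : Fin n → F) :
    hermForm n F q v (ext ε w) = hermForm m F q (v ∘ ε) w := by
  rw [← hermForm_swap hF, form_ext_left, hermForm_swap hF]

theorem form_ext_ext (ε : Fin m ↪ Fin n) (w w' : Fin m → F) :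
    hermForm n F q (ext ε w) (ext ε w') = hermForm m F q w w' := by
  rw [form_ext_left, ext_comp]

theorem EM_form (hF : Fintype.card F = q ^ 2) (ε : Fin m ↪ Fin n) (A : Matrix (Fin m) (Fin m) F)
    (hA : ∀ u v, hermForm m F q (A *ᵥ u) (A *ᵥ v) = hermForm m F q u v) (u v : Fin n → F) :
    hermForm n F q (EM ε A *ᵥ u) (EM ε A *ᵥ v) = hermForm n F q u v := by
  rw [EM_mulVec, EM_mulVec, hermForm_add_left, hermForm_add_right hF, hermForm_add_right hF, form_ext_ext,
    form_ext_left, form_ext_right hF]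
  simp only [hermForm_sub_left, hermForm_sub_right hF, hA]
  ring

theorem mem_SU {g : SpecialLinearGroup (Fin n) F} : g ∈ SU n F q ↔ ∀ u v : Fin n → F,
    hermForm n F q ((g : Matrix (Fin n) (Fin n) F) *ᵥ u) ((g : Matrix (Fin n) (Fin n) F) *ᵥ v) = hermForm n F q u v := Iff.rfl

/-- the matrix of an element of the special unitary group -/
def mt (g : SU n F q) : Matrix (Fin n) (Fin n) F := ((g : SpecialLinearGroup (Fin n) F) : Matrix (Fin n) (Fin n) F)

theorem mt_mul (g h : SU n F q) : mt (g * h) = mt g * mt h := rfl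

theorem mt_one : mt (1 : SU n F q) = 1 := rfl

theorem mt_inj {g h : SU n F q} (e : mt g = mt h) : g = h := Subtype.ext (Subtype.ext e)

theorem mt_inv_mul (g : SU n F q) : mt g⁻¹ * mt g = 1 := by rw [← mt_mul, inv_mul_cancel, mt_one]

theorem mt_mul_inv (g : SU n F q) : mt g * mt g⁻¹ = 1 := by rw [← mt_mul, mul_inv_cancel, mt_one]

theorem mt_form (g : SU n F q) (u v : Fin n → F) : hermForm n F q (mt g *ᵥ u) (mt g *ᵥ v) = hermForm n F q u v := g.2 u v

theorem mt_det (g : SU n F q) : (mt g).det = 1 := (g : SpecialLinearGroup (Fin n) F).2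

/-- an element of the special unitary group from a matrix -/
def ofMt (M : Matrix (Fin n) (Fin n) F) (hd : M.det = 1) (hM : ∀ u v, hermForm n F q (M *ᵥ u) (M *ᵥ v) = hermForm n F q u v) :
    SU n F q := ⟨⟨M, hd⟩, hM⟩

theorem mt_ofMt (M : Matrix (Fin n) (Fin n) F) (hd : M.det = 1) (hM : ∀ u v, hermForm n F q (M *ᵥ u) (M *ᵥ v) = hermForm n F q u v) :
    mt (ofMt M hd hM) = M := rfl

/-- block embedding -/
def emb (hF : Fintype.card F = q ^ 2) (ε : Fin m ↪ Fin n) : SU m F q →* SU n F q where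
  toFun A := ofMt (EM ε (mt A)) (by rw [EM_det, mt_det]) (EM_form hF ε (mt A) (mt_form A))
  map_one' := mt_inj (by rw [mt_ofMt, mt_one, EM_one, mt_one])
  map_mul' A B := mt_inj (by rw [mt_ofMt, mt_mul, EM_mul, mt_mul, mt_ofMt, mt_ofMt])

variable (hF : Fintype.card F = q ^ 2)

include hF

theorem mt_emb (ε : Fin m ↪ Fin n) (A : SU m F q) : mt (emb hF ε A) = EM ε (mt A) := rfl

theorem emb_emb (δ : Fin k ↪ Fin m) (ε : Fin m ↪ Fin n) (A : SU k F q) :
    emb hF ε (emb hF δ A) = emb hF (δ.trans ε) A := mt_inj (by rw [mt_emb, mt_emb, mt_emb, EM_comp])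

theorem emb_commute (δ : Fin k ↪ Fin n) (ε : Fin m ↪ Fin n) (h : ∀ i j, δ i ≠ ε j) (A : SU k F q) (B : SU m F q) :
    emb hF δ A * emb hF ε B = emb hF ε B * emb hF δ A :=
  mt_inj (by rw [mt_mul, mt_mul, mt_emb, mt_emb, EM_commute δ ε h])

theorem emb_injective (ε : Fin m ↪ Fin n) : Function.Injective (emb hF ε) := by
  intro A B h
  apply mt_inj
  have h1 := congrArg mt h
  rw [mt_emb, mt_emb] at h1
  unfold EM at h1
  have h2 := congrArg (fun M => (PM F ε)ᵀ * M * PM F ε) (add_left_cancel h1)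
  have e : ∀ X : Matrix (Fin m) (Fin m) F, (PM F ε)ᵀ * (PM F ε * (X - 1) * (PM F ε)ᵀ) * PM F ε = X - 1 := by
    intro X
    calc _ = ((PM F ε)ᵀ * PM F ε) * (X - 1) * ((PM F ε)ᵀ * PM F ε) := by simp only [Matrix.mul_assoc]
      _ = _ := by rw [PMT_PM, Matrix.mul_one, Matrix.one_mul]
  rw [e, e] at h2
  exact sub_left_injective h2

omit hF in
theorem col_single (M : Matrix (Fin n) (Fin n) F) (i : Fin n) : M *ᵥ (Pi.single i 1) = fun k => M k i := by
  ext k
  simp

theorem mem_range_emb (ε : Fin m ↪ Fin n) (g : SU n F q)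
    (hg : ∀ j, (∀ i, ε i ≠ j) → mt g *ᵥ (Pi.single j 1) = Pi.single j 1) : ∃ A : SU m F q, emb hF ε A = g := by
  have hrow : ∀ (j : Fin n), (∀ i, ε i ≠ j) → ∀ v : Fin n → F, (mt g *ᵥ v) j = v j := by
    intro j hj v
    rw [← hermForm_single_right (q := q) (mt g *ᵥ v) j hF, ← hermForm_single_right (q := q) v j hF]
    conv_lhs => rw [← hg j hj]
    rw [mt_form]
  let A : Matrix (Fin m) (Fin m) F := (mt g).submatrix ε ε
  have hact : ∀ v : Fin n → F, mt g *ᵥ v = EM ε A *ᵥ v := by
    have hlin : ∀ j, mt g *ᵥ (Pi.single j 1) = EM ε A *ᵥ (Pi.single j 1) := by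
      intro j
      by_cases hj : ∃ i, ε i = j
      · obtain ⟨i, rfl⟩ := hj
        rw [← ext_single, EM_mulVec_ext]
        ext l
        by_cases hl : ∃ l', ε l' = l
        · obtain ⟨l', rfl⟩ := hl
          rw [ext_apply, ext_single, col_single, col_single]
          rfl
        · push Not at hl
          rw [hrow l hl, ext_apply' ε _ hl, ext_apply' ε _ hl]
      · push Not at hj
        rw [hg j hj, EM_mulVec_of_zero]
        ext i
        simp [Pi.single_eq_of_ne (hj i)]
    intro v
    have hv : v = ∑ j, v j • (Pi.single j 1 : Fin n → F) := by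
      ext i
      rw [Finset.sum_apply, Finset.sum_eq_single i]
      · simp
      · intro b _ hb
        simp [Pi.single_eq_of_ne hb.symm]
      · simp
    rw [hv, Matrix.mulVec_sum, Matrix.mulVec_sum]
    refine Finset.sum_congr rfl fun j _ => ?_
    rw [Matrix.mulVec_smul, Matrix.mulVec_smul, hlin]
  have hEM : mt g = EM ε A := by
    ext i j
    have := congrFun (hact (Pi.single j 1)) i
    rw [col_single, col_single] at this
    exact this
  refine ⟨ofMt A (by rw [← EM_det ε A, ← hEM, mt_det]) ?_, mt_inj ?_⟩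
  · intro u v
    rw [← form_ext_ext ε, ← EM_mulVec_ext, ← EM_mulVec_ext, ← hEM, mt_form, form_ext_ext]
  · rw [mt_emb, mt_ofMt, hEM]

/-! ### Transitivity -/

theorem exists_extend (s : Finset (Fin n)) (f : Fin n → (Fin n → F))
    (hf : ∀ i ∈ s, ∀ j ∈ s, hermForm n F q (f i) (f j) = if i = j then 1 else 0) :
    ∃ f' : Fin n → (Fin n → F), (∀ i ∈ s, f' i = f i) ∧ ON q f' := by
  classical
  generalize hk : (Finset.univ \ s).card = k
  induction k generalizing s f with
  | zero =>
    rw [Finset.card_eq_zero, Finset.sdiff_eq_empty_iff_subset] at hk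
    exact ⟨f, fun _ _ => rfl, fun i j => hf i (hk (Finset.mem_univ _)) j (hk (Finset.mem_univ _))⟩
  | succ k ih =>
    have hne : (Finset.univ \ s).Nonempty := by
      rw [← Finset.card_pos]; omega
    obtain ⟨i0, hi0⟩ := hne
    have hi0' : i0 ∉ s := (Finset.mem_sdiff.mp hi0).2
    have hcard : Fintype.card {i // i ∈ s} < n := by
      rw [Fintype.card_coe]
      calc s.card < (Finset.univ : Finset (Fin n)).card :=
            Finset.card_lt_card ⟨Finset.subset_univ _, fun h => hi0' (h (Finset.mem_univ _))⟩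
        _ = n := by simp
    -- index the family by `Fin s.card`
    have hn : ∃ w : Fin n → F, hermForm n F q w w = 1 ∧ ∀ i ∈ s, hermForm n F q w (f i) = 0 := by
      let e := s.equivFin
      obtain ⟨w, hw, hw'⟩ := exists_unit_perp hF (ι := Fin s.card) (f := fun i => f (e.symm i)) (by
        intro i j
        rw [hf _ (e.symm i).2 _ (e.symm j).2]
        by_cases h : i = j
        · subst h; simp
        · rw [if_neg h, if_neg]
          intro h'
          exact h (e.symm.injective (Subtype.ext h'))) (by rw [Fintype.card_fin, ← Fintype.card_coe]; exact hcard)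
      refine ⟨w, hw, fun i hi => ?_⟩
      have := hw' (e ⟨i, hi⟩)
      simpa using this
    obtain ⟨w, hw, hw'⟩ := hn
    have hw'' : ∀ i ∈ s, hermForm n F q (f i) w = 0 := by
      intro i hi
      rw [← hermForm_swap hF, hw' i hi, zero_pow_q hF]
    obtain ⟨f', h1, h2⟩ := ih (insert i0 s) (Function.update f i0 w) (by
      intro i hi j hj
      rw [Finset.mem_insert] at hi hj
      rcases hi with rfl | hi <;> rcases hj with rfl | hj
      · simp [hw]
      · have : i ≠ j := fun h => hi0' (h ▸ hj)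
        rw [Function.update_self, Function.update_of_ne this.symm, if_neg this, hw' j hj]
      · have : i ≠ j := fun h => hi0' (h ▸ hi)
        rw [Function.update_self, Function.update_of_ne this, if_neg this, hw'' i hi]
      · have h1 : i ≠ i0 := fun h => hi0' (h ▸ hi)
        have h2 : j ≠ i0 := fun h => hi0' (h ▸ hj)
        rw [Function.update_of_ne h1, Function.update_of_ne h2, hf i hi j hj]) (by
      have : Finset.univ \ s = insert i0 (Finset.univ \ (insert i0 s)) := by
        ext x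
        simp only [Finset.mem_sdiff, Finset.mem_univ, true_and, Finset.mem_insert, not_or]
        constructor
        · intro h
          by_cases hx : x = i0
          · exact Or.inl hx
          · exact Or.inr ⟨hx, h⟩
        · rintro (rfl | h)
          · exact hi0'
          · exact h.2
      rw [this, Finset.card_insert_of_notMem (by simp)] at hk
      omega)
    refine ⟨f', fun i hi => ?_, h2⟩
    rw [h1 i (Finset.mem_insert_of_mem hi), Function.update_of_ne]
    rintro rfl
    exact hi0' hi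

theorem form_of_ON {f : Fin n → (Fin n → F)} (hf : ON q f) (u v : Fin n → F) :
    hermForm n F q ((Matrix.of fun k i => f i k) *ᵥ u) ((Matrix.of fun k i => f i k) *ᵥ v) = hermForm n F q u v := by
  have e : ∀ u : Fin n → F, (Matrix.of fun k i => f i k) *ᵥ u = ∑ i, u i • f i := by
    intro u
    ext k
    rw [Matrix.mulVec, dotProduct, Finset.sum_apply]
    refine Finset.sum_congr rfl fun i _ => ?_
    simp [mul_comm]
  rw [e, e, form_sum_left]
  unfold hermForm
  refine Finset.sum_congr rfl fun i _ => ?_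
  congr 1
  have := form_sum_right (q := q) hF v f (f i)
  unfold hermForm at this
  rw [this, Finset.sum_eq_single i]
  · have h1 := hf i i
    unfold hermForm at h1
    rw [h1, if_pos rfl, mul_one]
  · intro j _ hj
    have h1 := hf i j
    unfold hermForm at h1
    rw [h1, if_neg hj.symm, mul_zero]
  · simp

theorem det_norm_of_ON {f : Fin n → (Fin n → F)} (hf : ON q f) :
    (Matrix.of fun k i => f i k).det * (Matrix.of fun k i => f i k).det ^ q = 1 := by
  set M : Matrix (Fin n) (Fin n) F := Matrix.of fun k i => f i k with hM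
  have h1 : (M.map (frobQ F hF))ᵀ * M = 1 := by
    ext i j
    rw [Matrix.mul_apply]
    have := hf j i
    unfold hermForm at this
    rw [Matrix.one_apply]
    calc _ = ∑ k, f j k * (f i k) ^ q := by
          refine Finset.sum_congr rfl fun k _ => ?_
          rw [Matrix.transpose_apply, Matrix.map_apply, hM, Matrix.of_apply, Matrix.of_apply, frobQ_apply, mul_comm]
      _ = _ := by rw [this]; by_cases h : i = j <;> simp [h, eq_comm]
  have h2 := congrArg Matrix.det h1
  rw [Matrix.det_mul, Matrix.det_transpose, Matrix.det_one, ← RingHom.mapMatrix_apply, ← RingHom.map_det, frobQ_apply] at h2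
  rw [mul_comm]
  exact h2

theorem exists_SU_cols (s : Finset (Fin n)) (hs : s ≠ Finset.univ) (f : Fin n → (Fin n → F))
    (hf : ∀ i ∈ s, ∀ j ∈ s, hermForm n F q (f i) (f j) = if i = j then 1 else 0) :
    ∃ g : SU n F q, ∀ i ∈ s, mt g *ᵥ (Pi.single i 1) = f i := by
  classical
  obtain ⟨f', h1, h2⟩ := exists_extend hF s f hf
  obtain ⟨i0, hi0⟩ : ∃ i0, i0 ∉ s := by
    by_contra h
    push Not at h
    exact hs (Finset.eq_univ_iff_forall.mpr h)
  set d := (Matrix.of fun k i => f' i k).det with hd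
  have hdn := det_norm_of_ON hF h2
  rw [← hd] at hdn
  have hd0 : d ≠ 0 := by
    intro h
    rw [h, zero_mul] at hdn
    exact zero_ne_one hdn
  have hdi : d⁻¹ * (d⁻¹) ^ q = 1 := by
    rw [inv_pow, ← mul_inv, hdn, inv_one]
  let f'' := Function.update f' i0 (d⁻¹ • f' i0)
  have hf'' : ON q f'' := by
    intro i j
    by_cases hi : i = i0 <;> by_cases hj : j = i0
    · subst hi; subst hj
      rw [if_pos rfl]
      simp only [f'', Function.update_self]
      rw [hermForm_smul_left, hermForm_smul_right, h2, if_pos rfl, mul_one, hdi]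
    · subst hi
      simp only [f'', Function.update_self, Function.update_of_ne hj]
      rw [hermForm_smul_left, h2, if_neg (Ne.symm hj), mul_zero]
    · subst hj
      simp only [f'', Function.update_self, Function.update_of_ne hi]
      rw [hermForm_smul_right, h2, if_neg hi, mul_zero]
    · simp only [f'', Function.update_of_ne hi, Function.update_of_ne hj]
      exact h2 i j
  have hM : (Matrix.of fun k i => f'' i k) = (Matrix.of fun k i => f' i k).updateCol i0 (d⁻¹ • fun k => f' i0 k) := by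
    ext k i
    rw [Matrix.of_apply, Matrix.updateCol_apply]
    by_cases h : i = i0
    · subst h
      simp [f'']
    · simp [f'', h]
  have hdet : (Matrix.of fun k i => f'' i k).det = 1 := by
    rw [hM, Matrix.det_updateCol_smul]
    have : (Matrix.of fun k i => f' i k).updateCol i0 (fun k => f' i0 k) = (Matrix.of fun k i => f' i k) := by
      ext k i
      rw [Matrix.updateCol_apply, Matrix.of_apply]
      by_cases h : i = i0
      · rw [if_pos h, h]
      · rw [if_neg h]
    rw [this, ← hd, inv_mul_cancel₀ hd0]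
  refine ⟨ofMt _ hdet (form_of_ON hF hf''), fun i hi => ?_⟩
  rw [mt_ofMt, col_single]
  have : i ≠ i0 := fun h => hi0 (h ▸ hi)
  ext k
  simp only [Matrix.of_apply, f'', Function.update_of_ne this, h1 i hi]

theorem exists_SU_unit (hn : 2 ≤ n) (i0 : Fin n) (u : Fin n → F) (hu : hermForm n F q u u = 1) :
    ∃ g : SU n F q, mt g *ᵥ (Pi.single i0 1) = u := by
  obtain ⟨g, hg⟩ := exists_SU_cols hF {i0} (by
    intro h
    have := congrArg Finset.card h
    simp at this
    omega) (fun _ => u) (by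
      intro i hi j hj
      rw [Finset.mem_singleton] at hi hj
      subst hi; subst hj
      simp [hu])
  exact ⟨g, hg i0 (Finset.mem_singleton_self _)⟩

end H60.Ph
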