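import Mathlib
import Cfsg.Agent.Lib.H60.PhB

/-!
Phan systems, part C: the rank one subgroups, factorization through blocks, uniqueness of lifts of edges and lifts of
triangles in a nondegenerate three-space.
-/

set_option autoImplicit false
set_option linter.unusedSectionVars false

namespace H60.Ph

open Matrix Cfsg H16.Herm

variable {F : Type*} [Field F] [Fintype F] {q : ℕ} {m n k : ℕ}

theorem EM_apply_mem (ε : Fin m ↪ Fin n) (A : Matrix (Fin m) (Fin m) F) (v : Fin n → F) (i : Fin m) :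
    (EM ε A *ᵥ v) (ε i) = (A *ᵥ (v ∘ ε)) i := by
  rw [EM_mulVec, Pi.add_apply, ext_apply, Pi.sub_apply]
  simp

theorem EM_apply_not (ε : Fin m ↪ Fin n) (A : Matrix (Fin m) (Fin m) F) (v : Fin n → F) {j : Fin n} (hj : ∀ i, ε i ≠ j) :
    (EM ε A *ᵥ v) j = v j := by
  rw [EM_mulVec, Pi.add_apply, ext_apply' ε _ hj, add_zero]

/-- tail embedding -/
abbrev tl (m : ℕ) : Fin m ↪ Fin (m + 1) := Fin.succEmb m

/-- head embedding -/
abbrev hd {k n : ℕ} (h : k ≤ n) : Fin k ↪ Fin n := Fin.castLEEmb h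

theorem hd_trans {k n m : ℕ} (h : k ≤ n) (h' : n ≤ m) : (hd h).trans (hd h') = hd (h.trans h') := rfl

theorem hd_tl {k n : ℕ} (h : k ≤ n) : (hd h).trans (tl n) = (tl k).trans (hd (Nat.succ_le_succ h)) := by
  ext i
  rfl

theorem tl_ne_zero {m : ℕ} (i : Fin m) : tl m i ≠ 0 := Fin.succ_ne_zero i

section su2
variable (hF : Fintype.card F = q ^ 2)

/-- the element of `SU 2` with first column `(α, β)` -/
def su2 (α β : F) (h : α * α ^ q + β * β ^ q = 1) : SU 2 F q :=
  ofMt !![α, -β ^ q; β, α ^ q] (by rw [Matrix.det_fin_two_of]; linear_combination h) (by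
    intro u v
    have hq := one_lt_q hF
    simp only [hermForm, Matrix.mulVec, dotProduct, Fin.sum_univ_two, Matrix.of_apply, Matrix.cons_val_zero,
      Matrix.cons_val_one, Matrix.cons_val', Matrix.empty_val', Matrix.cons_val_fin_one]
    simp only [add_pow_q hF, mul_pow, neg_pow_q hF, pow_q_pow_q hF, neg_mul]
    linear_combination (u 0 * v 0 ^ q + u 1 * v 1 ^ q) * h)

variable {hF}

theorem mt_su2 {α β : F} (h : α * α ^ q + β * β ^ q = 1) : mt (su2 hF α β h) = !![α, -β ^ q; β, α ^ q] := rfl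

variable (hF)

include hF

theorem SU2_col (b : SU 2 F q) : mt b 0 0 * mt b 0 0 ^ q + mt b 1 0 * mt b 1 0 ^ q = 1 := by
  have := mt_form b (Pi.single 0 1) (Pi.single 0 1)
  rw [col_single, hermForm_single_left] at this
  simpa [hermForm, Fin.sum_univ_two] using this

theorem SU2_eq (b : SU 2 F q) : b = su2 hF (mt b 0 0) (mt b 1 0) (SU2_col hF b) := by
  apply mt_inj
  rw [mt_su2]
  have h0 := SU2_col hF b
  have h1 := mt_form b (Pi.single 1 1) (Pi.single 0 1)
  rw [col_single, col_single, hermForm_single_left] at h1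
  have hq := one_lt_q hF
  simp [hermForm, Fin.sum_univ_two] at h1
  rw [zero_pow_q hF] at h1
  have h2 := mt_det b
  rw [Matrix.det_fin_two] at h2
  have e1 : mt b 0 1 = - mt b 1 0 ^ q := by
    linear_combination (-mt b 0 1) * h0 + mt b 0 0 * h1 - mt b 1 0 ^ q * h2
  have e2 : mt b 1 1 = mt b 0 0 ^ q := by
    linear_combination (-mt b 1 1) * h0 + mt b 1 0 * h1 + mt b 0 0 ^ q * h2
  ext i j
  fin_cases i <;> fin_cases j <;> simp [e1, e2]

theorem SU2_01 (b : SU 2 F q) : mt b 0 1 = - mt b 1 0 ^ q := by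
  conv_lhs => rw [SU2_eq hF b, mt_su2]
  rfl

theorem SU2_11 (b : SU 2 F q) : mt b 1 1 = mt b 0 0 ^ q := by
  conv_lhs => rw [SU2_eq hF b, mt_su2]
  rfl

theorem SU2_ext {b b' : SU 2 F q} (h0 : mt b 0 0 = mt b' 0 0) (h1 : mt b 1 0 = mt b' 1 0) : b = b' := by
  apply mt_inj
  rw [SU2_eq hF b, SU2_eq hF b', mt_su2, mt_su2, h0, h1]

end su2

variable (hF : Fintype.card F = q ^ 2)
include hF

theorem emb_hd_e0 (hn : 2 ≤ n + 1) (b : SU 2 F q) :
    mt (emb hF (hd hn) b) *ᵥ (Pi.single 0 1) = ext (hd hn) ![mt b 0 0, mt b 1 0] := by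
  have : (Pi.single 0 1 : Fin (n + 1) → F) = ext (hd hn) (Pi.single 0 1) := by
    rw [ext_single]; rfl
  rw [this, mt_emb, EM_mulVec_ext, col_single]
  congr 1
  ext i
  fin_cases i <;> rfl

theorem emb_tl_e0 (a : SU n F q) : mt (emb hF (tl n) a) *ᵥ (Pi.single 0 1) = Pi.single 0 1 := by
  rw [mt_emb, EM_mulVec_of_zero]
  ext i
  exact Pi.single_eq_of_ne (tl_ne_zero i) _

theorem stab_e0 (g : SU (n + 1) F q) (hg : mt g *ᵥ (Pi.single 0 1) = Pi.single 0 1) : ∃ a, emb hF (tl n) a = g := by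
  apply mem_range_emb hF
  intro j hj
  have : j = 0 := by
    by_contra h
    exact hj (j.pred h) (Fin.succ_pred j h)
  subst this
  exact hg

theorem form_tail (u v : Fin (n + 1) → F) :
    hermForm (n + 1) F q u v = u 0 * v 0 ^ q + hermForm n F q (u ∘ tl n) (v ∘ tl n) := by
  unfold hermForm
  rw [Fin.sum_univ_succ]
  rfl

/-- a unit vector adjacent to `e₀` is `a b e₀` -/
theorem exists_fac (hn : 1 ≤ n) (u : Fin (n + 2) → F) (hu : hermForm (n + 2) F q u u = 1) (h1 : u 0 * u 0 ^ q ≠ 1) :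
    ∃ (a : SU (n + 1) F q) (b : SU 2 F q), mt b 1 0 ≠ 0 ∧
      mt (emb hF (tl (n + 1)) a * emb hF (hd (by omega : 2 ≤ n + 2)) b) *ᵥ (Pi.single 0 1) = u := by
  set w := u ∘ tl (n + 1) with hw
  have hww : hermForm (n + 1) F q w w = 1 - u 0 * u 0 ^ q := by
    rw [form_tail hF] at hu
    linear_combination hu
  have hww0 : hermForm (n + 1) F q w w ≠ 0 := by
    rw [hww]
    exact fun h => h1 (sub_eq_zero.mp h).symm
  obtain ⟨β, hβ0, hβ⟩ := norm_surj hF hww0 (form_self_fix hF w)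
  have hw' : hermForm (n + 1) F q (β⁻¹ • w) (β⁻¹ • w) = 1 := by
    rw [hermForm_smul_left, hermForm_smul_right, ← hβ, inv_pow]
    have := pow_ne_zero q hβ0
    field_simp
  obtain ⟨a, ha⟩ := exists_SU_unit hF (by omega) 0 _ hw'
  refine ⟨a, su2 hF (u 0) β (by rw [hβ, hww]; ring), ?_, ?_⟩
  · rw [mt_su2]
    simpa using hβ0
  · rw [mt_mul, ← Matrix.mulVec_mulVec, emb_hd_e0 hF (n := n + 1), mt_su2]
    ext i
    refine Fin.cases ?_ (fun i => ?_) i
    · rw [mt_emb, EM_apply_not _ _ _ tl_ne_zero]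
      have h0 : (0 : Fin (n + 2)) = hd (by omega : 2 ≤ n + 2) 0 := rfl
      conv_lhs => rw [h0]
      rw [ext_apply]
      rfl
    · have hsu : i.succ = tl (n + 1) i := rfl
      rw [hsu, mt_emb, EM_apply_mem]
      have e1 : (ext (hd (by omega : 2 ≤ n + 2)) ![(!![u 0, -β ^ q; β, u 0 ^ q] : Matrix (Fin 2) (Fin 2) F) 0 0,
          (!![u 0, -β ^ q; β, u 0 ^ q] : Matrix (Fin 2) (Fin 2) F) 1 0]) ∘ tl (n + 1) = β • Pi.single 0 1 := by
        ext j
        refine Fin.cases ?_ (fun j => ?_) j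
        · have : tl (n + 1) 0 = hd (by omega : 2 ≤ n + 2) 1 := rfl
          rw [Function.comp_apply, this, ext_apply]
          simp
        · rw [Function.comp_apply, ext_apply']
          · simp
          · intro l h
            have h' := congrArg Fin.val h
            have : (l : ℕ) < 2 := l.2
            simp [tl, hd] at h'
            omega
      rw [e1, Matrix.mulVec_smul, ha, smul_smul, mul_inv_cancel₀ hβ0, one_smul]
      rfl

/-- common neighbour of two unit vectors -/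
theorem exists_nbr (hq : 3 ≤ q) {f x : Fin n → F} (hf : hermForm n F q f f = 1) (hn : 3 ≤ n) :
    ∃ r : Fin n → F, hermForm n F q r r = 1 ∧ hermForm n F q r f = 0 ∧
      hermForm n F q r x * hermForm n F q r x ^ q ≠ 1 := by
  let Y : Submodule F (Fin n → F) :=
    { carrier := {r | hermForm n F q r f = 0}
      add_mem' := fun {a b} ha hb => by
        show hermForm n F q (a + b) f = 0
        rw [hermForm_add_left, ha, hb, add_zero]
      zero_mem' := hermForm_zero_left _
      smul_mem' := fun c a ha => by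
        show hermForm n F q (c • a) f = 0
        rw [hermForm_smul_left, ha, mul_zero] }
  have hON : ON q (fun _ : Unit => f) := by
    intro i j
    simp [hf]
  obtain ⟨r1, h1, h1'⟩ := exists_nonvanish hF hON (κ := Empty) (fun k => k.elim) (by simp; omega)
  obtain ⟨r2, h2, h2'⟩ := exists_nonvanish hF hON (κ := Unit) (fun _ => x) (by simp; omega)
  obtain ⟨r, hrY, hr⟩ := exists_all_ne hF Y [fun r => hermForm n F q r r,
    fun r => hermForm n F q r r - hermForm n F q r x * hermForm n F q r x ^ q] (by simp; nlinarith) (by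
      intro Q hQ
      simp only [List.mem_cons, List.not_mem_nil, or_false] at hQ
      rcases hQ with rfl | rfl
      · exact isHF_form hF
      · exact (isHF_form hF).sub (isHF_norm hF x)) (by
      intro Q hQ
      simp only [List.mem_cons, List.not_mem_nil, or_false] at hQ
      rcases hQ with rfl | rfl
      · exact ⟨r1, h1 (), by simpa using h1'⟩
      · exact ⟨r2, h2 (), by simpa using h2'⟩)
  have hr1 := hr _ List.mem_cons_self
  have hr2 := hr _ (List.mem_cons_of_mem _ List.mem_cons_self)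
  obtain ⟨c, hc0, hc⟩ := exists_unit_smul hF hr1
  refine ⟨c • r, hc, ?_, ?_⟩
  · rw [hermForm_smul_left, show hermForm n F q r f = 0 from hrY, mul_zero]
  · intro h
    apply hr2
    rw [hermForm_smul_left, hermForm_smul_right] at hc
    rw [hermForm_smul_left, mul_pow] at h
    have : c * c ^ q ≠ 0 := mul_ne_zero hc0 (pow_ne_zero _ hc0)
    apply mul_left_cancel₀ this
    linear_combination hc - h

/-- every element is a product of blocks -/
theorem exists_fac_all (hq : 3 ≤ q) (hn : 1 ≤ n) (y : SU (n + 2) F q) :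
    ∃ (a a' a'' : SU (n + 1) F q) (b b' : SU 2 F q), mt b 1 0 ≠ 0 ∧ mt b' 1 0 ≠ 0 ∧
      y = emb hF (tl (n + 1)) a * emb hF (hd (by omega : 2 ≤ n + 2)) b * emb hF (tl (n + 1)) a' *
        emb hF (hd (by omega : 2 ≤ n + 2)) b' * emb hF (tl (n + 1)) a'' := by
  set e : Fin (n + 2) → F := Pi.single 0 1 with he
  have hee : hermForm (n + 2) F q e e = 1 := by rw [he, hermForm_single_left]; simp
  obtain ⟨r, hr1, hr2, hr3⟩ := exists_nbr hF hq hee (x := mt y *ᵥ e) (by omega)
  have hr0 : r 0 = 0 := by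
    rw [← hermForm_single_right (q := q) r 0 hF]; exact hr2
  have hq0 := one_lt_q hF
  obtain ⟨a, b, hb, hab⟩ := exists_fac hF hn r hr1 (by rw [hr0, zero_mul]; exact zero_ne_one)
  set g := emb hF (tl (n + 1)) a * emb hF (hd (by omega : 2 ≤ n + 2)) b with hg
  set u := mt (g⁻¹ * y) *ᵥ e with hu
  have hgu : mt g *ᵥ u = mt y *ᵥ e := by
    rw [hu, Matrix.mulVec_mulVec, ← mt_mul, mul_inv_cancel_left]
  have hu1 : hermForm (n + 2) F q u u = 1 := by rw [hu, mt_form, hee]
  have hu0 : u 0 * u 0 ^ q ≠ 1 := by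
    have h1 : hermForm (n + 2) F q r (mt y *ᵥ e) = u 0 ^ q := by
      rw [← hgu, ← hab, mt_form, hermForm_single_left]
    rw [h1, pow_q_pow_q hF] at hr3
    rwa [mul_comm]
  obtain ⟨a', b', hb', hab'⟩ := exists_fac hF hn u hu1 hu0
  obtain ⟨a'', ha''⟩ := stab_e0 hF ((g * (emb hF (tl (n + 1)) a' * emb hF (hd (by omega : 2 ≤ n + 2)) b'))⁻¹ * y) (by
    rw [mt_mul, ← Matrix.mulVec_mulVec, ← hgu, ← hab', Matrix.mulVec_mulVec, Matrix.mulVec_mulVec, ← mt_mul, ← mt_mul,
      mul_assoc, inv_mul_cancel, mt_one, Matrix.one_mulVec])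
  refine ⟨a, a', a'', b, b', hb, hb', ?_⟩
  rw [ha'', hg]
  group

omit hF in
theorem mt_emb_hd_three (hF : Fintype.card F = q ^ 2) (b : SU 2 F q) :
    mt (emb hF (hd (by omega : 2 ≤ 3)) b) = !![mt b 0 0, mt b 0 1, 0; mt b 1 0, mt b 1 1, 0; 0, 0, 1] := by
  rw [mt_emb, EM]
  ext i j
  rw [Matrix.add_apply, Matrix.mul_apply, Fin.sum_univ_two, Matrix.mul_apply, Matrix.mul_apply, Fin.sum_univ_two,
    Fin.sum_univ_two]
  fin_cases i <;> fin_cases j <;> simp [PM_apply, Fin.ext_iff]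

omit hF in
theorem mt_emb_tl_three (hF : Fintype.card F = q ^ 2) (b : SU 2 F q) :
    mt (emb hF (tl 2) b) = !![1, 0, 0; 0, mt b 0 0, mt b 0 1; 0, mt b 1 0, mt b 1 1] := by
  rw [mt_emb, EM]
  ext i j
  rw [Matrix.add_apply, Matrix.mul_apply, Fin.sum_univ_two, Matrix.mul_apply, Matrix.mul_apply, Fin.sum_univ_two,
    Fin.sum_univ_two]
  fin_cases i <;> fin_cases j <;> simp [PM_apply, Fin.ext_iff]

/-- conjugation of the first block by the torus of the second -/
theorem torus_conj (μ : F) (hμ : μ * μ ^ q + 0 * 0 ^ q = 1) (b b' : SU 2 F q) (h0 : mt b 0 0 = mt b' 0 0)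
    (h1 : mt b 1 0 = mt b' 1 0 * μ) :
    emb hF (tl 2) (su2 hF μ 0 hμ) * emb hF (hd (by omega : 2 ≤ 3)) b' =
      emb hF (hd (by omega : 2 ≤ 3)) b * emb hF (tl 2) (su2 hF μ 0 hμ) := by
  apply mt_inj
  rw [mt_mul, mt_mul, mt_emb_hd_three, mt_emb_hd_three, mt_emb_tl_three, mt_su2]
  have f1 := SU2_01 hF b
  have f2 := SU2_11 hF b
  have f3 := SU2_01 hF b'
  have f4 := SU2_11 hF b'
  have hq := one_lt_q hF
  have hμ' : μ * μ ^ q = 1 := by simpa [(by omega : q ≠ 0)] using hμ
  ext i j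
  rw [Matrix.mul_apply, Matrix.mul_apply, Fin.sum_univ_three, Fin.sum_univ_three]
  fin_cases i <;> fin_cases j <;> simp [f1, f2, f3, f4, h0, h1, mul_pow, zero_pow_q hF]
  · linear_combination (-mt b' 1 0 ^ q) * hμ'
  · ring
  · ring

end H60.Ph
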