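import Mathlib
import Cfsg.Agent.Lib.H60.PhC

/-!
Phan systems, part D: the coset graph of an amalgam over a special unitary group; lifts of edges and of triangles in
nondegenerate three-spaces.
-/

set_option autoImplicit false
set_option linter.unusedSectionVars false

namespace H60.Ph

open Matrix Cfsg H16.Herm

variable {F : Type*} [Field F] [Fintype F] {q : ℕ}

/-- a group with maps as in the induction step -/
structure Amal (hF : Fintype.card F = q ^ 2) (m : ℕ) (hm : 2 ≤ m) (T : Type*) [Group T] where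
  p : T →* SU (m + 2) F q
  at' : SU (m + 1) F q →* T
  bt : SU 3 F q →* T
  p_at : ∀ a, p (at' a) = emb hF (tl (m + 1)) a
  p_bt : ∀ b, p (bt b) = emb hF (hd (by omega : 3 ≤ m + 2)) b
  ov : ∀ a : SU 2 F q, at' (emb hF (hd (by omega : 2 ≤ m + 1)) a) = bt (emb hF (tl 2) a)
  cm : ∀ (b : SU 2 F q) (c : SU m F q), bt (emb hF (hd (by omega : 2 ≤ 3)) b) * at' (emb hF (tl m) c) =
    at' (emb hF (tl m) c) * bt (emb hF (hd (by omega : 2 ≤ 3)) b)

namespace Amal

variable {hF : Fintype.card F = q ^ 2} {m : ℕ} {hm : 2 ≤ m} {T : Type*} [Group T] (D : Amal hF m hm T)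

/-- the cosets -/
abbrev Co : Type _ := T ⧸ D.at'.range

/-- the vector of an element -/
def vec (t : T) : Fin (m + 2) → F := mt (D.p t) *ᵥ (Pi.single 0 1)

/-- the rank one element -/
def lm (b : SU 2 F q) : T := D.bt (emb hF (hd (by omega : 2 ≤ 3)) b)

theorem vec_mul (t t' : T) : D.vec (t * t') = mt (D.p t) *ᵥ D.vec t' := by
  unfold vec
  rw [map_mul, mt_mul, Matrix.mulVec_mulVec]

theorem vec_at (a : SU (m + 1) F q) : D.vec (D.at' a) = Pi.single 0 1 := by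
  unfold vec
  rw [D.p_at, emb_tl_e0]

theorem p_lm (b : SU 2 F q) : D.p (D.lm b) = emb hF (hd (by omega : 2 ≤ m + 2)) b := by
  unfold lm
  rw [D.p_bt, emb_emb]
  rfl

theorem mk_at (t : T) (a : SU (m + 1) F q) : (QuotientGroup.mk (t * D.at' a) : D.Co) = QuotientGroup.mk t := by
  rw [QuotientGroup.eq]
  rw [_root_.mul_inv_rev, inv_mul_cancel_right]
  exact inv_mem ⟨a, rfl⟩

theorem exists_of_mk {t t' : T} (h : (QuotientGroup.mk t : D.Co) = QuotientGroup.mk t') : ∃ a, t' = t * D.at' a := by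
  rw [QuotientGroup.eq] at h
  obtain ⟨a, ha⟩ := h
  exact ⟨a, by rw [ha, mul_inv_cancel_left]⟩

/-- the vector of a coset -/
def rho : D.Co → (Fin (m + 2) → F) := Quotient.lift D.vec (by
  intro t t' h
  obtain ⟨a, ha⟩ := D.exists_of_mk (Quotient.sound h)
  rw [ha, D.vec_mul, D.vec_at]
  rfl)

theorem rho_mk (t : T) : D.rho (QuotientGroup.mk t) = D.vec t := rfl

theorem vec_unit (t : T) : hermForm (m + 2) F q (D.vec t) (D.vec t) = 1 := by
  unfold vec
  rw [mt_form, hermForm_single_left]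
  simp

theorem rho_unit (c : D.Co) : hermForm (m + 2) F q (D.rho c) (D.rho c) = 1 := by
  obtain ⟨t, rfl⟩ := QuotientGroup.mk_surjective c
  exact D.vec_unit t

/-- adjacency of cosets -/
def R (c c' : D.Co) : Prop := ∃ (t : T) (b : SU 2 F q), mt b 1 0 ≠ 0 ∧ c = QuotientGroup.mk t ∧ c' = QuotientGroup.mk (t * D.lm b)

theorem R_smul {t t' : T} (s : T) (h : D.R (QuotientGroup.mk t) (QuotientGroup.mk t')) :
    D.R (QuotientGroup.mk (s * t)) (QuotientGroup.mk (s * t')) := by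
  obtain ⟨t₁, b, hb, h1, h2⟩ := h
  obtain ⟨a, rfl⟩ := D.exists_of_mk h1
  obtain ⟨a', ha'⟩ := D.exists_of_mk h2
  refine ⟨s * (t * D.at' a), b, hb, ?_, ?_⟩
  · rw [← mul_assoc, D.mk_at]
  · rw [mul_assoc s, ha', ← mul_assoc s, D.mk_at]

theorem SU2_inv (b : SU 2 F q) : mt b⁻¹ 1 0 = - mt b 1 0 := by
  have : mt b⁻¹ = Matrix.adjugate (mt b) := by
    have : ((b⁻¹ : SU 2 F q) : SpecialLinearGroup (Fin 2) F) = ((b : SpecialLinearGroup (Fin 2) F))⁻¹ := rfl
    unfold mt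
    rw [this, Matrix.SpecialLinearGroup.coe_inv]
  rw [this, Matrix.adjugate_fin_two]
  simp

theorem R_symm {c c' : D.Co} (h : D.R c c') : D.R c' c := by
  obtain ⟨t, b, hb, h1, h2⟩ := h
  refine ⟨t * D.lm b, b⁻¹, ?_, h2, ?_⟩
  · rw [SU2_inv]
    exact neg_ne_zero.mpr hb
  · rw [h1, mul_assoc]
    unfold lm
    rw [← map_mul, ← map_mul, mul_inv_cancel, map_one, map_one, mul_one]

theorem vec_lm (b : SU 2 F q) : D.vec (D.lm b) = ext (hd (by omega : 2 ≤ m + 2)) ![mt b 0 0, mt b 1 0] := by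
  unfold vec
  rw [D.p_lm, emb_hd_e0 hF (n := m + 1)]

theorem R_adj {c c' : D.Co} (h : D.R c c') :
    hermForm (m + 2) F q (D.rho c) (D.rho c') * hermForm (m + 2) F q (D.rho c) (D.rho c') ^ q ≠ 1 := by
  obtain ⟨t, b, hb, rfl, rfl⟩ := h
  rw [D.rho_mk, D.rho_mk, D.vec_mul]
  have e : D.vec t = mt (D.p t) *ᵥ (Pi.single 0 1) := rfl
  rw [e, mt_form, hermForm_single_left, D.vec_lm]
  have h0 : (0 : Fin (m + 2)) = hd (by omega : 2 ≤ m + 2) 0 := rfl
  rw [h0, ext_apply]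
  intro h
  have h' : mt b 0 0 ^ q * (mt b 0 0 ^ q) ^ q = 1 := h
  rw [pow_q_pow_q hF] at h'
  have h1 := SU2_col hF b
  have : mt b 1 0 * mt b 1 0 ^ q = 0 := by linear_combination h1 - h'
  rcases mul_eq_zero.mp this with h2 | h2
  · exact hb h2
  · exact hb (pow_eq_zero_iff (by have := one_lt_q hF; omega) |>.mp h2)

theorem adj_symm {n : ℕ} (hF : Fintype.card F = q ^ 2) {u v : Fin n → F}
    (h : hermForm n F q u v * hermForm n F q u v ^ q ≠ 1) : hermForm n F q v u * hermForm n F q v u ^ q ≠ 1 := by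
  rw [← hermForm_swap hF u v, pow_q_pow_q hF, mul_comm]
  exact h

theorem R_exists_aux (t : T) (u : Fin (m + 2) → F) (hu : hermForm (m + 2) F q u u = 1)
    (h : hermForm (m + 2) F q (D.vec t) u * hermForm (m + 2) F q (D.vec t) u ^ q ≠ 1) :
    ∃ c', D.R (QuotientGroup.mk t) c' ∧ D.rho c' = u := by
  set u' := mt (D.p t)⁻¹ *ᵥ u with hu'
  have huu : mt (D.p t) *ᵥ u' = u := by
    rw [hu', Matrix.mulVec_mulVec, mt_mul_inv, Matrix.one_mulVec]
  have h1 : hermForm (m + 2) F q u' u' = 1 := by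
    rw [← mt_form (D.p t), huu, hu]
  have h2 : u' 0 * u' 0 ^ q ≠ 1 := by
    have : hermForm (m + 2) F q (D.vec t) u = u' 0 ^ q := by
      rw [← huu]
      have e : D.vec t = mt (D.p t) *ᵥ (Pi.single 0 1) := rfl
      rw [e, mt_form, hermForm_single_left]
    rw [this, pow_q_pow_q hF] at h
    rwa [mul_comm]
  obtain ⟨a, b, hb, hab⟩ := exists_fac hF (by omega) u' h1 h2
  refine ⟨QuotientGroup.mk (t * D.at' a * D.lm b), ⟨t * D.at' a, b, hb, (D.mk_at t a).symm, rfl⟩, ?_⟩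
  rw [D.rho_mk, mul_assoc, D.vec_mul, ← huu]
  congr 1
  rw [← hab]
  unfold vec
  rw [map_mul, D.p_at, D.p_lm]

theorem R_exists (c : D.Co) (u : Fin (m + 2) → F) (hu : hermForm (m + 2) F q u u = 1)
    (h : hermForm (m + 2) F q (D.rho c) u * hermForm (m + 2) F q (D.rho c) u ^ q ≠ 1) : ∃ c', D.R c c' ∧ D.rho c' = u := by
  obtain ⟨t, rfl⟩ := QuotientGroup.mk_surjective c
  exact D.R_exists_aux t u hu h

theorem at_tl_lm (c : SU m F q) (b : SU 2 F q) : D.at' (emb hF (tl m) c) * D.lm b = D.lm b * D.at' (emb hF (tl m) c) :=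
  (D.cm b c).symm

theorem unique_aux (t : T) (a₀ : SU (m + 1) F q) (b b' : SU 2 F q) (hb : mt b 1 0 ≠ 0) (hb' : mt b' 1 0 ≠ 0)
    (h : D.vec (D.lm b) = D.vec (D.at' a₀ * D.lm b')) :
    (QuotientGroup.mk (t * D.lm b) : D.Co) = QuotientGroup.mk (t * D.at' a₀ * D.lm b') := by
  rw [D.vec_lm, D.vec_mul, D.vec_lm, D.p_at, mt_emb] at h
  have h00 : mt b 0 0 = mt b' 0 0 := by
    have e := congrFun h 0
    rw [EM_apply_not _ _ _ tl_ne_zero] at e
    have h0 : (0 : Fin (m + 2)) = hd (by omega : 2 ≤ m + 2) 0 := rfl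
    rw [h0, ext_apply, ext_apply] at e
    exact e
  have hc : (ext (hd (by omega : 2 ≤ m + 2)) ![mt b' 0 0, mt b' 1 0]) ∘ tl (m + 1) = mt b' 1 0 • Pi.single 0 1 := by
    ext j
    refine Fin.cases ?_ (fun j => ?_) j
    · have : tl (m + 1) 0 = hd (by omega : 2 ≤ m + 2) 1 := rfl
      rw [Function.comp_apply, this, ext_apply]
      simp
    · rw [Function.comp_apply, ext_apply']
      · simp
      · intro l h
        have h' := congrArg Fin.val h
        have : (l : ℕ) < 2 := l.2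
        simp [tl, hd] at h'
        omega
  have hcb : (ext (hd (by omega : 2 ≤ m + 2)) ![mt b 0 0, mt b 1 0]) ∘ tl (m + 1) = mt b 1 0 • Pi.single 0 1 := by
    ext j
    refine Fin.cases ?_ (fun j => ?_) j
    · have : tl (m + 1) 0 = hd (by omega : 2 ≤ m + 2) 1 := rfl
      rw [Function.comp_apply, this, ext_apply]
      simp
    · rw [Function.comp_apply, ext_apply']
      · simp
      · intro l h
        have h' := congrArg Fin.val h
        have : (l : ℕ) < 2 := l.2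
        simp [tl, hd] at h'
        omega
  have hvec : mt b' 1 0 • (mt a₀ *ᵥ (Pi.single 0 1)) = mt b 1 0 • Pi.single 0 1 := by
    ext i
    have e := congrFun h (tl (m + 1) i)
    rw [EM_apply_mem, hc, Matrix.mulVec_smul] at e
    rw [← e]
    exact congrFun hcb i
  set μ := (mt b' 1 0)⁻¹ * mt b 1 0 with hμ
  have hvec' : mt a₀ *ᵥ (Pi.single 0 1) = μ • Pi.single 0 1 := by
    have := congrArg (fun v => (mt b' 1 0)⁻¹ • v) hvec
    simp only [smul_smul, inv_mul_cancel₀ hb', one_smul] at this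
    rw [this]
  have h10 : mt b 1 0 = mt b' 1 0 * μ := by
    rw [hμ, mul_inv_cancel_left₀ hb']
  have hμ1 : μ * μ ^ q = 1 := by
    have := mt_form a₀ (Pi.single 0 1) (Pi.single 0 1)
    rw [hvec', hermForm_smul_left, hermForm_smul_right, hermForm_single_left] at this
    simpa using this
  have hμ2 : μ * μ ^ q + 0 * 0 ^ q = 1 := by rw [hμ1, zero_mul, add_zero]
  set d := emb hF (hd (by omega : 2 ≤ m + 1)) (su2 hF μ 0 hμ2) with hd'
  have hde : mt d *ᵥ (Pi.single 0 1) = μ • Pi.single 0 1 := by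
    rw [hd', emb_hd_e0 hF (n := m), mt_su2]
    have : (![!![μ, -0 ^ q; 0, μ ^ q] 0 0, !![μ, -0 ^ q; 0, μ ^ q] 1 0] : Fin 2 → F) = μ • Pi.single 0 1 := by
      ext i
      fin_cases i <;> simp
    rw [this, ext_smul, ext_single]
    rfl
  obtain ⟨c, hc'⟩ := stab_e0 hF (d⁻¹ * a₀) (by
    rw [mt_mul, ← Matrix.mulVec_mulVec, hvec', ← hde, Matrix.mulVec_mulVec, mt_inv_mul, Matrix.one_mulVec])
  have ha₀ : a₀ = d * emb hF (tl m) c := by rw [hc', mul_inv_cancel_left]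
  have key : D.at' d * D.lm b' = D.lm b * D.at' d := by
    rw [hd', D.ov]
    unfold lm
    rw [← map_mul, ← map_mul]
    congr 1
    exact torus_conj hF μ hμ2 b b' h00 h10
  rw [ha₀, map_mul, ← mul_assoc, mul_assoc (t * D.at' d), D.at_tl_lm, ← mul_assoc, D.mk_at, mul_assoc t, key, ← mul_assoc,
    D.mk_at]

theorem R_unique {c c₁ c₂ : D.Co} (h1 : D.R c c₁) (h2 : D.R c c₂) (h : D.rho c₁ = D.rho c₂) : c₁ = c₂ := by
  obtain ⟨t, b, hb, rfl, rfl⟩ := h1
  obtain ⟨t', b', hb', h3, rfl⟩ := h2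
  obtain ⟨a, rfl⟩ := D.exists_of_mk h3
  rw [D.rho_mk, D.rho_mk, mul_assoc, D.vec_mul, D.vec_mul] at h
  apply D.unique_aux t a b b' hb hb'
  have := congrArg (fun v => mt (D.p t)⁻¹ *ᵥ v) h
  simpa only [Matrix.mulVec_mulVec, mt_inv_mul, Matrix.one_mulVec] using this

theorem vec_bt (x : SU 3 F q) : D.vec (D.bt x) = ext (hd (by omega : 3 ≤ m + 2)) (mt x *ᵥ (Pi.single 0 1)) := by
  unfold vec
  rw [D.p_bt, mt_emb]
  have : (Pi.single 0 1 : Fin (m + 2) → F) = ext (hd (by omega : 3 ≤ m + 2)) (Pi.single 0 1) := by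
    rw [ext_single]; rfl
  rw [this, EM_mulVec_ext]

theorem tri_good (t : T) {c₁ c₂ : D.Co} (v₁ : Fin 2 → F) (v₂ : Fin 3 → F) (h01 : D.R (QuotientGroup.mk t) c₁)
    (h12 : D.R c₁ c₂) (h1 : D.rho c₁ = mt (D.p t) *ᵥ ext (hd (by omega : 2 ≤ m + 2)) v₁)
    (h2 : D.rho c₂ = mt (D.p t) *ᵥ ext (hd (by omega : 3 ≤ m + 2)) v₂)
    (hadj : hermForm (m + 2) F q (D.vec t) (D.rho c₂) * hermForm (m + 2) F q (D.vec t) (D.rho c₂) ^ q ≠ 1) :
    D.R (QuotientGroup.mk t) c₂ := by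
  have hvt : D.vec t = mt (D.p t) *ᵥ (Pi.single 0 1) := rfl
  have hu1 : v₁ 0 * v₁ 0 ^ q + v₁ 1 * v₁ 1 ^ q = 1 := by
    have := D.rho_unit c₁
    rw [h1, mt_form, form_ext_ext] at this
    simpa [hermForm, Fin.sum_univ_two] using this
  have hv11 : v₁ 1 ≠ 0 := by
    intro h
    have := D.R_adj h01
    rw [D.rho_mk, h1, hvt, mt_form, hermForm_single_left] at this
    have h0 : (0 : Fin (m + 2)) = hd (by omega : 2 ≤ m + 2) 0 := rfl
    rw [h0, ext_apply, pow_q_pow_q hF, mul_comm] at this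
    apply this
    rw [h, zero_mul, add_zero] at hu1
    exact hu1
  set b₁ := su2 hF (v₁ 0) (v₁ 1) hu1 with hb₁
  have hb10 : mt b₁ 1 0 ≠ 0 := by rw [hb₁, mt_su2]; simpa using hv11
  have hc₁ : c₁ = QuotientGroup.mk (t * D.lm b₁) := by
    refine D.R_unique h01 ⟨t, b₁, hb10, rfl, rfl⟩ ?_
    rw [D.rho_mk, h1, D.vec_mul, D.vec_lm]
    congr 2
    ext i
    fin_cases i <;> rfl
  set B₁ : SU 3 F q := emb hF (hd (by omega : 2 ≤ 3)) b₁ with hB₁
  have hlm : D.lm b₁ = D.bt B₁ := rfl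
  set v₂' := mt B₁⁻¹ *ᵥ v₂ with hv₂'
  have hv₂ : mt B₁ *ᵥ v₂' = v₂ := by rw [hv₂', Matrix.mulVec_mulVec, mt_mul_inv, Matrix.one_mulVec]
  have hv₂u : hermForm 3 F q v₂ v₂ = 1 := by
    have := D.rho_unit c₂
    rwa [h2, mt_form, form_ext_ext] at this
  have hv₂'u : hermForm 3 F q v₂' v₂' = 1 := by rw [← mt_form B₁, hv₂, hv₂u]
  have hv₂'0 : v₂' 0 * v₂' 0 ^ q ≠ 1 := by
    have := D.R_adj h12
    rw [hc₁, D.rho_mk, D.vec_mul, h2, mt_form, hlm, D.vec_bt, form_ext_ext] at this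
    rw [← hv₂, mt_form, hermForm_single_left, pow_q_pow_q hF, mul_comm] at this
    exact this
  obtain ⟨a', b', hb', hab'⟩ := exists_fac hF (n := 1) (by omega) v₂' hv₂'u hv₂'0
  set x : SU 3 F q := B₁ * (emb hF (tl 2) a' * emb hF (hd (by omega : 2 ≤ 3)) b') with hx
  have hxe : mt x *ᵥ (Pi.single 0 1) = v₂ := by
    rw [hx, mt_mul, ← Matrix.mulVec_mulVec, hab', hv₂]
  have hc₂ : c₂ = QuotientGroup.mk (t * D.bt x) := by
    refine D.R_unique h12 ⟨t * D.lm b₁ * D.at' (emb hF (hd (by omega : 2 ≤ m + 1)) a'), b', hb', ?_, ?_⟩ ?_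
    · rw [D.mk_at, hc₁]
    · congr 1
      rw [D.ov, hlm, hx, map_mul, map_mul]
      unfold lm
      group
    · rw [h2, D.rho_mk, D.vec_mul, D.vec_bt, hxe]
  have hv₂0 : v₂ 0 * v₂ 0 ^ q ≠ 1 := by
    rw [hvt, h2, mt_form, hermForm_single_left] at hadj
    have h0 : (0 : Fin (m + 2)) = hd (by omega : 3 ≤ m + 2) 0 := rfl
    rw [h0, ext_apply, pow_q_pow_q hF, mul_comm] at hadj
    exact hadj
  obtain ⟨a'', b'', hb'', hab''⟩ := exists_fac hF (n := 1) (by omega) v₂ hv₂u hv₂0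
  obtain ⟨a₃, ha₃⟩ := stab_e0 hF (n := 2) (x⁻¹ * (emb hF (tl 2) a'' * emb hF (hd (by omega : 2 ≤ 3)) b'')) (by
    rw [mt_mul, ← Matrix.mulVec_mulVec, hab'', ← hxe, Matrix.mulVec_mulVec, mt_inv_mul, Matrix.one_mulVec])
  have hxx : x * emb hF (tl 2) a₃ = emb hF (tl 2) a'' * emb hF (hd (by omega : 2 ≤ 3)) b'' := by
    rw [ha₃, mul_inv_cancel_left]
  refine ⟨t * D.at' (emb hF (hd (by omega : 2 ≤ m + 1)) a''), b'', hb'', (D.mk_at _ _).symm, ?_⟩
  rw [hc₂, ← D.mk_at (t * D.bt x) (emb hF (hd (by omega : 2 ≤ m + 1)) a₃), D.ov, D.ov, mul_assoc t, ← map_mul, hxx, map_mul,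
    ← mul_assoc]
  rfl

/-- three vectors in a nondegenerate three-space -/
def G3 (F : Type*) [Field F] (q m : ℕ) (x y z : Fin (m + 2) → F) : Prop :=
  ∃ f : Fin 3 → (Fin (m + 2) → F), ON q f ∧ ∀ w ∈ [x, y, z], ∃ c : Fin 3 → F, w = ∑ i, c i • f i

/-- the frame of a good triangle -/
theorem exists_frame (hm' : 2 ≤ m) (hF' : Fintype.card F = q ^ 2) {x y z : Fin (m + 2) → F} (h : G3 F q m x y z)
    (hx : hermForm (m + 2) F q x x = 1) (hy : hermForm (m + 2) F q y y = 1)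
    (hxy : hermForm (m + 2) F q x y * hermForm (m + 2) F q x y ^ q ≠ 1) :
    ∃ (s : SU (m + 2) F q) (v₁ : Fin 2 → F) (v₂ : Fin 3 → F), mt s *ᵥ (Pi.single 0 1) = x ∧
      y = mt s *ᵥ ext (hd (by omega : 2 ≤ m + 2)) v₁ ∧ z = mt s *ᵥ ext (hd (by omega : 3 ≤ m + 2)) v₂ := by
  classical
  obtain ⟨f, hf, hw⟩ := h
  obtain ⟨cx, hcx⟩ := hw x (by simp)
  obtain ⟨cy, hcy⟩ := hw y (by simp)
  obtain ⟨cz, hcz⟩ := hw z (by simp)
  -- the element with columns `f`
  let S : Finset (Fin (m + 2)) := Finset.univ.image (hd (by omega : 3 ≤ m + 2))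
  let f' : Fin (m + 2) → (Fin (m + 2) → F) := fun i => if h : (i : ℕ) < 3 then f ⟨i, h⟩ else 0
  have hf'h : ∀ i : Fin 3, f' (hd (by omega : 3 ≤ m + 2) i) = f i := by
    intro i
    simp only [f']
    rw [dif_pos (show ((hd (by omega : 3 ≤ m + 2) i : Fin (m + 2)) : ℕ) < 3 from i.2)]
    rfl
  obtain ⟨g, hg⟩ := exists_SU_cols hF' S (by
    intro h
    have h1 : S.card ≤ 3 := by
      refine le_trans Finset.card_image_le ?_
      simp
    rw [h, Finset.card_univ, Fintype.card_fin] at h1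
    omega) f' (by
      intro i hi j hj
      simp only [S, Finset.mem_image, Finset.mem_univ, true_and] at hi hj
      obtain ⟨i, rfl⟩ := hi
      obtain ⟨j, rfl⟩ := hj
      rw [hf'h, hf'h, hf]
      by_cases hij : i = j
      · subst hij; simp
      · rw [if_neg hij, if_neg (fun h => hij ((hd (by omega : 3 ≤ m + 2)).injective h))])
  have hgf : ∀ c : Fin 3 → F, mt g *ᵥ ext (hd (by omega : 3 ≤ m + 2)) c = ∑ i, c i • f i := by
    intro c
    have hc : c = ∑ j, c j • (Pi.single j 1 : Fin 3 → F) := by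
      ext i
      rw [Finset.sum_apply, Finset.sum_eq_single i]
      · simp
      · intro b _ hb
        simp [Pi.single_eq_of_ne hb.symm]
      · simp
    conv_lhs => rw [hc]
    unfold ext
    rw [Matrix.mulVec_sum, Matrix.mulVec_sum]
    refine Finset.sum_congr rfl fun j _ => ?_
    rw [Matrix.mulVec_smul, Matrix.mulVec_smul]
    have := ext_single (F := F) (hd (by omega : 3 ≤ m + 2)) j
    unfold ext at this
    rw [this, hg _ (by simp [S]), hf'h]
  have hx1 : hermForm 3 F q cx cx = 1 := by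
    rw [← form_ext_ext (hd (by omega : 3 ≤ m + 2)), ← mt_form g, hgf, ← hcx, hx]
  have hy1 : hermForm 3 F q cy cy = 1 := by
    rw [← form_ext_ext (hd (by omega : 3 ≤ m + 2)), ← mt_form g, hgf, ← hcy, hy]
  have hxy1 : hermForm 3 F q cx cy = hermForm (m + 2) F q x y := by
    rw [← form_ext_ext (hd (by omega : 3 ≤ m + 2)), ← mt_form g, hgf, hgf, ← hcy, ← hcx]
  have hyx1 : hermForm 3 F q cy cx = hermForm (m + 2) F q x y ^ q := by
    rw [← hermForm_swap hF', hxy1]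
  -- second vector
  set w := cy - hermForm 3 F q cy cx • cx with hwdef
  have hwx : hermForm 3 F q w cx = 0 := by
    rw [hwdef, hermForm_sub_left, hermForm_smul_left, hx1, mul_one, sub_self]
  have hwy : hermForm 3 F q w w = 1 - hermForm (m + 2) F q x y * hermForm (m + 2) F q x y ^ q := by
    have : hermForm 3 F q w w = hermForm 3 F q w cy := by
      conv_lhs => rw [hwdef]
      rw [hermForm_sub_right hF', hermForm_smul_right, ← hwdef, hwx, mul_zero, sub_zero]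
    rw [this, hwdef, hermForm_sub_left, hermForm_smul_left, hy1, hxy1, hyx1]
    ring
  have hww : hermForm 3 F q w w ≠ 0 := by
    rw [hwy]
    intro h
    exact hxy (sub_eq_zero.mp h).symm
  obtain ⟨κ, hκ0, hκ⟩ := exists_unit_smul hF' hww
  obtain ⟨g', hg'⟩ := exists_SU_cols hF' ({0, 1} : Finset (Fin 3)) (by decide) (fun i => if i = 0 then cx else κ • w) (by
    have hxw : hermForm 3 F q cx w = 0 := by rw [← hermForm_swap hF', hwx, zero_pow_q hF']
    intro i hi j hj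
    simp only [Finset.mem_insert, Finset.mem_singleton] at hi hj
    rcases hi with rfl | rfl <;> rcases hj with rfl | rfl
    · simp [hx1]
    · simp [hermForm_smul_right, hxw]
    · simp [hermForm_smul_left, hwx]
    · simpa using hκ)
  have hg0 : mt g' *ᵥ (Pi.single 0 1) = cx := by
    rw [hg' 0 (by simp)]; simp
  have hg1 : mt g' *ᵥ (Pi.single 1 1) = κ • w := by
    rw [hg' 1 (by simp)]; simp
  have hcy' : cy = mt g' *ᵥ (ext (hd (by omega : 2 ≤ 3)) ![hermForm 3 F q cy cx, κ⁻¹]) := by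
    have e : ext (hd (by omega : 2 ≤ 3)) ![hermForm 3 F q cy cx, κ⁻¹] =
        hermForm 3 F q cy cx • (Pi.single 0 1 : Fin 3 → F) + κ⁻¹ • (Pi.single 1 1 : Fin 3 → F) := by
      have e1 : (![hermForm 3 F q cy cx, κ⁻¹] : Fin 2 → F) = hermForm 3 F q cy cx • (Pi.single 0 1 : Fin 2 → F) +
          κ⁻¹ • (Pi.single 1 1 : Fin 2 → F) := by
        ext i
        fin_cases i <;> simp
      rw [e1, ext_add, ext_smul, ext_smul, ext_single, ext_single]
      rfl
    rw [e, Matrix.mulVec_add, Matrix.mulVec_smul, Matrix.mulVec_smul, hg0, hg1, smul_smul, inv_mul_cancel₀ hκ0, one_smul,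
      hwdef]
    abel
  refine ⟨g * emb hF' (hd (by omega : 3 ≤ m + 2)) g', ![hermForm 3 F q cy cx, κ⁻¹], mt g'⁻¹ *ᵥ cz, ?_, ?_, ?_⟩
  · have : (Pi.single 0 1 : Fin (m + 2) → F) = ext (hd (by omega : 3 ≤ m + 2)) (Pi.single 0 1) := by
      rw [ext_single]; rfl
    rw [mt_mul, ← Matrix.mulVec_mulVec, this, mt_emb, EM_mulVec_ext, hg0, hgf, hcx]
  · have : ∀ v : Fin 2 → F, ext (hd (by omega : 2 ≤ m + 2)) v = ext (hd (by omega : 3 ≤ m + 2)) (ext (hd (by omega : 2 ≤ 3)) v) := by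
      intro v
      unfold ext
      rw [Matrix.mulVec_mulVec, PM_comp]
      rfl
    rw [mt_mul, ← Matrix.mulVec_mulVec, this, mt_emb, EM_mulVec_ext, ← hcy', hgf, hcy]
  · rw [mt_mul, ← Matrix.mulVec_mulVec, mt_emb, EM_mulVec_ext, Matrix.mulVec_mulVec, mt_mul_inv, Matrix.one_mulVec, hgf, hcz]

theorem tri_G3 {c₀ c₁ c₂ : D.Co} (h01 : D.R c₀ c₁) (h12 : D.R c₁ c₂)
    (hadj : hermForm (m + 2) F q (D.rho c₀) (D.rho c₂) * hermForm (m + 2) F q (D.rho c₀) (D.rho c₂) ^ q ≠ 1)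
    (hG : G3 F q m (D.rho c₀) (D.rho c₁) (D.rho c₂)) : D.R c₀ c₂ := by
  obtain ⟨s, v₁, v₂, hs0, hs1, hs2⟩ := exists_frame (hm := hm) hm hF hG (D.rho_unit _) (D.rho_unit _) (D.R_adj h01)
  obtain ⟨t, rfl⟩ := QuotientGroup.mk_surjective c₀
  obtain ⟨a, ha⟩ := stab_e0 hF ((D.p t)⁻¹ * s) (by
    rw [mt_mul, ← Matrix.mulVec_mulVec, hs0, D.rho_mk]
    unfold vec
    rw [Matrix.mulVec_mulVec, mt_inv_mul, Matrix.one_mulVec])
  have hst : D.p (t * D.at' a) = s := by rw [map_mul, D.p_at, ha, mul_inv_cancel_left]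
  rw [← D.mk_at t a] at h01 hadj ⊢
  exact D.tri_good (t * D.at' a) v₁ v₂ h01 h12 (by rw [hst]; exact hs1) (by rw [hst]; exact hs2) hadj

end Amal

end H60.Ph
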