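import Mathlib
import Cfsg.Agent.Lib.H60.PhD

/-!
Phan systems, part E: common neighbours in the graph of unit vectors (`q ≥ 4`).
-/

set_option autoImplicit false
set_option linter.unusedSectionVars false
set_option linter.unusedVariables false

namespace H60.Ph

open Matrix Cfsg H16.Herm

variable {F : Type*} [Field F] [Fintype F] {q : ℕ} {n : ℕ}

/-- adjacency of unit vectors -/
def Adj (q : ℕ) (u v : Fin n → F) : Prop := hermForm n F q u v * hermForm n F q u v ^ q ≠ 1

variable (hF : Fintype.card F = q ^ 2)
include hF

theorem Adj.symm' {u v : Fin n → F} (h : Adj q u v) : Adj q v u := by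
  unfold Adj at *
  rw [← hermForm_swap hF u v, pow_q_pow_q hF, mul_comm]
  exact h

theorem perp_symm {u v : Fin n → F} (h : hermForm n F q u v = 0) : hermForm n F q v u = 0 := by
  rw [← hermForm_swap hF, h, zero_pow_q hF]

theorem adj_of_perp {u v : Fin n → F} (h : hermForm n F q u v = 0) : Adj q u v := by
  unfold Adj
  rw [h, zero_mul]
  exact zero_ne_one

/-- the subspace perpendicular to a family -/
def perpS {ι : Type} (f : ι → (Fin n → F)) : Submodule F (Fin n → F) where
  carrier := {r | ∀ i, hermForm n F q r (f i) = 0}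
  add_mem' := fun {a b} ha hb i => by rw [hermForm_add_left, ha i, hb i, add_zero]
  zero_mem' := fun i => hermForm_zero_left _
  smul_mem' := fun c a ha i => by rw [hermForm_smul_left, ha i, mul_zero]

omit hF in
theorem q_ineq (hq : 4 ≤ q) : 3 * (q + 1) < q ^ 2 := by nlinarith

/-- common neighbour of three vectors, orthogonal to the first -/
theorem exists_three (hq : 4 ≤ q) (hn : 3 ≤ n) {a b p : Fin n → F} (ha : hermForm n F q a a = 1) :
    ∃ r : Fin n → F, hermForm n F q r r = 1 ∧ hermForm n F q r a = 0 ∧ Adj q r b ∧ Adj q r p := by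
  have hON : ON q (fun _ : Unit => a) := by
    intro i j
    simp [ha]
  obtain ⟨r1, h1, h1'⟩ := exists_nonvanish hF hON (κ := Empty) (fun k => k.elim) (by simp; omega)
  obtain ⟨r2, h2, h2'⟩ := exists_nonvanish hF hON (κ := Unit) (fun _ => b) (by simp; omega)
  obtain ⟨r3, h3, h3'⟩ := exists_nonvanish hF hON (κ := Unit) (fun _ => p) (by simp; omega)
  obtain ⟨r, hrY, hr⟩ := exists_all_ne hF (perpS (fun _ : Unit => a)) [fun r => hermForm n F q r r,
    fun r => hermForm n F q r r - hermForm n F q r b * hermForm n F q r b ^ q,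
    fun r => hermForm n F q r r - hermForm n F q r p * hermForm n F q r p ^ q] (by simpa using q_ineq hq) (by
      intro Q hQ
      simp only [List.mem_cons, List.not_mem_nil, or_false] at hQ
      rcases hQ with rfl | rfl | rfl
      · exact isHF_form hF
      · exact (isHF_form hF).sub (isHF_norm hF b)
      · exact (isHF_form hF).sub (isHF_norm hF p)) (by
      intro Q hQ
      simp only [List.mem_cons, List.not_mem_nil, or_false] at hQ
      rcases hQ with rfl | rfl | rfl
      · exact ⟨r1, h1, by simpa using h1'⟩
      · exact ⟨r2, h2, by simpa using h2'⟩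
      · exact ⟨r3, h3, by simpa using h3'⟩)
  have hr1 := hr _ List.mem_cons_self
  have hr2 := hr _ (List.mem_cons_of_mem _ List.mem_cons_self)
  have hr3 := hr _ (List.mem_cons_of_mem _ (List.mem_cons_of_mem _ List.mem_cons_self))
  obtain ⟨c, hc0, hc⟩ := exists_unit_smul hF hr1
  have key : ∀ x : Fin n → F, hermForm n F q r r - hermForm n F q r x * hermForm n F q r x ^ q ≠ 0 → Adj q (c • r) x := by
    intro x hx h
    apply hx
    rw [hermForm_smul_left, hermForm_smul_right] at hc
    rw [hermForm_smul_left, mul_pow] at h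
    have : c * c ^ q ≠ 0 := mul_ne_zero hc0 (pow_ne_zero _ hc0)
    apply mul_left_cancel₀ this
    linear_combination hc - h
  refine ⟨c • r, hc, ?_, key b hr2, key p hr3⟩
  rw [hermForm_smul_left, hrY (), mul_zero]

/-- a unit vector orthogonal to two given unit vectors -/
theorem exists_perp_two (hn : 4 ≤ n) {a p : Fin n → F} (ha : hermForm n F q a a = 1) (hp : hermForm n F q p p = 1) :
    ∃ r : Fin n → F, hermForm n F q r r = 1 ∧ hermForm n F q r a = 0 ∧ hermForm n F q r p = 0 := by
  set u := p - hermForm n F q p a • a with hu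
  clear_value u
  have hua : hermForm n F q u a = 0 := by rw [hu, hermForm_sub_left, hermForm_smul_left, ha, mul_one, sub_self]
  have hau := perp_symm hF hua
  have hpu : p = u + hermForm n F q p a • a := by rw [hu]; abel
  by_cases huu : hermForm n F q u u = 0
  · -- singular
    by_cases hu0 : u = 0
    · obtain ⟨r, hr, hra⟩ := exists_unit_perp hF (f := fun _ : Unit => a) (by intro i j; simp [ha]) (by simp; omega)
      refine ⟨r, hr, hra (), ?_⟩
      rw [hpu, hu0, zero_add, hermForm_smul_right, hra (), mul_zero]
    · have : ∃ v, hermForm n F q v u ≠ 0 := by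
        by_contra hcon
        push Not at hcon
        exact hu0 (eq_zero_of_forall_left hF hcon)
      obtain ⟨v, hv⟩ := this
      set w := v - hermForm n F q v a • a with hw
      clear_value w
      have hwa : hermForm n F q w a = 0 := by rw [hw, hermForm_sub_left, hermForm_smul_left, ha, mul_one, sub_self]
      have hwu : hermForm n F q w u ≠ 0 := by
        rw [hw, hermForm_sub_left, hermForm_smul_left, hau, mul_zero, sub_zero]
        exact hv
      obtain ⟨t, ht⟩ := exists_common hF [(hermForm n F q w w, hermForm n F q w u, hermForm n F q u w, hermForm n F q u u)]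
        (by have := one_lt_q hF; simp; nlinarith) (by
          intro z hz
          rw [List.mem_singleton] at hz
          subst hz
          intro h0
          rw [Prod.ext_iff, Prod.ext_iff] at h0
          exact hwu h0.2.1)
      have ht' := ht _ (List.mem_singleton_self _)
      simp only at ht'
      set g₀ := w + t • u with hg₀
      clear_value g₀
      have hg₀g₀ : hermForm n F q g₀ g₀ ≠ 0 := by
        rw [hg₀]
        simp only [hermForm_add_left, hermForm_add_right hF, hermForm_smul_left, hermForm_smul_right]
        convert ht' using 1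
        ring
      obtain ⟨c, hc0, hc⟩ := exists_unit_smul hF hg₀g₀
      set g := c • g₀ with hg
      clear_value g
      have hga : hermForm n F q g a = 0 := by
        rw [hg, hg₀, hermForm_smul_left, hermForm_add_left, hermForm_smul_left, hwa, hua, mul_zero, add_zero, mul_zero]
      have hgu : hermForm n F q g u ≠ 0 := by
        rw [hg, hg₀, hermForm_smul_left, hermForm_add_left, hermForm_smul_left, huu, mul_zero, add_zero]
        exact mul_ne_zero hc0 hwu
      have hug : hermForm n F q u g ≠ 0 := fun h => hgu (perp_symm hF h)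
      set k₀ := u - hermForm n F q u g • g with hk₀
      clear_value k₀
      have hk₀g : hermForm n F q k₀ g = 0 := by rw [hk₀, hermForm_sub_left, hermForm_smul_left, hc, mul_one, sub_self]
      have hk₀a : hermForm n F q k₀ a = 0 := by rw [hk₀, hermForm_sub_left, hermForm_smul_left, hga, hua, mul_zero, sub_zero]
      have hk₀k₀ : hermForm n F q k₀ k₀ ≠ 0 := by
        have : hermForm n F q k₀ k₀ = - (hermForm n F q u g * hermForm n F q u g ^ q) := by
          have h1 : hermForm n F q k₀ k₀ = hermForm n F q k₀ u := by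
            conv_lhs => rw [hk₀]
            rw [hermForm_sub_right hF, hermForm_smul_right, ← hk₀, hk₀g, mul_zero, sub_zero]
          rw [h1, hk₀, hermForm_sub_left, hermForm_smul_left, huu, ← hermForm_swap hF u g]
          ring
        rw [this, neg_ne_zero]
        exact mul_ne_zero hug (pow_ne_zero _ hug)
      obtain ⟨d, hd0, hd⟩ := exists_unit_smul hF hk₀k₀
      set k := d • k₀ with hk
      clear_value k
      have hkg : hermForm n F q k g = 0 := by rw [hk, hermForm_smul_left, hk₀g, mul_zero]
      have hka : hermForm n F q k a = 0 := by rw [hk, hermForm_smul_left, hk₀a, mul_zero]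
      have hON : ON q (![a, g, k] : Fin 3 → (Fin n → F)) := by
        intro i j
        fin_cases i <;> fin_cases j <;> simp [ha, hc, hd, hga, hka, hkg, perp_symm hF hga, perp_symm hF hka, perp_symm hF hkg]
      obtain ⟨r, hr, hrf⟩ := exists_unit_perp hF hON (by simp; omega)
      have hra : hermForm n F q r a = 0 := hrf 0
      have hrg : hermForm n F q r g = 0 := hrf 1
      have hrk : hermForm n F q r k = 0 := hrf 2
      have hru : hermForm n F q r u = 0 := by
        have : u = d⁻¹ • k + hermForm n F q u g • g := by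
          rw [hk, smul_smul, inv_mul_cancel₀ hd0, one_smul, hk₀]
          abel
        rw [this, hermForm_add_right hF, hermForm_smul_right, hermForm_smul_right, hrk, hrg, mul_zero, mul_zero, add_zero]
      refine ⟨r, hr, hra, ?_⟩
      rw [hpu, hermForm_add_right hF, hermForm_smul_right, hra, hru, mul_zero, add_zero]
  · obtain ⟨d, hd0, hd⟩ := exists_unit_smul hF huu
    have hON : ON q (![a, d • u] : Fin 2 → (Fin n → F)) := by
      intro i j
      fin_cases i <;> fin_cases j <;> simp [ha, hd, hua, hermForm_smul_left, hermForm_smul_right, hau]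
    obtain ⟨r, hr, hrf⟩ := exists_unit_perp hF hON (by simp; omega)
    have hra : hermForm n F q r a = 0 := hrf 0
    have hru' : hermForm n F q r (d • u) = 0 := hrf 1
    have hru : hermForm n F q r u = 0 := by
      rw [hermForm_smul_right] at hru'
      exact (mul_eq_zero.mp hru').resolve_left (pow_ne_zero _ hd0)
    refine ⟨r, hr, hra, ?_⟩
    rw [hpu, hermForm_add_right hF, hermForm_smul_right, hra, hru, mul_zero, add_zero]

/-- for `a`, `c` nonadjacent, `r` orthogonal to both and `b` adjacent to `a`, a common neighbour -/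
theorem exists_quad (hq : 4 ≤ q) {a b c r : Fin n → F} (ha : hermForm n F q a a = 1)
    (hac : ¬ Adj q a c) (hr : hermForm n F q r r = 1) (hra : hermForm n F q r a = 0) (hrc : hermForm n F q r c = 0)
    (hab : Adj q a b) :
    ∃ e : Fin n → F, hermForm n F q e e = 1 ∧ Adj q e a ∧ Adj q e c ∧ Adj q e r ∧ Adj q e b := by
  have har := perp_symm hF hra
  unfold Adj at hac hab
  push Not at hac
  obtain ⟨t, ht⟩ := exists_common hF [((1 : F), (0 : F), (0 : F), (1 : F)), ((0 : F), (0 : F), (1 : F), (0 : F)),
    (1 - hermForm n F q a b * hermForm n F q a b ^ q, - (hermForm n F q a b * hermForm n F q r b ^ q),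
      - (hermForm n F q r b * hermForm n F q a b ^ q), 1 - hermForm n F q r b * hermForm n F q r b ^ q)]
      (by simpa using q_ineq hq) (by
      intro z hz
      simp only [List.mem_cons, List.not_mem_nil, or_false] at hz
      rcases hz with rfl | rfl | rfl
      · intro h0
        rw [Prod.ext_iff] at h0
        exact one_ne_zero h0.1
      · intro h0
        rw [Prod.ext_iff, Prod.ext_iff, Prod.ext_iff] at h0
        exact one_ne_zero h0.2.2.1
      · intro h0
        rw [Prod.ext_iff] at h0
        exact hab (sub_eq_zero.mp h0.1).symm)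
  have h1 := ht _ List.mem_cons_self
  have h2 := ht _ (List.mem_cons_of_mem _ List.mem_cons_self)
  have h3 := ht _ (List.mem_cons_of_mem _ (List.mem_cons_of_mem _ List.mem_cons_self))
  simp only [zero_mul, add_zero, one_mul, zero_add] at h1 h2 h3
  set e₀ := a + t • r with he₀
  clear_value e₀
  have hee : hermForm n F q e₀ e₀ = 1 + t ^ (q + 1) := by
    rw [he₀]
    simp only [hermForm_add_left, hermForm_add_right hF, hermForm_smul_left, hermForm_smul_right, ha, hr, hra, har]
    ring
  obtain ⟨d, hd0, hd⟩ := exists_unit_smul hF (u := e₀) (by rw [hee]; exact h1)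
  have hdd : d * d ^ q * (1 + t ^ (q + 1)) = 1 := by
    rw [hermForm_smul_left, hermForm_smul_right, hee] at hd
    linear_combination hd
  have hdn : d * d ^ q ≠ 0 := mul_ne_zero hd0 (pow_ne_zero _ hd0)
  have key : ∀ x : Fin n → F, (1 + t ^ (q + 1)) - hermForm n F q e₀ x * hermForm n F q e₀ x ^ q ≠ 0 → Adj q (d • e₀) x := by
    intro x hx h
    apply hx
    rw [hermForm_smul_left, mul_pow] at h
    apply mul_left_cancel₀ hdn
    linear_combination hdd - h
  refine ⟨d • e₀, hd, key a ?_, key c ?_, key r ?_, key b ?_⟩
  · have : hermForm n F q e₀ a = 1 := by rw [he₀, hermForm_add_left, hermForm_smul_left, ha, hra, mul_zero, add_zero]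
    rw [this, one_pow, mul_one, add_sub_cancel_left]
    exact pow_ne_zero _ h2
  · have : hermForm n F q e₀ c = hermForm n F q a c := by
      rw [he₀, hermForm_add_left, hermForm_smul_left, hrc, mul_zero, add_zero]
    rw [this, hac, add_sub_cancel_left]
    exact pow_ne_zero _ h2
  · have : hermForm n F q e₀ r = t := by rw [he₀, hermForm_add_left, hermForm_smul_left, har, hr, mul_one, zero_add]
    rw [this]
    have : (1 + t ^ (q + 1)) - t * t ^ q = 1 := by ring
    rw [this]
    exact one_ne_zero
  · have : hermForm n F q e₀ b = hermForm n F q a b + t * hermForm n F q r b := by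
      rw [he₀, hermForm_add_left, hermForm_smul_left]
    rw [this, add_pow_q hF, mul_pow]
    convert h3 using 1
    ring

/-- the special choice for triangles -/
theorem exists_tri_aux {m : ℕ} (hm : 2 ≤ m) {a b c : Fin (m + 2) → F} (ha : hermForm (m + 2) F q a a = 1)
    (hb : hermForm (m + 2) F q b b = 1) (hc : hermForm (m + 2) F q c c = 1) (hab : Adj q a b) (hbc : Adj q b c)
    (hac : Adj q a c) (K : List F) (hK : (K.length) * (q + 1) < q ^ 2) (hKf : ∀ κ ∈ K, κ ^ q = κ)
    (hK0 : (0 : F) ∈ K) (hK1 : (1 : F) ∈ K)
    (hKa : (1 - hermForm (m + 2) F q c a * hermForm (m + 2) F q c a ^ q)⁻¹ ∈ K)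
    (hKb : (1 - hermForm (m + 2) F q c b * hermForm (m + 2) F q c b ^ q)⁻¹ ∈ K) :
    ∃ r : Fin (m + 2) → F, hermForm (m + 2) F q r r = 1 ∧ Adj q r a ∧ Adj q r b ∧ Adj q r c ∧
      Amal.G3 F q m a b r ∧ Amal.G3 F q m b c r ∧ Amal.G3 F q m a c r := by
  -- second vector of the plane of `a`, `b`
  have hba' := hab.symm' hF
  set b₁ := b - hermForm (m + 2) F q b a • a with hb₁
  clear_value b₁
  have hb₁a : hermForm (m + 2) F q b₁ a = 0 := by rw [hb₁, hermForm_sub_left, hermForm_smul_left, ha, mul_one, sub_self]
  have hb₁b₁ : hermForm (m + 2) F q b₁ b₁ = 1 - hermForm (m + 2) F q b a * hermForm (m + 2) F q b a ^ q := by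
    have h1 : hermForm (m + 2) F q b₁ b₁ = hermForm (m + 2) F q b₁ b := by
      conv_lhs => rw [hb₁]
      rw [hermForm_sub_right hF, hermForm_smul_right, ← hb₁, hb₁a, mul_zero, sub_zero]
    rw [h1, hb₁, hermForm_sub_left, hermForm_smul_left, hb, ← hermForm_swap hF b a]
  obtain ⟨d, hd0, hd⟩ := exists_unit_smul hF (u := b₁) (by
    rw [hb₁b₁]
    intro h
    exact hba' (sub_eq_zero.mp h).symm)
  set b₂ := d • b₁ with hb₂
  clear_value b₂
  have hb₂a : hermForm (m + 2) F q b₂ a = 0 := by rw [hb₂, hermForm_smul_left, hb₁a, mul_zero]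
  have hbexp : b = d⁻¹ • b₂ + hermForm (m + 2) F q b a • a := by
    rw [hb₂, smul_smul, inv_mul_cancel₀ hd0, one_smul, hb₁]
    abel
  have hON : ON q (![a, b₂] : Fin 2 → (Fin (m + 2) → F)) := by
    intro i j
    fin_cases i <;> fin_cases j <;> simp [ha, hd, hb₂a, perp_symm hF hb₂a]
  -- the vector
  obtain ⟨r₀, hrY, hr⟩ := exists_all_ne hF (perpS (![a, b₂] : Fin 2 → (Fin (m + 2) → F)))
    (K.map (fun κ => fun r => hermForm (m + 2) F q r r - κ * (hermForm (m + 2) F q r c * hermForm (m + 2) F q r c ^ q)))
    (by rw [List.length_map]; exact hK) (by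
      intro Q hQ
      rw [List.mem_map] at hQ
      obtain ⟨κ, hκ, rfl⟩ := hQ
      refine (isHF_form hF).sub ?_
      intro r s
      obtain ⟨B, C, h⟩ := isHF_norm hF c r s
      exact ⟨κ * B, κ * C, fun t => by
        have h' := h t
        beta_reduce at h' ⊢
        linear_combination κ * h'⟩) (by
      intro Q hQ
      rw [List.mem_map] at hQ
      obtain ⟨κ, hκ, rfl⟩ := hQ
      by_cases hκ0 : κ = 0
      · obtain ⟨r1, h1, h1'⟩ := exists_nonvanish hF hON (κ := Empty) (fun k => k.elim) (by simp; omega)
        exact ⟨r1, h1, by simpa [hκ0] using h1'⟩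
      · obtain ⟨w, hw0, hw⟩ := norm_surj hF hκ0 (hKf κ hκ)
        obtain ⟨r1, h1, h1'⟩ := exists_nonvanish hF hON (κ := Unit) (fun _ => w • c) (by simp; omega)
        refine ⟨r1, h1, ?_⟩
        simp only [Finset.univ_unique, Finset.sum_singleton, hermForm_smul_right, mul_pow, pow_q_pow_q hF] at h1'
        rw [← hw]
        convert h1' using 1
        ring)
  have hr' : ∀ κ ∈ K, hermForm (m + 2) F q r₀ r₀ - κ * (hermForm (m + 2) F q r₀ c * hermForm (m + 2) F q r₀ c ^ q) ≠ 0 :=
    fun κ hκ => hr _ (List.mem_map.mpr ⟨κ, hκ, rfl⟩)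
  have hr00 : hermForm (m + 2) F q r₀ r₀ ≠ 0 := by
    have := hr' 0 hK0
    rwa [zero_mul, sub_zero] at this
  obtain ⟨e, he0, he⟩ := exists_unit_smul hF hr00
  set r := e • r₀ with hrdef
  clear_value r
  have hra : hermForm (m + 2) F q r a = 0 := by
    rw [hrdef, hermForm_smul_left, show hermForm (m + 2) F q r₀ a = 0 from hrY 0, mul_zero]
  have hrb₂ : hermForm (m + 2) F q r b₂ = 0 := by
    rw [hrdef, hermForm_smul_left, show hermForm (m + 2) F q r₀ b₂ = 0 from hrY 1, mul_zero]
  have hrb : hermForm (m + 2) F q r b = 0 := by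
    rw [hbexp, hermForm_add_right hF, hermForm_smul_right, hermForm_smul_right, hra, hrb₂, mul_zero, mul_zero, add_zero]
  have hrK : ∀ κ ∈ K, 1 - κ * (hermForm (m + 2) F q r c * hermForm (m + 2) F q r c ^ q) ≠ 0 := by
    intro κ hκ h
    apply hr' κ hκ
    have hee : e * e ^ q ≠ 0 := mul_ne_zero he0 (pow_ne_zero _ he0)
    apply mul_left_cancel₀ hee
    rw [hrdef, hermForm_smul_left, hermForm_smul_right] at he
    rw [hrdef, hermForm_smul_left, mul_pow] at h
    linear_combination he + h
  have har := perp_symm hF hra
  have hbr := perp_symm hF hrb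
  -- a good triple from a unit vector `x` orthogonal to `r` and `c` with a nonvanishing expression
  have good : ∀ x : Fin (m + 2) → F, hermForm (m + 2) F q x x = 1 → hermForm (m + 2) F q r x = 0 →
      hermForm (m + 2) F q c x * hermForm (m + 2) F q c x ^ q ≠ 1 →
      1 - (1 - hermForm (m + 2) F q c x * hermForm (m + 2) F q c x ^ q)⁻¹ *
        (hermForm (m + 2) F q r c * hermForm (m + 2) F q r c ^ q) ≠ 0 → Amal.G3 F q m x c r := by
    intro x hx hrx hcx hne
    have hxr := perp_symm hF hrx
    set z := c - hermForm (m + 2) F q c x • x - hermForm (m + 2) F q c r • r with hz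
    clear_value z
    have hzx : hermForm (m + 2) F q z x = 0 := by
      rw [hz, hermForm_sub_left, hermForm_sub_left, hermForm_smul_left, hermForm_smul_left, hx, hrx]
      ring
    have hzr : hermForm (m + 2) F q z r = 0 := by
      rw [hz, hermForm_sub_left, hermForm_sub_left, hermForm_smul_left, hermForm_smul_left, he, hxr]
      ring
    have hzz : hermForm (m + 2) F q z z = 1 - hermForm (m + 2) F q c x * hermForm (m + 2) F q c x ^ q -
        hermForm (m + 2) F q r c * hermForm (m + 2) F q r c ^ q := by
      have h1 : hermForm (m + 2) F q z z = hermForm (m + 2) F q z c := by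
        conv_lhs => rw [hz]
        rw [hermForm_sub_right hF, hermForm_sub_right hF, hermForm_smul_right, hermForm_smul_right, ← hz, hzx, hzr]
        ring
      rw [h1, hz, hermForm_sub_left, hermForm_sub_left, hermForm_smul_left, hermForm_smul_left, hc,
        ← hermForm_swap hF c x, ← hermForm_swap hF r c]
      ring
    have hne1 : 1 - hermForm (m + 2) F q c x * hermForm (m + 2) F q c x ^ q ≠ 0 := fun h => hcx (sub_eq_zero.mp h).symm
    have hzz0 : hermForm (m + 2) F q z z ≠ 0 := by
      rw [hzz]
      intro h
      apply hne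
      apply mul_left_cancel₀ hne1
      rw [mul_sub, ← mul_assoc, mul_inv_cancel₀ hne1]
      linear_combination h
    obtain ⟨k, hk0, hk⟩ := exists_unit_smul hF hzz0
    refine ⟨![x, r, k • z], ?_, ?_⟩
    · intro i j
      fin_cases i <;> fin_cases j <;> simp [hx, he, hk, hrx, hxr, hermForm_smul_left, hermForm_smul_right, hzx, hzr,
        perp_symm hF hzx, perp_symm hF hzr]
    · intro w hw
      simp only [List.mem_cons, List.not_mem_nil, or_false] at hw
      rcases hw with rfl | rfl | rfl
      · exact ⟨![1, 0, 0], by simp [Fin.sum_univ_three]⟩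
      · refine ⟨![hermForm (m + 2) F q w x, hermForm (m + 2) F q w r, k⁻¹], ?_⟩
        simp only [Fin.sum_univ_three, Matrix.cons_val_zero, Matrix.cons_val_one, Matrix.cons_val_two, Matrix.head_cons,
          Matrix.tail_cons]
        rw [smul_smul, inv_mul_cancel₀ hk0, one_smul, hz]
        abel
      · exact ⟨![0, 1, 0], by simp [Fin.sum_univ_three]⟩
  refine ⟨r, he, adj_of_perp hF hra, adj_of_perp hF hrb, ?_, ?_, ?_, ?_⟩
  · have := hrK 1 hK1
    rw [one_mul] at this
    exact fun h => this (by rw [h, sub_self])
  · refine ⟨![a, b₂, r], ?_, ?_⟩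
    · intro i j
      fin_cases i <;> fin_cases j <;> simp [ha, hd, he, hb₂a, hra, har, hrb₂, perp_symm hF hrb₂, perp_symm hF hb₂a]
    · intro w hw
      simp only [List.mem_cons, List.not_mem_nil, or_false] at hw
      rcases hw with rfl | rfl | rfl
      · exact ⟨![1, 0, 0], by simp [Fin.sum_univ_three]⟩
      · refine ⟨![hermForm (m + 2) F q w a, d⁻¹, 0], ?_⟩
        simp only [Fin.sum_univ_three, Matrix.cons_val_zero, Matrix.cons_val_one, Matrix.cons_val_two, Matrix.head_cons,
          Matrix.tail_cons]
        rw [zero_smul, add_zero]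
        exact hbexp.trans (add_comm _ _)
      · exact ⟨![0, 0, 1], by simp [Fin.sum_univ_three]⟩
  · exact good b hb hrb (hbc.symm' hF) (hrK _ hKb)
  · exact good a ha hra (hac.symm' hF) (hrK _ hKa)

omit hF in
theorem G3.perm {m : ℕ} {x y z x' y' z' : Fin (m + 2) → F} (h : Amal.G3 F q m x y z)
    (h' : ∀ w ∈ [x', y', z'], w ∈ [x, y, z]) : Amal.G3 F q m x' y' z' := by
  obtain ⟨f, hf, hw⟩ := h
  exact ⟨f, hf, fun w hw' => hw w (h' w hw')⟩

theorem exists_tri {m : ℕ} (hq : 4 ≤ q) (hm : 2 ≤ m) {a b c : Fin (m + 2) → F} (ha : hermForm (m + 2) F q a a = 1)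
    (hb : hermForm (m + 2) F q b b = 1) (hc : hermForm (m + 2) F q c c = 1) (hab : Adj q a b) (hbc : Adj q b c)
    (hac : Adj q a c) :
    ∃ r : Fin (m + 2) → F, hermForm (m + 2) F q r r = 1 ∧ Adj q r a ∧ Adj q r b ∧ Adj q r c ∧
      Amal.G3 F q m a b r ∧ Amal.G3 F q m b c r ∧ Amal.G3 F q m a c r := by
  have hnf : ∀ x : F, (x * x ^ q) ^ q = x * x ^ q := by
    intro x
    rw [mul_pow, pow_q_pow_q hF, mul_comm]
  have hnf' : ∀ x : F, ((1 - x * x ^ q)⁻¹) ^ q = (1 - x * x ^ q)⁻¹ := by
    intro x
    rw [inv_pow, sub_pow_q hF, hnf, one_pow]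
  have hcaeq : ∀ x y : Fin (m + 2) → F, hermForm (m + 2) F q x y * hermForm (m + 2) F q x y ^ q =
      hermForm (m + 2) F q y x * hermForm (m + 2) F q y x ^ q := by
    intro x y
    rw [← hermForm_swap hF x y, pow_q_pow_q hF, mul_comm]
  rcases Nat.lt_or_ge 4 q with h5 | h4
  · apply exists_tri_aux hF hm ha hb hc hab hbc hac
      [0, 1, (1 - hermForm (m + 2) F q c a * hermForm (m + 2) F q c a ^ q)⁻¹,
        (1 - hermForm (m + 2) F q c b * hermForm (m + 2) F q c b ^ q)⁻¹]
    · simp; nlinarith
    · intro κ hκ
      simp only [List.mem_cons, List.not_mem_nil, or_false] at hκ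
      rcases hκ with rfl | rfl | rfl | rfl
      · exact zero_pow_q hF
      · exact one_pow q
      · exact hnf' _
      · exact hnf' _
    all_goals simp
  · have hq4 : q = 4 := le_antisymm h4 hq
    -- characteristic two
    have hnorm : ∀ x : F, x * x ^ q ≠ 0 → x * x ^ q ≠ 1 → (x * x ^ q) ^ 2 + (x * x ^ q) + 1 = 0 := by
      intro x h0 h1
      have h := hnf x
      rw [hq4] at h h0 h1 ⊢
      set y := x * x ^ 4 with hy
      clear_value y
      have h3 : y ^ 3 = 1 := by
        apply mul_left_cancel₀ h0
        rw [mul_one, ← pow_succ']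
        exact h
      apply mul_left_cancel₀ (sub_ne_zero.mpr h1)
      linear_combination h3
    -- three elements good up to a relabelling
    by_cases hA : hermForm (m + 2) F q c a * hermForm (m + 2) F q c a ^ q = 0 ∨
        hermForm (m + 2) F q c b * hermForm (m + 2) F q c b ^ q = 0 ∨
        hermForm (m + 2) F q c a * hermForm (m + 2) F q c a ^ q = hermForm (m + 2) F q c b * hermForm (m + 2) F q c b ^ q
    · rcases hA with h | h | h
      · apply exists_tri_aux hF hm ha hb hc hab hbc hac
          [0, 1, (1 - hermForm (m + 2) F q c b * hermForm (m + 2) F q c b ^ q)⁻¹]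
        · simpa using q_ineq hq
        · intro κ hκ
          simp only [List.mem_cons, List.not_mem_nil, or_false] at hκ
          rcases hκ with rfl | rfl | rfl
          · exact zero_pow_q hF
          · exact one_pow q
          · exact hnf' _
        all_goals simp [h]
      · apply exists_tri_aux hF hm ha hb hc hab hbc hac
          [0, 1, (1 - hermForm (m + 2) F q c a * hermForm (m + 2) F q c a ^ q)⁻¹]
        · simpa using q_ineq hq
        · intro κ hκ
          simp only [List.mem_cons, List.not_mem_nil, or_false] at hκ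
          rcases hκ with rfl | rfl | rfl
          · exact zero_pow_q hF
          · exact one_pow q
          · exact hnf' _
        all_goals simp [h]
      · apply exists_tri_aux hF hm ha hb hc hab hbc hac
          [0, 1, (1 - hermForm (m + 2) F q c a * hermForm (m + 2) F q c a ^ q)⁻¹]
        · simpa using q_ineq hq
        · intro κ hκ
          simp only [List.mem_cons, List.not_mem_nil, or_false] at hκ
          rcases hκ with rfl | rfl | rfl
          · exact zero_pow_q hF
          · exact one_pow q
          · exact hnf' _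
        all_goals simp [h]
    · push Not at hA
      obtain ⟨hA1, hA2, hA3⟩ := hA
      have e1 := hnorm _ hA1 (hac.symm' hF)
      have e2 := hnorm _ hA2 (hbc.symm' hF)
      have hn3 := fun h0 => hnorm (hermForm (m + 2) F q a b) h0 hab
      set α := hermForm (m + 2) F q c a * hermForm (m + 2) F q c a ^ q with hα
      clear_value α
      set β := hermForm (m + 2) F q c b * hermForm (m + 2) F q c b ^ q with hβ
      clear_value β
      set γ := hermForm (m + 2) F q a b * hermForm (m + 2) F q a b ^ q with hγ
      clear_value γ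
      -- now relabel with special vertex `a`: values `α` and `γ`
      have hγ' : γ = 0 ∨ γ = α ∨ γ = β := by
        by_cases h0 : γ = 0
        · exact Or.inl h0
        right
        have e3 : γ ^ 2 + γ + 1 = 0 := hn3 h0
        have f1 : α + β + 1 = 0 := by
          apply mul_left_cancel₀ (sub_ne_zero.mpr hA3)
          linear_combination e1 - e2
        by_cases h1 : γ = α
        · exact Or.inl h1
        right
        have f2 : γ + α + 1 = 0 := by
          apply mul_left_cancel₀ (sub_ne_zero.mpr h1)
          linear_combination e3 - e1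
        linear_combination f2 - f1
      rcases hγ' with h | h | h
      · -- special vertex a, values α, γ = 0
        obtain ⟨r, h1, h2, h3, h4, h5, h6, h7⟩ := exists_tri_aux hF hm hc hb ha (hbc.symm' hF) (hab.symm' hF) (hac.symm' hF)
          [0, 1, (1 - hermForm (m + 2) F q a c * hermForm (m + 2) F q a c ^ q)⁻¹] (by simpa using q_ineq hq) (by
          intro κ hκ
          simp only [List.mem_cons, List.not_mem_nil, or_false] at hκ
          rcases hκ with rfl | rfl | rfl
          · exact zero_pow_q hF
          · exact one_pow q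
          · exact hnf' _) (by simp) (by simp) (by simp) (by rw [← hγ, h]; simp)
        exact ⟨r, h1, h4, h3, h2, G3.perm h6 (by simp), G3.perm h5 (by simp), G3.perm h7 (by simp)⟩
      · obtain ⟨r, h1, h2, h3, h4, h5, h6, h7⟩ := exists_tri_aux hF hm hc hb ha (hbc.symm' hF) (hab.symm' hF) (hac.symm' hF)
          [0, 1, (1 - hermForm (m + 2) F q a c * hermForm (m + 2) F q a c ^ q)⁻¹] (by simpa using q_ineq hq) (by
          intro κ hκ
          simp only [List.mem_cons, List.not_mem_nil, or_false] at hκ
          rcases hκ with rfl | rfl | rfl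
          · exact zero_pow_q hF
          · exact one_pow q
          · exact hnf' _) (by simp) (by simp) (by simp) (by rw [← hγ, h, hα, hcaeq c a]; simp)
        exact ⟨r, h1, h4, h3, h2, G3.perm h6 (by simp), G3.perm h5 (by simp), G3.perm h7 (by simp)⟩
      · -- special vertex b, values β, γ
        obtain ⟨r, h1, h2, h3, h4, h5, h6, h7⟩ := exists_tri_aux hF hm ha hc hb hac (hbc.symm' hF) hab
          [0, 1, (1 - hermForm (m + 2) F q b a * hermForm (m + 2) F q b a ^ q)⁻¹] (by simpa using q_ineq hq) (by
          intro κ hκ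
          simp only [List.mem_cons, List.not_mem_nil, or_false] at hκ
          rcases hκ with rfl | rfl | rfl
          · exact zero_pow_q hF
          · exact one_pow q
          · exact hnf' _) (by simp) (by simp) (by simp) (by rw [hcaeq b a, ← hγ, h, hβ, hcaeq c b]; simp)
        exact ⟨r, h1, h2, h4, h3, G3.perm h7 (by simp), G3.perm h6 (by simp), G3.perm h5 (by simp)⟩

end H60.Ph
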