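import Mathlib
import Cfsg.Agent.Lib.H60.PhE

/-!
Phan systems, part F: simple connectedness and the extension step.
-/

set_option autoImplicit false
set_option linter.unusedSectionVars false

namespace H60.Ph

open Matrix Cfsg H16.Herm

variable {F : Type*} [Field F] [Fintype F] {q : ℕ}

namespace Amal

variable {hF : Fintype.card F = q ^ 2} {m : ℕ} {hm : 2 ≤ m} {T : Type*} [Group T] (D : Amal hF m hm T)

theorem tri (hq : 4 ≤ q) {c₀ c₁ c₂ : D.Co} (h01 : D.R c₀ c₁) (h12 : D.R c₁ c₂) (hadj : Adj q (D.rho c₀) (D.rho c₂)) :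
    D.R c₀ c₂ := by
  obtain ⟨r, hr, hr0, hr1, hr2, g1, g2, g3⟩ := exists_tri hF hq hm (D.rho_unit c₀) (D.rho_unit c₁) (D.rho_unit c₂)
    (D.R_adj h01) (D.R_adj h12) hadj
  obtain ⟨c, hc, rfl⟩ := D.R_exists c₀ r hr (hr0.symm' hF)
  have e1 : D.R c₁ c := D.tri_G3 (D.R_symm h01) hc (hr1.symm' hF) (G3.perm g1 (by simp))
  have e2 : D.R c c₂ := D.tri_G3 (D.R_symm e1) h12 hr2 (G3.perm g2 (by simp))
  exact D.tri_G3 hc e2 hadj (G3.perm g3 (by simp))

/-- a quadrangle with a diagonal path orthogonal to both ends -/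
theorem quad_aux (hq : 4 ≤ q) {c₀ c₁ c₂ d₁ d₂ : D.Co} (h01 : D.R c₀ c₁) (h12 : D.R c₁ c₂) (k01 : D.R c₀ d₁) (k12 : D.R d₁ d₂)
    (h : D.rho c₂ = D.rho d₂) (hna : ¬ Adj q (D.rho c₀) (D.rho c₂)) (hr0 : hermForm (m + 2) F q (D.rho d₁) (D.rho c₀) = 0)
    (hr2 : hermForm (m + 2) F q (D.rho d₁) (D.rho c₂) = 0) : c₂ = d₂ := by
  obtain ⟨e, he, hea, hec, her, heb⟩ := exists_quad hF hq (D.rho_unit c₀) hna (D.rho_unit d₁) hr0 hr2
    (b := D.rho c₁) (D.R_adj h01)
  obtain ⟨c, hc, rfl⟩ := D.R_exists c₀ e he (hea.symm' hF)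
  have e1 : D.R c c₁ := D.tri hq (D.R_symm hc) h01 heb
  have e2 : D.R c c₂ := D.tri hq e1 h12 hec
  have e3 : D.R c d₁ := D.tri hq (D.R_symm hc) k01 her
  have e4 : D.R c d₂ := D.tri hq e3 k12 (by rw [← h]; exact hec)
  exact D.R_unique e2 e4 h

theorem quad (hq : 4 ≤ q) {c₀ c₁ c₂ d₁ d₂ : D.Co} (h01 : D.R c₀ c₁) (h12 : D.R c₁ c₂) (k01 : D.R c₀ d₁) (k12 : D.R d₁ d₂)
    (h : D.rho c₂ = D.rho d₂) : c₂ = d₂ := by
  by_cases hA : Adj q (D.rho c₀) (D.rho c₂)
  · have e1 := D.tri hq h01 h12 hA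
    have e2 := D.tri hq k01 k12 (by rw [← h]; exact hA)
    exact D.R_unique e1 e2 h
  · obtain ⟨r, hr, hr0, hr2⟩ := exists_perp_two hF (by omega) (D.rho_unit c₀) (D.rho_unit c₂)
    obtain ⟨c, hc, rfl⟩ := D.R_exists c₀ r hr ((adj_of_perp hF hr0).symm' hF)
    obtain ⟨c', hc', hc'2⟩ := D.R_exists c (D.rho c₂) (D.rho_unit _) (adj_of_perp hF hr2)
    have e1 : c₂ = c' := D.quad_aux hq h01 h12 hc hc' hc'2.symm hA hr0 hr2
    have e2 : d₂ = c' := D.quad_aux hq k01 k12 hc hc' (by rw [← h, hc'2]) (by rw [← h]; exact hA) hr0 (by rw [← h]; exact hr2)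
    rw [e1, e2]

/-- two step neighbours -/
def W (c : D.Co) (p : Fin (m + 2) → F) (x : D.Co) : Prop := ∃ r, D.R c r ∧ D.R r x ∧ D.rho x = p

theorem W_unique (hq : 4 ≤ q) {c : D.Co} {p : Fin (m + 2) → F} {x y : D.Co} (hx : D.W c p x) (hy : D.W c p y) : x = y := by
  obtain ⟨r, h1, h2, h3⟩ := hx
  obtain ⟨r', h1', h2', h3'⟩ := hy
  exact D.quad hq h1 h2 h1' h2' (by rw [h3, h3'])

theorem W_step (hq : 4 ≤ q) {c c' : D.Co} (h : D.R c c') {p : Fin (m + 2) → F} (hp : hermForm (m + 2) F q p p = 1) {x : D.Co}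
    (hx : D.W c p x) : D.W c' p x := by
  obtain ⟨r, hr, hr0, hr1, hr2⟩ := exists_three hF hq (by omega) (a := D.rho c) (b := D.rho c') (p := p) (D.rho_unit c)
  obtain ⟨d, hd, rfl⟩ := D.R_exists c r hr ((adj_of_perp hF hr0).symm' hF)
  have e1 : D.R c' d := D.tri hq (D.R_symm h) hd (hr1.symm' hF)
  obtain ⟨y, hy, hyp⟩ := D.R_exists d p hp hr2
  have : x = y := D.W_unique hq hx ⟨d, hd, hy, hyp⟩
  subst this
  exact ⟨d, e1, hy, hyp⟩

theorem W_self (hq : 4 ≤ q) (c : D.Co) : D.W c (D.rho c) c := by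
  obtain ⟨r, hr, hr0, hr1, hr2⟩ := exists_three hF hq (by omega) (a := D.rho c) (b := D.rho c) (p := D.rho c) (D.rho_unit c)
  obtain ⟨d, hd, _⟩ := D.R_exists c r hr ((adj_of_perp hF hr0).symm' hF)
  exact ⟨d, hd, D.R_symm hd, rfl⟩

theorem eq_of_conn (hq : 4 ≤ q) {c c' : D.Co} (h : Relation.ReflTransGen D.R c c') (hρ : D.rho c = D.rho c') : c = c' := by
  have key : ∀ c', Relation.ReflTransGen D.R c c' → D.W c' (D.rho c) c := by
    intro c' h
    induction h with
    | refl => exact D.W_self hq c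
    | tail _ h1 ih => exact D.W_step hq h1 (D.rho_unit c) ih
  have h1 := key c' h
  have h2 := D.W_self hq c'
  rw [← hρ] at h2
  exact D.W_unique hq h1 h2

theorem conn_smul {t t' : T} (s : T) (h : Relation.ReflTransGen D.R (QuotientGroup.mk t) (QuotientGroup.mk t')) :
    Relation.ReflTransGen D.R (QuotientGroup.mk (s * t)) (QuotientGroup.mk (s * t')) := by
  generalize hc : (QuotientGroup.mk t' : D.Co) = c' at h
  induction h generalizing t' with
  | refl =>
    obtain ⟨a, ha⟩ := D.exists_of_mk hc.symm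
    rw [ha, ← mul_assoc, D.mk_at]
  | tail _ h1 ih =>
    rename_i b c _
    subst hc
    obtain ⟨u, rfl⟩ := QuotientGroup.mk_surjective b
    exact (ih rfl).tail (D.R_smul s h1)

theorem conn_symm {c c' : D.Co} (h : Relation.ReflTransGen D.R c c') : Relation.ReflTransGen D.R c' c := by
  induction h with
  | refl => exact Relation.ReflTransGen.refl
  | tail _ h1 ih => exact Relation.ReflTransGen.head (D.R_symm h1) ih

theorem conn_of_mem (hq : 4 ≤ q) {x : T} (hx : x ∈ Subgroup.closure ((D.at'.range : Set T) ∪ (D.bt.range : Set T))) :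
    Relation.ReflTransGen D.R (QuotientGroup.mk 1) (QuotientGroup.mk x) := by
  induction hx using Subgroup.closure_induction with
  | mem x hx =>
    rcases hx with ⟨a, rfl⟩ | ⟨y, rfl⟩
    · have := D.mk_at 1 a
      rw [one_mul] at this
      rw [this]
    · obtain ⟨a, a', a'', b, b', hb, hb', rfl⟩ := exists_fac_all hF (by omega) (n := 1) (by omega) y
      have ov' : ∀ a : SU 2 F q, D.bt (emb hF (tl 2) a) = D.at' (emb hF (hd (by omega : 2 ≤ m + 1)) a) := fun a => (D.ov a).symm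
      rw [map_mul, ov', D.mk_at]
      refine (Relation.ReflTransGen.single (b := (QuotientGroup.mk (D.bt (emb hF (tl 2) a * emb hF (hd (by omega : 2 ≤ 3)) b)) : D.Co)) ?_).tail ?_
      · refine ⟨D.bt (emb hF (tl 2) a), b, hb, ?_, ?_⟩
        · rw [ov']
          have := D.mk_at 1 (emb hF (hd (by omega : 2 ≤ m + 1)) a)
          rw [one_mul] at this
          exact this.symm
        · rw [map_mul]; rfl
      · refine ⟨D.bt (emb hF (tl 2) a * emb hF (hd (by omega : 2 ≤ 3)) b * emb hF (tl 2) a'), b', hb', ?_, ?_⟩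
        · rw [map_mul D.bt (_ * _), ov', D.mk_at]
        · rw [map_mul D.bt (_ * _)]; rfl
  | one => exact Relation.ReflTransGen.refl
  | mul x y _ _ hx hy =>
    have := D.conn_smul x hy
    rw [mul_one] at this
    exact hx.trans this
  | inv x _ hx =>
    have := D.conn_smul x⁻¹ hx
    rw [mul_one, inv_mul_cancel] at this
    exact D.conn_symm this

theorem ker_trivial (hq : 4 ≤ q) {x : T} (hx : x ∈ Subgroup.closure ((D.at'.range : Set T) ∪ (D.bt.range : Set T)))
    (hp : D.p x = 1) : x = 1 := by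
  have h := D.eq_of_conn hq (D.conn_of_mem hq hx) (by
    rw [D.rho_mk, D.rho_mk]
    unfold vec
    rw [hp, map_one])
  obtain ⟨a, ha⟩ := D.exists_of_mk h
  rw [one_mul] at ha
  rw [ha, D.p_at] at hp
  have : a = 1 := emb_injective hF (tl (m + 1)) (by rw [hp, map_one])
  rw [ha, this, map_one]

end Amal

/-- the extension step -/
theorem exists_extension (hF : Fintype.card F = q ^ 2) (hq : 4 ≤ q) {m : ℕ} (hm : 2 ≤ m) {G : Type*} [Group G]
    (f : SU (m + 1) F q →* G) (g : SU 3 F q →* G)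
    (hov : ∀ a : SU 2 F q, f (emb hF (hd (by omega : 2 ≤ m + 1)) a) = g (emb hF (tl 2) a))
    (hcm : ∀ (b : SU 2 F q) (c : SU m F q), g (emb hF (hd (by omega : 2 ≤ 3)) b) * f (emb hF (tl m) c) =
      f (emb hF (tl m) c) * g (emb hF (hd (by omega : 2 ≤ 3)) b)) :
    ∃ h : SU (m + 2) F q →* G, (∀ a, h (emb hF (tl (m + 1)) a) = f a) ∧
      (∀ b, h (emb hF (hd (by omega : 3 ≤ m + 2)) b) = g b) := by
  let D : Amal hF m hm (SU (m + 2) F q × G) :=
    { p := MonoidHom.fst _ _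
      at' := (emb hF (tl (m + 1))).prod f
      bt := (emb hF (hd (by omega : 3 ≤ m + 2))).prod g
      p_at := fun a => rfl
      p_bt := fun b => rfl
      ov := by
        intro a
        apply Prod.ext
        · show emb hF (tl (m + 1)) (emb hF (hd _) a) = emb hF (hd _) (emb hF (tl 2) a)
          rw [emb_emb, emb_emb]
          rfl
        · exact hov a
      cm := by
        intro b c
        apply Prod.ext
        · show emb hF (hd _) (emb hF (hd _) b) * emb hF (tl (m + 1)) (emb hF (tl m) c) =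
            emb hF (tl (m + 1)) (emb hF (tl m) c) * emb hF (hd _) (emb hF (hd _) b)
          rw [emb_emb, emb_emb]
          apply emb_commute
          intro i j h
          have h' := congrArg Fin.val h
          have h1 : (i : ℕ) < 2 := i.2
          simp [tl, hd] at h'
          omega
        · exact hcm b c }
  set X := Subgroup.closure ((D.at'.range : Set (SU (m + 2) F q × G)) ∪ (D.bt.range : Set (SU (m + 2) F q × G))) with hX
  let π : X →* SU (m + 2) F q := D.p.comp X.subtype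
  have hinj : Function.Injective π := by
    rw [injective_iff_map_eq_one]
    intro x hx
    exact Subtype.ext (D.ker_trivial hq x.2 hx)
  have hat : ∀ a, D.at' a ∈ X := fun a => Subgroup.subset_closure (Or.inl ⟨a, rfl⟩)
  have hbt : ∀ a, D.bt a ∈ X := fun a => Subgroup.subset_closure (Or.inr ⟨a, rfl⟩)
  have hsurj : Function.Surjective π := by
    intro y
    obtain ⟨a, a', a'', b, b', _, _, rfl⟩ := exists_fac_all hF (by omega) (n := m) (by omega) y
    have hlm : ∀ b : SU 2 F q, D.lm b ∈ X := fun b => hbt _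
    refine ⟨⟨D.at' a, hat a⟩ * ⟨D.lm b, hlm b⟩ * ⟨D.at' a', hat a'⟩ * ⟨D.lm b', hlm b'⟩ * ⟨D.at' a'', hat a''⟩, ?_⟩
    simp only [π, MonoidHom.comp_apply, map_mul, Subgroup.subtype_apply, D.p_at, D.p_lm]
  let E := MulEquiv.ofBijective π ⟨hinj, hsurj⟩
  refine ⟨(MonoidHom.snd _ _).comp (X.subtype.comp E.symm.toMonoidHom), fun a => ?_, fun b => ?_⟩
  · have : E.symm (emb hF (tl (m + 1)) a) = ⟨D.at' a, hat a⟩ := by
      rw [MulEquiv.symm_apply_eq]
      rfl
    simp only [MonoidHom.comp_apply, MulEquiv.toMonoidHom_eq_coe, MonoidHom.coe_coe, this]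
    rfl
  · have : E.symm (emb hF (hd (by omega : 3 ≤ m + 2)) b) = ⟨D.bt b, hbt b⟩ := by
      rw [MulEquiv.symm_apply_eq]
      rfl
    simp only [MonoidHom.comp_apply, MulEquiv.toMonoidHom_eq_coe, MonoidHom.coe_coe, this]
    rfl

end H60.Ph
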