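import Mathlib
import Cfsg.Agent.Lib.H60.PhF
import Cfsg.Agent.Lib.H7.UnitSU
import Cfsg.Agent.Lib.H7.SmallField
import Cfsg.Agent.Lib.H6.SLCard
import Cfsg.Agent.Lib.H50.AutPSL2
import Cfsg.Agent.Lib.H50.FieldAut

/-!
Phan systems, part G: automorphisms of the two-dimensional special unitary group which preserve the diagonal torus
extend to the three-dimensional one.
-/

set_option autoImplicit false
set_option linter.unusedSectionVars false

namespace H60.Ph

open Matrix Cfsg H16.Herm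

/-- explicit isomorphism of `SL 2` with `SU 2` -/
theorem exists_SU2_model {F K : Type*} [Field F] [Fintype F] [Field K] [Fintype K] {q : ℕ}
    (hF : Fintype.card F = q ^ 2) (hK : Fintype.card K = q) :
    ∃ (σ : K →+* F) (P P' : Matrix (Fin 2) (Fin 2) F) (f : SpecialLinearGroup (Fin 2) K ≃* Cfsg.SU 2 F q),
      P * P' = 1 ∧ P' * P = 1 ∧ ∀ A, mt (f A) = P' * (A : Matrix (Fin 2) (Fin 2) K).map σ * P := by
  rename_i _ fF _ fK
  classical
  have hq := H7.QuadExt.one_lt_q hF
  obtain ⟨σ, hσ⟩ := H7.SmallField.exists_embedding hK hF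
  obtain ⟨x, hx⟩ := H7.SmallField.exists_not_fixed hF
  obtain ⟨θ, hθ⟩ := H7.QuadExt.exists_norm_eq (c := (-1 : F)) hF (by rw [H7.QuadExt.neg_pow_q hF, one_pow])
  have hθ0 : θ ≠ 0 := by
    rintro rfl
    rw [zero_pow (by omega)] at hθ
    simp at hθ
  have hsub : x - x ^ q ≠ 0 := fun h => hx (sub_eq_zero.1 h).symm
  set s : F := x - x ^ q with hs
  have hsbar : s ^ q = -s := by
    rw [hs, H7.QuadExt.sub_pow_q hF, H7.QuadExt.pow_q_pow_q hF]; ring
  let P : Matrix (Fin 2) (Fin 2) F := !![x, x ^ q * θ; 1, θ]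
  let J : Matrix (Fin 2) (Fin 2) F := !![0, 1; -1, 0]
  have hdet : P.det = θ * s := by
    simp only [P, det_fin_two_of, hs]; ring
  have hPu : IsUnit P.det := by
    rw [hdet]; exact (mul_ne_zero hθ0 hsub).isUnit
  have hbP : H7.UnitSU.bar q P = !![x ^ q, x * θ ^ q; 1, θ ^ q] := by
    ext i j
    fin_cases i <;> fin_cases j <;> simp [P, H7.UnitSU.bar, mul_pow, H7.QuadExt.pow_q_pow_q hF]
  have hPJ : Pᵀ * (s⁻¹ • J) * H7.UnitSU.bar q P = 1 := by
    rw [hbP]
    have hθ' : θ ^ q * θ = -1 := by rw [← pow_succ]; exact hθ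
    ext i j
    fin_cases i <;> fin_cases j
    · simp [P, J, Matrix.mul_apply, Fin.sum_univ_two, hs]
      field_simp
      ring
    · simp [P, J, Matrix.mul_apply, Fin.sum_univ_two]
      ring
    · simp [P, J, Matrix.mul_apply, Fin.sum_univ_two]
      ring
    · simp [P, J, Matrix.mul_apply, Fin.sum_univ_two]
      field_simp
      rw [hs]
      linear_combination (x ^ q - x) * hθ'
  have hJ : ∀ A : Matrix (Fin 2) (Fin 2) F, Aᵀ * J * A = A.det • J := by
    intro A
    rw [Matrix.det_fin_two]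
    ext i j
    fin_cases i <;> fin_cases j <;> simp [J, Matrix.mul_apply, Fin.sum_univ_two] <;> ring
  have hPP : P * P⁻¹ = 1 := Matrix.mul_nonsing_inv P hPu
  have hPP' : P⁻¹ * P = 1 := Matrix.nonsing_inv_mul P hPu
  have hbmul : ∀ A B : Matrix (Fin 2) (Fin 2) F, H7.UnitSU.bar q (A * B) = H7.UnitSU.bar q A * H7.UnitSU.bar q B := by
    intro A B
    ext i j
    simp [H7.UnitSU.bar, Matrix.mul_apply, H7.QuadExt.sum_pow_q hF, mul_pow, -Fin.sum_univ_two]
  -- the homomorphism
  let f₀ : SpecialLinearGroup (Fin 2) K →* SpecialLinearGroup (Fin 2) F :=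
    { toFun := fun A => ⟨P⁻¹ * (SpecialLinearGroup.map σ A : Matrix (Fin 2) (Fin 2) F) * P, by
        rw [det_mul, det_mul, mul_comm, ← mul_assoc, ← det_mul, hPP, det_one, one_mul]
        exact (SpecialLinearGroup.map σ A).2⟩
      map_one' := by
        apply Subtype.ext
        simp [hPP']
      map_mul' := by
        intro A B
        apply Subtype.ext
        rw [map_mul]
        change P⁻¹ * ((SpecialLinearGroup.map σ A : Matrix (Fin 2) (Fin 2) F) * (SpecialLinearGroup.map σ B : Matrix (Fin 2) (Fin 2) F)) * P =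
          (P⁻¹ * (SpecialLinearGroup.map σ A : Matrix (Fin 2) (Fin 2) F) * P) * (P⁻¹ * (SpecialLinearGroup.map σ B : Matrix (Fin 2) (Fin 2) F) * P)
        have : P⁻¹ * (SpecialLinearGroup.map σ A : Matrix (Fin 2) (Fin 2) F) * P * (P⁻¹ * (SpecialLinearGroup.map σ B : Matrix (Fin 2) (Fin 2) F) * P)
          = P⁻¹ * (SpecialLinearGroup.map σ A : Matrix (Fin 2) (Fin 2) F) * (P * P⁻¹) * (SpecialLinearGroup.map σ B : Matrix (Fin 2) (Fin 2) F) * P := by
          simp only [Matrix.mul_assoc]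
        rw [this, hPP, Matrix.mul_one]
        simp only [Matrix.mul_assoc] }
  have hmem : ∀ A, f₀ A ∈ Cfsg.SU 2 F q := by
    intro A
    refine (H7.UnitSU.mem_SU_iff hF _).2 ?_
    set B : Matrix (Fin 2) (Fin 2) F := (SpecialLinearGroup.map σ A : Matrix (Fin 2) (Fin 2) F) with hB
    have hBb : H7.UnitSU.bar q B = B := by
      ext i j
      exact (hσ _).2 ⟨A i j, rfl⟩
    have hBdet : B.det = 1 := (SpecialLinearGroup.map σ A).2
    change (P⁻¹ * B * P)ᵀ * H7.UnitSU.bar q (P⁻¹ * B * P) = 1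
    have key : (P⁻¹ * B * P)ᵀ * (Pᵀ * (s⁻¹ • J) * H7.UnitSU.bar q P) * H7.UnitSU.bar q (P⁻¹ * B * P) = 1 := by
      have e1 : (P⁻¹ * B * P)ᵀ * Pᵀ = Pᵀ * Bᵀ := by
        rw [← transpose_mul, ← Matrix.mul_assoc, ← Matrix.mul_assoc, hPP, Matrix.one_mul, transpose_mul]
      have e2 : H7.UnitSU.bar q P * H7.UnitSU.bar q (P⁻¹ * B * P) = B * H7.UnitSU.bar q P := by
        rw [← hbmul, ← Matrix.mul_assoc, ← Matrix.mul_assoc, hPP, Matrix.one_mul, hbmul, hBb]
      have e3 : (P⁻¹ * B * P)ᵀ * (Pᵀ * (s⁻¹ • J) * H7.UnitSU.bar q P) * H7.UnitSU.bar q (P⁻¹ * B * P) =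
          ((P⁻¹ * B * P)ᵀ * Pᵀ) * (s⁻¹ • J) * (H7.UnitSU.bar q P * H7.UnitSU.bar q (P⁻¹ * B * P)) := by
        simp only [Matrix.mul_assoc]
      rw [e3, e1, e2]
      have e4 : Pᵀ * Bᵀ * (s⁻¹ • J) * (B * H7.UnitSU.bar q P) = Pᵀ * (s⁻¹ • (Bᵀ * J * B)) * H7.UnitSU.bar q P := by
        simp only [Matrix.mul_assoc, Matrix.smul_mul, Matrix.mul_smul]
      rw [e4, hJ, hBdet, one_smul, hPJ]
    rw [hPJ, Matrix.mul_one] at key
    exact key
  let f : SpecialLinearGroup (Fin 2) K →* Cfsg.SU 2 F q := f₀.codRestrict _ hmem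
  have hinj : Function.Injective f := by
    intro A B h
    have h1 : f₀ A = f₀ B := congrArg Subtype.val h
    have h2 : P⁻¹ * (SpecialLinearGroup.map σ A : Matrix (Fin 2) (Fin 2) F) * P = P⁻¹ * (SpecialLinearGroup.map σ B : Matrix (Fin 2) (Fin 2) F) * P :=
      congrArg Subtype.val h1
    have h3 : (SpecialLinearGroup.map σ A : Matrix (Fin 2) (Fin 2) F) = (SpecialLinearGroup.map σ B : Matrix (Fin 2) (Fin 2) F) := by
      have := congrArg (fun M => P * M * P⁻¹) h2
      simp only [Matrix.mul_assoc, hPP, Matrix.mul_one] at this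
      simpa only [← Matrix.mul_assoc, hPP, Matrix.one_mul] using this
    apply Subtype.ext
    ext i j
    exact σ.injective (congrFun (congrFun h3 i) j)
  have hcard : Nat.card (SpecialLinearGroup (Fin 2) K) = Nat.card (Cfsg.SU 2 F q) := by
    have h1 := H7.UnitSU.card_SU hF 2 (by omega)
    have h2 := H6.SLCard.card_sl (F := K) (n := 2) (by omega)
    rw [hK] at h2
    have e1 : ∏ i ∈ Finset.range 2, (if Even i then q ^ (i + 1) + 1 else q ^ (i + 1) - 1) = (q + 1) * (q ^ 2 - 1) := by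
      simp [Finset.prod_range_succ]
    rw [e1] at h1
    rw [Fin.prod_univ_two] at h2
    have e2 : 2 * (2 - 1) / 2 = 1 := rfl
    have e3 : ((0 : Fin 2) : ℕ) = 0 := rfl
    have e4 : ((1 : Fin 2) : ℕ) = 1 := rfl
    rw [e2, pow_one] at h1
    rw [e3, e4, pow_zero, pow_one] at h2
    have e5 : q ^ 2 - q = (q - 1) * q := by rw [Nat.sub_mul, sq, one_mul]
    rw [e5] at h2
    have h3 : Nat.card (SpecialLinearGroup (Fin 2) K) = q * (q ^ 2 - 1) := by
      apply Nat.eq_of_mul_eq_mul_left (show 0 < q - 1 by omega)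
      rw [h2]; ring
    have h4 : Nat.card (Cfsg.SU 2 F q) = q * (q ^ 2 - 1) := by
      apply Nat.eq_of_mul_eq_mul_left (show 0 < q + 1 by omega)
      rw [h1]; ring
    rw [h3, h4]
  have hbij : Function.Bijective f := (Nat.bijective_iff_injective_and_card f).2 ⟨hinj, hcard⟩
  exact ⟨σ, P, P⁻¹, MulEquiv.ofBijective f hbij, hPP, hPP', fun A => rfl⟩

/-- automorphisms of a finite field extend -/
theorem exists_field_ext {F K : Type*} [Field F] [Fintype F] [Field K] [Fintype K] (σ : K →+* F) (τ : K ≃+* K) :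
    ∃ τ' : F ≃+* F, ∀ x, τ' (σ x) = σ (τ x) := by
  obtain ⟨p, hp⟩ := CharP.exists K
  have hpp : p.Prime := CharP.char_is_prime K p
  have : Fact p.Prime := ⟨hpp⟩
  have : CharP F p := (RingHom.charP_iff σ σ.injective p).mp hp
  let _ : Algebra (ZMod p) K := ZMod.algebra K p
  let τa : Gal(K/ZMod p) := H50.FieldAut.galEquiv p τ
  obtain ⟨n, hn⟩ := (FiniteField.bijective_frobeniusAlgEquivOfAlgebraic_pow (ZMod p) K).2 τa
  have hτ : ∀ x, τ x = x ^ (p ^ (n : ℕ)) := by
    intro x
    have h1 : τa x = τ x := rfl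
    rw [← h1, ← hn]
    have h2 := congrFun (FiniteField.coe_frobeniusAlgEquivOfAlgebraic_iterate (ZMod p) K (n : ℕ)) x
    rw [ZMod.card] at h2
    rw [← h2]
    show ((FiniteField.frobeniusAlgEquivOfAlgebraic (ZMod p) K) ^ (n : ℕ)) x = _
    rw [AlgEquiv.coe_pow]
  refine ⟨RingEquiv.ofBijective (iterateFrobenius F p n) (Finite.injective_iff_bijective.mp (iterateFrobenius F p n).injective), ?_⟩
  intro x
  show iterateFrobenius F p n (σ x) = σ (τ x)
  rw [iterateFrobenius_def, hτ, map_pow]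

/-- automorphisms of `SL 2` -/
theorem aut_SL2 {K : Type*} [Field K] [Fintype K] (hK : 4 ≤ Fintype.card K) (θ : MulAut (SpecialLinearGroup (Fin 2) K)) :
    ∃ (g : GL (Fin 2) K) (τ : K ≃+* K), ∀ A : SpecialLinearGroup (Fin 2) K, ((θ A : SpecialLinearGroup (Fin 2) K) : Matrix (Fin 2) (Fin 2) K) =
      (g : Matrix (Fin 2) (Fin 2) K) * (A : Matrix (Fin 2) (Fin 2) K).map τ * ((g⁻¹ : GL (Fin 2) K) : Matrix (Fin 2) (Fin 2) K) := by
  classical
  obtain ⟨p, hp⟩ := CharP.exists K
  have hpp : p.Prime := CharP.char_is_prime K p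
  have : Fact p.Prime := ⟨hpp⟩
  obtain ⟨g, τ, h⟩ := H50.AutPSL2.aut_two (p := p) (H50.PSLBasic.quotAut _ θ)
  refine ⟨g, τ, ?_⟩
  set β := H50.PSLBasic.semiSL g τ with hβ
  have hz : ∀ A, (β A)⁻¹ * θ A ∈ Subgroup.center (SpecialLinearGroup (Fin 2) K) := by
    intro A
    have h1 := congrArg (fun e => e (QuotientGroup.mk A)) h
    simp only [H50.PSLBasic.psi_mk, H50.PSLBasic.quotAut_mk] at h1
    rw [eq_comm, QuotientGroup.eq] at h1
    exact h1
  -- the difference is a homomorphism to the center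
  let z : SpecialLinearGroup (Fin 2) K →* Subgroup.center (SpecialLinearGroup (Fin 2) K) :=
    { toFun := fun A => ⟨(β A)⁻¹ * θ A, hz A⟩
      map_one' := by
        apply Subtype.ext
        simp
      map_mul' := by
        intro A B
        apply Subtype.ext
        show (β (A * B))⁻¹ * θ (A * B) = (β A)⁻¹ * θ A * ((β B)⁻¹ * θ B)
        have h1 := Subgroup.mem_center_iff.mp (hz A) (β B)⁻¹
        rw [map_mul, map_mul, _root_.mul_inv_rev]
        calc (β B)⁻¹ * (β A)⁻¹ * (θ A * θ B) = (β B)⁻¹ * ((β A)⁻¹ * θ A) * θ B := by group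
          _ = _ := by rw [h1]; group }
  have hper : commutator (SpecialLinearGroup (Fin 2) K) = ⊤ := by
    have : ∃ a : K, a ∉ ({0, 1, -1} : Finset K) := by
      by_contra hcon
      push Not at hcon
      have h1 : (Finset.univ : Finset K) ⊆ {0, 1, -1} := fun a _ => hcon a
      have h2 := Finset.card_le_card h1
      rw [Finset.card_univ] at h2
      have h3 : ({0, 1, -1} : Finset K).card ≤ 3 := Finset.card_le_three
      omega
    obtain ⟨a, ha⟩ := this
    simp only [Finset.mem_insert, Finset.mem_singleton, not_or] at ha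
    refine Matrix.SL2.commutator_eq_top ha.1 (fun h => ?_)
    rcases (sq_eq_one_iff (a := a)).mp h with h | h
    · exact ha.2.1 h
    · exact ha.2.2 h
  have hz1 : ∀ A, z A = 1 := by
    intro A
    have hA : A ∈ commutator (SpecialLinearGroup (Fin 2) K) := by rw [hper]; exact Subgroup.mem_top _
    have hle : commutator (SpecialLinearGroup (Fin 2) K) ≤ z.ker := by
      rw [commutator_def, Subgroup.commutator_le]
      intro a _ b _
      rw [MonoidHom.mem_ker, map_commutatorElement, commutatorElement_eq_one_iff_mul_comm]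
      apply Subtype.ext
      exact (Subgroup.mem_center_iff.mp (z b).2 _)
    exact hle hA
  intro A
  have h1 := congrArg Subtype.val (hz1 A)
  have h2 : (β A)⁻¹ * θ A = 1 := h1
  have h3 : θ A = β A := by rw [inv_mul_eq_one] at h2; exact h2.symm
  rw [h3, hβ, H50.PSLBasic.semiSL_coe]

variable {F : Type*} [Field F] [Fintype F] {q : ℕ}

theorem aut_SU2_aux (hF : Fintype.card F = q ^ 2) (hq : 4 ≤ q) (θ : MulAut (SU 2 F q)) :
    ∃ (H H' : Matrix (Fin 2) (Fin 2) F) (τ : F ≃+* F), H * H' = 1 ∧ H' * H = 1 ∧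
      ∀ b, mt (θ b) = H * (mt b).map τ * H' := by
  classical
  let K := H7.SmallField.fixedField hF
  let _ : Fintype K := Fintype.ofFinite _
  have hK : Fintype.card K = q := by
    rw [← Nat.card_eq_fintype_card]
    exact H7.QuadExt.card_fixed hF
  obtain ⟨σ, P, P', f, h1, h2, hf⟩ := exists_SU2_model hF hK
  obtain ⟨g, τ, hg⟩ := aut_SL2 (by rw [hK]; exact hq) (f.trans (θ.trans f.symm))
  obtain ⟨τ', hτ'⟩ := exists_field_ext σ τ
  have hmm : ∀ (A B : Matrix (Fin 2) (Fin 2) K), (A * B).map σ = A.map σ * B.map σ := fun A B => Matrix.map_mul (f := σ)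
  have hmm' : ∀ (A B : Matrix (Fin 2) (Fin 2) F), (A * B).map τ' = A.map τ' * B.map τ' :=
    fun A B => Matrix.map_mul (f := (τ' : F →+* F))
  have hgg : (g : Matrix (Fin 2) (Fin 2) K) * ((g⁻¹ : GL (Fin 2) K) : Matrix (Fin 2) (Fin 2) K) = 1 := by
    rw [← Units.val_mul, mul_inv_cancel, Units.val_one]
  have hgg' : ((g⁻¹ : GL (Fin 2) K) : Matrix (Fin 2) (Fin 2) K) * (g : Matrix (Fin 2) (Fin 2) K) = 1 := by
    rw [← Units.val_mul, inv_mul_cancel, Units.val_one]
  set gσ := (g : Matrix (Fin 2) (Fin 2) K).map σ with hgσ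
  set gσ' := ((g⁻¹ : GL (Fin 2) K) : Matrix (Fin 2) (Fin 2) K).map σ with hgσ'
  have e1 : gσ * gσ' = 1 := by
    rw [hgσ, hgσ', ← hmm, hgg, Matrix.map_one _ (map_zero _) (map_one _)]
  have e2 : gσ' * gσ = 1 := by
    rw [hgσ, hgσ', ← hmm, hgg', Matrix.map_one _ (map_zero _) (map_one _)]
  have e3 : P.map τ' * P'.map τ' = 1 := by
    rw [← hmm', h1, Matrix.map_one _ (map_zero _) (map_one _)]
  have e4 : P'.map τ' * P.map τ' = 1 := by
    rw [← hmm', h2, Matrix.map_one _ (map_zero _) (map_one _)]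
  refine ⟨P' * gσ * P.map τ', P'.map τ' * gσ' * P, τ', ?_, ?_, ?_⟩
  · calc P' * gσ * P.map τ' * (P'.map τ' * gσ' * P) = P' * gσ * (P.map τ' * P'.map τ') * gσ' * P := by
          simp only [Matrix.mul_assoc]
      _ = P' * (gσ * gσ') * P := by rw [e3, Matrix.mul_one]; simp only [Matrix.mul_assoc]
      _ = 1 := by rw [e1, Matrix.mul_one, h2]
  · calc P'.map τ' * gσ' * P * (P' * gσ * P.map τ') = P'.map τ' * gσ' * (P * P') * gσ * P.map τ' := by
          simp only [Matrix.mul_assoc]
      _ = P'.map τ' * (gσ' * gσ) * P.map τ' := by rw [h1, Matrix.mul_one]; simp only [Matrix.mul_assoc]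
      _ = 1 := by rw [e2, Matrix.mul_one, e4]
  · intro b
    obtain ⟨A, rfl⟩ := f.surjective b
    have hθ : θ (f A) = f ((f.trans (θ.trans f.symm)) A) := by simp
    rw [hθ, hf, hg, hmm, hmm, hf]
    have e5 : (((A : SpecialLinearGroup (Fin 2) K) : Matrix (Fin 2) (Fin 2) K).map τ).map σ =
        (((A : SpecialLinearGroup (Fin 2) K) : Matrix (Fin 2) (Fin 2) K).map σ).map τ' := by
      ext i j
      simp only [Matrix.map_apply]
      exact (hτ' _).symm
    rw [e5, hmm', hmm', ← hgσ, ← hgσ']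
    set B := (((A : SpecialLinearGroup (Fin 2) K) : Matrix (Fin 2) (Fin 2) K).map σ).map τ'
    symm
    calc P' * gσ * P.map τ' * (P'.map τ' * B * P.map τ') * (P'.map τ' * gσ' * P)
        = P' * gσ * (P.map τ' * P'.map τ') * B * (P.map τ' * P'.map τ') * gσ' * P := by simp only [Matrix.mul_assoc]
      _ = _ := by rw [e3, Matrix.mul_one, Matrix.mul_one]; simp only [Matrix.mul_assoc]

/-- the diagonal element -/
def tor (hF : Fintype.card F = q ^ 2) (c : F) (hc : c * c ^ q = 1) : SU 2 F q :=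
  su2 hF c 0 (by rw [hc, zero_mul, add_zero])

theorem mt_tor (hF : Fintype.card F = q ^ 2) (c : F) (hc : c * c ^ q = 1) : mt (tor hF c hc) = !![c, 0; 0, c ^ q] := by
  unfold tor
  rw [mt_su2, zero_pow_q hF, neg_zero]

/-- **Automorphisms of `SU 2` preserving the torus.** -/
theorem aut_SU2 (hF : Fintype.card F = q ^ 2) (hq : 4 ≤ q) (θ : MulAut (SU 2 F q))
    (hθ : ∀ c (hc : c * c ^ q = 1), ∃ c' hc', θ (tor hF c hc) = tor hF c' hc') :
    ∃ (μ : F) (τ : F ≃+* F), μ * μ ^ q = 1 ∧ ∀ b, mt (θ b) 0 0 = τ (mt b 0 0) ∧ mt (θ b) 1 0 = μ * τ (mt b 1 0) := by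
  classical
  obtain ⟨H, H', τ, h1, h2, h3⟩ := aut_SU2_aux hF hq θ
  obtain ⟨c, hc, hcc⟩ : ∃ c : F, c * c ^ q = 1 ∧ c ≠ c ^ q := by
    obtain ⟨g, hg⟩ := H7.QuadExt.exists_gen_norm_one hF
    by_contra hcon
    push Not at hcon
    -- all norm one elements are fixed by the automorphism
    have hle : Nat.card {x : F // x ^ (q + 1) = 1} ≤ 2 := by
      have hinj : Function.Injective (fun x : {x : F // x ^ (q + 1) = 1} => (if x.1 = 1 then (0 : Fin 2) else 1)) := by
        intro x y hxy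
        have sq : ∀ x : {x : F // x ^ (q + 1) = 1}, x.1 = 1 ∨ x.1 = -1 := by
          intro x
          have hx : x.1 * x.1 ^ q = 1 := by rw [← pow_succ']; exact x.2
          have := hcon x.1 hx
          rw [← this] at hx
          exact mul_self_eq_one_iff.mp hx
        apply Subtype.ext
        simp only at hxy
        rcases sq x with hx | hx <;> rcases sq y with hy | hy
        · rw [hx, hy]
        · rw [if_pos hx] at hxy
          by_contra hne
          rw [if_neg (fun h => hne (hx.trans h.symm))] at hxy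
          exact absurd hxy (by decide)
        · rw [if_pos hy] at hxy
          by_contra hne
          rw [if_neg (fun h => hne (h.trans hy.symm))] at hxy
          exact absurd hxy (by decide)
        · rw [hx, hy]
      calc _ ≤ Nat.card (Fin 2) := Nat.card_le_card_of_injective _ hinj
        _ = 2 := by simp
    rw [H7.QuadExt.card_norm_one hF] at hle
    omega
  have hτq : ∀ x, τ (x ^ q) = (τ x) ^ q := fun x => map_pow τ x q
  obtain ⟨c', hc', hθc⟩ := hθ c hc
  have hτc : τ c ≠ (τ c) ^ q := by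
    rw [← hτq]
    exact fun h => hcc (τ.injective h)
  have hmat : H * (mt (tor hF c hc)).map τ = mt (tor hF c' hc') * H := by
    rw [← hθc, h3, Matrix.mul_assoc, h2, Matrix.mul_one]
  rw [mt_tor, mt_tor] at hmat
  have m00 := congrFun (congrFun hmat 0) 0
  have m01 := congrFun (congrFun hmat 0) 1
  have m10 := congrFun (congrFun hmat 1) 0
  have m11 := congrFun (congrFun hmat 1) 1
  simp [Matrix.mul_apply, Fin.sum_univ_two] at m00 m01 m10 m11
  have k00 := congrFun (congrFun h1 0) 0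
  have k01 := congrFun (congrFun h1 0) 1
  have k10 := congrFun (congrFun h1 1) 0
  have k11 := congrFun (congrFun h1 1) 1
  simp [Matrix.mul_apply, Fin.sum_univ_two] at k00 k01 k10 k11
  -- the norm of the multiplier
  have hnorm : ∀ (μ : F) (τ₁ : F ≃+* F), (∀ b, mt (θ b) 0 0 = τ₁ (mt b 0 0) ∧ mt (θ b) 1 0 = μ * τ₁ (mt b 1 0)) →
      μ * μ ^ q = 1 := by
    intro μ τ₁ h
    have hb := h (su2 hF 0 1 (by rw [zero_mul, one_pow, one_mul, zero_add]))
    have h4 := SU2_col hF (θ (su2 hF 0 1 (by rw [zero_mul, one_pow, one_mul, zero_add])))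
    rw [hb.1, hb.2, mt_su2] at h4
    simpa using h4
  by_cases hH : H 0 0 = 0
  · -- antidiagonal
    have hH01 : H 0 1 ≠ 0 := by
      intro h
      rw [hH, h, zero_mul, zero_mul, add_zero] at k00
      exact zero_ne_one k00
    have hc1 : (τ c) ^ q = c' := by
      have : H 0 1 * (τ c) ^ q = H 0 1 * c' := by rw [m01]; ring
      exact mul_left_cancel₀ hH01 this
    have hH11 : H 1 1 = 0 := by
      by_contra h
      have : H 1 1 * (τ c) ^ q = H 1 1 * c' ^ q := by rw [m11]; ring
      have h5 := mul_left_cancel₀ h this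
      rw [← hc1, pow_q_pow_q hF] at h5
      exact hτc h5.symm
    have kk0 : H 0 1 * H' 1 0 = 1 := by linear_combination k00 - H' 0 0 * hH
    have kk1 : H 1 0 * H' 0 1 = 1 := by linear_combination k11 - H' 1 1 * hH11
    have hH11' : H' 1 1 = 0 := by
      have : H 0 1 * H' 1 1 = 0 := by linear_combination k01 - H' 0 1 * hH
      exact (mul_eq_zero.mp this).resolve_left hH01
    have hH10 : H 1 0 ≠ 0 := left_ne_zero_of_mul_eq_one kk1
    have hH00' : H' 0 0 = 0 := by
      have : H 1 0 * H' 0 0 = 0 := by linear_combination k10 - H' 1 0 * hH11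
      exact (mul_eq_zero.mp this).resolve_left hH10
    let κ : F ≃+* F := RingEquiv.ofBijective (frobQ F hF) (Finite.injective_iff_bijective.mp (frobQ F hF).injective)
    have hκ : ∀ x, κ x = x ^ q := fun x => rfl
    have hres : ∀ b, mt (θ b) 0 0 = (τ.trans κ) (mt b 0 0) ∧ mt (θ b) 1 0 = (- (H 1 0 * H' 1 0)) * (τ.trans κ) (mt b 1 0) := by
      intro b
      rw [h3]
      have b01 := SU2_01 hF b
      have b11 := SU2_11 hF b
      constructor
      · simp only [Matrix.mul_apply, Fin.sum_univ_two, Matrix.map_apply, RingEquiv.trans_apply, hκ]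
        rw [hH, hH00', b11, hτq]
        linear_combination (τ (mt b 0 0)) ^ q * kk0
      · simp only [Matrix.mul_apply, Fin.sum_univ_two, Matrix.map_apply, RingEquiv.trans_apply, hκ]
        rw [hH11, hH00', b01, map_neg, hτq]
        ring
    exact ⟨_, _, hnorm _ _ hres, hres⟩
  · -- diagonal
    have hc1 : τ c = c' := by
      have : H 0 0 * (τ c) = H 0 0 * c' := by rw [m00]; ring
      exact mul_left_cancel₀ hH this
    have hH01 : H 0 1 = 0 := by
      by_contra h
      have : H 0 1 * (τ c) ^ q = H 0 1 * c' := by rw [m01]; ring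
      have h5 := mul_left_cancel₀ h this
      rw [← hc1] at h5
      exact hτc h5.symm
    have hH10 : H 1 0 = 0 := by
      by_contra h
      have : H 1 0 * (τ c) = H 1 0 * c' ^ q := by rw [m10]; ring
      have h5 := mul_left_cancel₀ h this
      rw [← hc1] at h5
      exact hτc h5
    have kk0 : H 0 0 * H' 0 0 = 1 := by rw [hH01] at k00; linear_combination k00
    have kk1 : H 1 1 * H' 1 1 = 1 := by rw [hH10] at k11; linear_combination k11
    have hH10' : H' 1 0 = 0 := by
      have h6 : H 1 1 ≠ 0 := left_ne_zero_of_mul_eq_one kk1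
      have : H 1 1 * H' 1 0 = 0 := by rw [hH10] at k10; linear_combination k10
      exact (mul_eq_zero.mp this).resolve_left h6
    have hres : ∀ b, mt (θ b) 0 0 = τ (mt b 0 0) ∧ mt (θ b) 1 0 = (H 1 1 * H' 0 0) * τ (mt b 1 0) := by
      intro b
      rw [h3]
      constructor
      · simp only [Matrix.mul_apply, Fin.sum_univ_two, Matrix.map_apply]
        rw [hH01, hH10']
        linear_combination (τ (mt b 0 0)) * kk0
      · simp only [Matrix.mul_apply, Fin.sum_univ_two, Matrix.map_apply]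
        rw [hH10, hH10']
        ring
    exact ⟨_, _, hnorm _ _ hres, hres⟩

end H60.Ph
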