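import Mathlib
import Cfsg.Agent.Lib.H60.PhG

/-!
Phan systems, part H: gluing the maps of a Phan system.
-/

set_option autoImplicit false
set_option linter.unusedSectionVars false

namespace H60.Ph

open Matrix Cfsg H16.Herm

variable {F : Type*} [Field F] [Fintype F] {q : ℕ}

theorem form_map {n : ℕ} (τ : F ≃+* F) (x y : Fin n → F) :
    hermForm n F q (τ ∘ x) (τ ∘ y) = τ (hermForm n F q x y) := by
  simp [hermForm, map_sum, map_mul, map_pow]

theorem map_mulVec' {n : ℕ} (τ : F ≃+* F) (A : Matrix (Fin n) (Fin n) F) (u : Fin n → F) :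
    (A.map τ) *ᵥ u = τ ∘ (A *ᵥ (τ.symm ∘ u)) := by
  ext i
  simp [Matrix.mulVec, dotProduct, map_sum, map_mul]

/-- diagonal matrix -/
def dg (μ : F) : Matrix (Fin 3) (Fin 3) F := Matrix.diagonal ![1, 1, μ]

theorem dg_mul (μ ν : F) : dg μ * dg ν = dg (μ * ν) := by
  unfold dg
  rw [Matrix.diagonal_mul_diagonal]
  congr 1
  ext i
  fin_cases i <;> simp

theorem dg_one : dg (1 : F) = 1 := by
  unfold dg
  rw [← Matrix.diagonal_one]
  congr 1
  ext i
  fin_cases i <;> rfl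

theorem dg_form (hF : Fintype.card F = q ^ 2) (μ : F) (hμ : μ * μ ^ q = 1) (u v : Fin 3 → F) :
    hermForm 3 F q (dg μ *ᵥ u) (dg μ *ᵥ v) = hermForm 3 F q u v := by
  unfold dg hermForm
  simp only [Matrix.mulVec_diagonal, Fin.sum_univ_three]
  simp [mul_pow]
  linear_combination (u 2 * v 2 ^ q) * hμ

/-- twist of `SU 3` -/
def tw (hF : Fintype.card F = q ^ 2) (μ : F) (hμ : μ * μ ^ q = 1) (τ : F ≃+* F) : SU 3 F q →* SU 3 F q where
  toFun A := ofMt (dg μ * (mt A).map τ * dg (μ ^ q)) (by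
    have h1 : ((mt A).map τ).det = 1 := by
      have := RingHom.map_det (τ : F →+* F) (mt A)
      rw [mt_det, map_one] at this
      exact this.symm
    rw [Matrix.det_mul, Matrix.det_mul, h1, mul_one, ← Matrix.det_mul, dg_mul, hμ, dg_one, Matrix.det_one]) (by
    intro u v
    have hμ' : μ ^ q * (μ ^ q) ^ q = 1 := by rw [pow_q_pow_q hF, mul_comm]; exact hμ
    rw [← Matrix.mulVec_mulVec, ← Matrix.mulVec_mulVec, ← Matrix.mulVec_mulVec, ← Matrix.mulVec_mulVec, dg_form hF μ hμ,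
      map_mulVec', map_mulVec', form_map, mt_form, ← form_map]
    have e : ∀ w : Fin 3 → F, τ ∘ (τ.symm ∘ w) = w := by
      intro w
      ext i
      simp
    rw [e, e, dg_form hF _ hμ'])
  map_one' := mt_inj (by
    rw [mt_ofMt, mt_one, Matrix.map_one _ (map_zero _) (map_one _), Matrix.mul_one, dg_mul, hμ, dg_one])
  map_mul' A B := mt_inj (by
    have hmm : (mt A * mt B).map τ = (mt A).map τ * (mt B).map τ := Matrix.map_mul (f := (τ : F →+* F))
    rw [mt_ofMt, mt_mul, mt_mul, mt_ofMt, mt_ofMt, hmm]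
    have h : dg (μ ^ q) * dg μ = 1 := by rw [dg_mul, mul_comm, hμ, dg_one]
    calc dg μ * ((mt A).map τ * (mt B).map τ) * dg (μ ^ q) = dg μ * (mt A).map τ * 1 * ((mt B).map τ * dg (μ ^ q)) := by
          rw [Matrix.mul_one]; simp only [Matrix.mul_assoc]
      _ = _ := by rw [← h]; simp only [Matrix.mul_assoc])

theorem mt_tw (hF : Fintype.card F = q ^ 2) (μ : F) (hμ : μ * μ ^ q = 1) (τ : F ≃+* F) (A : SU 3 F q) :
    mt (tw hF μ hμ τ A) = dg μ * (mt A).map τ * dg (μ ^ q) := rfl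

theorem tw_tl (hF : Fintype.card F = q ^ 2) (μ : F) (hμ : μ * μ ^ q = 1) (τ : F ≃+* F) (b b' : SU 2 F q)
    (h0 : mt b' 0 0 = τ (mt b 0 0)) (h1 : mt b' 1 0 = μ * τ (mt b 1 0)) :
    tw hF μ hμ τ (emb hF (tl 2) b) = emb hF (tl 2) b' := by
  apply mt_inj
  rw [mt_tw, mt_emb_tl_three, mt_emb_tl_three, SU2_01 hF b', SU2_11 hF b', SU2_01 hF b, SU2_11 hF b, h0, h1]
  unfold dg
  ext i j
  rw [Matrix.mul_diagonal, Matrix.diagonal_mul]
  fin_cases i <;> fin_cases j <;> simp [mul_pow]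
  · ring
  · linear_combination (τ (mt b 0 0)) ^ q * hμ

theorem tw_hd (hF : Fintype.card F = q ^ 2) (μ : F) (hμ : μ * μ ^ q = 1) (τ : F ≃+* F) (b b' : SU 2 F q)
    (h0 : mt b' 0 0 = τ (mt b 0 0)) (h1 : mt b' 1 0 = τ (mt b 1 0)) :
    tw hF μ hμ τ (emb hF (hd (by omega : 2 ≤ 3)) b) = emb hF (hd (by omega : 2 ≤ 3)) b' := by
  apply mt_inj
  rw [mt_tw, mt_emb_hd_three, mt_emb_hd_three, SU2_01 hF b', SU2_11 hF b', SU2_01 hF b, SU2_11 hF b, h0, h1]
  unfold dg
  ext i j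
  rw [Matrix.mul_diagonal, Matrix.diagonal_mul]
  fin_cases i <;> fin_cases j <;> simp
  exact hμ

/-- field twist on `SU 2` -/
theorem exists_field_twist (hF : Fintype.card F = q ^ 2) (τ : F ≃+* F) (b : SU 2 F q) :
    ∃ b' : SU 2 F q, mt b' 0 0 = τ (mt b 0 0) ∧ mt b' 1 0 = τ (mt b 1 0) := by
  refine ⟨su2 hF (τ (mt b 0 0)) (τ (mt b 1 0)) ?_, rfl, rfl⟩
  have := congrArg τ (SU2_col hF b)
  simpa [map_add, map_mul, map_pow] using this

variable (hF : Fintype.card F = q ^ 2)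

/-- the hypotheses on the maps of a Phan system -/
structure PhanData {G : Type*} [Group G] (n : ℕ) (U : Fin (n + 2) → Subgroup G) (φ : Fin (n + 1) → (SU 3 F q →* G)) : Prop where
  h1 : ∀ i b, φ i (emb hF (hd (by omega : 2 ≤ 3)) b) ∈ U i.castSucc
  h1' : ∀ i, ∀ u ∈ U i.castSucc, ∃ b, φ i (emb hF (hd (by omega : 2 ≤ 3)) b) = u
  h2 : ∀ i b, φ i (emb hF (tl 2) b) ∈ U i.succ
  h2' : ∀ i, ∀ u ∈ U i.succ, ∃ b, φ i (emb hF (tl 2) b) = u
  i1 : ∀ i b, φ i (emb hF (hd (by omega : 2 ≤ 3)) b) = 1 → b = 1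
  i2 : ∀ i b, φ i (emb hF (tl 2) b) = 1 → b = 1
  hc : ∀ i j : Fin (n + 2), (i : ℕ) + 2 ≤ j → ∀ x ∈ U i, ∀ y ∈ U j, x * y = y * x
  ht : ∀ (i j : Fin (n + 1)), (i : ℕ) + 1 = j → ∀ c hc, ∃ c' hc', φ j (emb hF (hd (by omega : 2 ≤ 3)) (tor hF c hc)) =
    φ i (emb hF (tl 2) (tor hF c' hc'))

/-- **The universal property of the special unitary group with respect to its Phan system.** -/
theorem exists_glued (hq : 4 ≤ q) {G : Type*} [Group G] (n : ℕ) (U : Fin (n + 2) → Subgroup G)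
    (φ : Fin (n + 1) → (SU 3 F q →* G)) (H : PhanData hF n U φ) :
    ∃ f : SU (n + 3) F q →* G, (∀ y, f y ∈ ⨆ i, U i) ∧ (∀ i, U i ≤ f.range) ∧
      (∀ c : SU (n + 2) F q, f (emb hF (tl (n + 2)) c) ∈ ⨆ i : Fin (n + 1), U i.succ) ∧
      (∀ b, f (emb hF (hd (by omega : 2 ≤ n + 3)) b) ∈ U 0) ∧
      (∀ u ∈ U 0, ∃ b, f (emb hF (hd (by omega : 2 ≤ n + 3)) b) = u) ∧
      (∀ b, f (emb hF (hd (by omega : 2 ≤ n + 3)) b) = 1 → b = 1) ∧
      (∀ c hc, ∃ c' hc', f (emb hF (hd (by omega : 2 ≤ n + 3)) (tor hF c hc)) =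
        φ 0 (emb hF (hd (by omega : 2 ≤ 3)) (tor hF c' hc'))) := by
  induction n with
  | zero =>
    refine ⟨φ 0, ?_, ?_, ?_, H.h1 0, H.h1' 0, H.i1 0, fun c hc => ⟨c, hc, rfl⟩⟩
    · intro y
      obtain ⟨a, a', a'', b, b', _, _, rfl⟩ := exists_fac_all hF (by omega) (n := 1) (by omega) y
      have e0 : ∀ b, φ 0 (emb hF (hd (by omega : 2 ≤ 3)) b) ∈ ⨆ i, U i := fun b =>
        Subgroup.mem_iSup_of_mem 0 (H.h1 0 b)
      have e1 : ∀ b, φ 0 (emb hF (tl 2) b) ∈ ⨆ i, U i := fun b => Subgroup.mem_iSup_of_mem 1 (H.h2 0 b)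
      simp only [map_mul]
      exact mul_mem (mul_mem (mul_mem (mul_mem (e1 a) (e0 b)) (e1 a')) (e0 b')) (e1 a'')
    · intro i
      fin_cases i
      · intro u hu
        obtain ⟨b, hb⟩ := H.h1' 0 u hu
        exact ⟨_, hb⟩
      · intro u hu
        obtain ⟨b, hb⟩ := H.h2' 0 u hu
        exact ⟨_, hb⟩
    · intro c
      exact Subgroup.mem_iSup_of_mem 0 (H.h2 0 c)
  | succ n ih =>
    have H' : PhanData hF n (fun i => U i.succ) (fun i => φ i.succ) :=
      { h1 := fun i b => H.h1 i.succ b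
        h1' := fun i u hu => H.h1' i.succ u hu
        h2 := fun i b => H.h2 i.succ b
        h2' := fun i u hu => H.h2' i.succ u hu
        i1 := fun i b h => H.i1 i.succ b h
        i2 := fun i b h => H.i2 i.succ b h
        hc := fun i j hij => H.hc i.succ j.succ (by simp; omega)
        ht := fun i j hij => H.ht i.succ j.succ (by simp; omega) }
    obtain ⟨f, f1, f2, f3, f4, f5, f6, f7⟩ := ih _ _ H'
    -- the two maps of `SU 2`
    let α : SU 2 F q →* G := f.comp (emb hF (hd (by omega : 2 ≤ n + 3)))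
    let β : SU 2 F q →* G := (φ 0).comp (emb hF (tl 2))
    have hα : Function.Injective α := (injective_iff_map_eq_one α).mpr f6
    have hβ : Function.Injective β := (injective_iff_map_eq_one β).mpr (H.i2 0)
    have hαβ : α.range = β.range := by
      ext u
      constructor
      · rintro ⟨b, rfl⟩
        obtain ⟨b', hb'⟩ := H.h2' 0 _ (f4 b)
        exact ⟨b', hb'⟩
      · rintro ⟨b, rfl⟩
        obtain ⟨b', hb'⟩ := f5 _ (H.h2 0 b)
        exact ⟨b', hb'⟩
    let θ : MulAut (SU 2 F q) := ((MonoidHom.ofInjective hα).trans (MulEquiv.subgroupCongr hαβ)).trans (MonoidHom.ofInjective hβ).symm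
    have hθ : ∀ b, β (θ b) = α b := by
      intro b
      have h1 : (MonoidHom.ofInjective hβ) (θ b) = (MulEquiv.subgroupCongr hαβ) ((MonoidHom.ofInjective hα) b) := by
        simp [θ]
      have h2 := congrArg Subtype.val h1
      exact h2
    obtain ⟨μ, τ, hμ, hθ'⟩ := aut_SU2 hF hq θ (by
      intro c hc
      obtain ⟨c', hc', h1⟩ := f7 c hc
      obtain ⟨c'', hc'', h2⟩ := H.ht 0 1 rfl c' hc'
      refine ⟨c'', hc'', ?_⟩
      apply hβ
      rw [hθ]
      exact h1.trans h2)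
    let g : SU 3 F q →* G := (φ 0).comp (tw hF μ hμ τ)
    have hgtl : ∀ b, g (emb hF (tl 2) b) = α b := by
      intro b
      show φ 0 (tw hF μ hμ τ (emb hF (tl 2) b)) = α b
      rw [tw_tl hF μ hμ τ b (θ b) (hθ' b).1 (hθ' b).2]
      exact hθ b
    have hghd : ∀ b b' : SU 2 F q, mt b' 0 0 = τ (mt b 0 0) → mt b' 1 0 = τ (mt b 1 0) →
        g (emb hF (hd (by omega : 2 ≤ 3)) b) = φ 0 (emb hF (hd (by omega : 2 ≤ 3)) b') := by
      intro b b' h0 h1
      show φ 0 (tw hF μ hμ τ (emb hF (hd (by omega : 2 ≤ 3)) b)) = _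
      rw [tw_hd hF μ hμ τ b b' h0 h1]
    have hgU : ∀ b, g (emb hF (hd (by omega : 2 ≤ 3)) b) ∈ U 0 := by
      intro b
      obtain ⟨b', h0, h1⟩ := exists_field_twist hF τ b
      rw [hghd b b' h0 h1]
      exact H.h1 0 b'
    obtain ⟨h, hh1, hh2⟩ := exists_extension hF hq (m := n + 2) (by omega) f g (fun a => (hgtl a).symm) (by
      intro b c
      have k1 := hgU b
      have k2 := f3 c
      have hcen : (⨆ i : Fin (n + 1), U i.succ.succ) ≤ Subgroup.centralizer ((U 0 : Subgroup G) : Set G) := by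
        rw [iSup_le_iff]
        intro i y hy
        rw [Subgroup.mem_centralizer_iff]
        intro x hx
        exact H.hc 0 i.succ.succ (by simp) x hx y hy
      exact Subgroup.mem_centralizer_iff.mp (hcen k2) _ k1)
    have hhd : ∀ b, h (emb hF (hd (by omega : 2 ≤ n + 1 + 3)) b) = g (emb hF (hd (by omega : 2 ≤ 3)) b) := by
      intro b
      rw [← hh2, emb_emb]
      rfl
    refine ⟨h, ?_, ?_, ?_, ?_, ?_, ?_, ?_⟩
    · intro y
      obtain ⟨a, a', a'', b, b', _, _, rfl⟩ := exists_fac_all hF (by omega) (n := n + 2) (by omega) y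
      have e0 : ∀ b, h (emb hF (hd (by omega : 2 ≤ n + 1 + 3)) b) ∈ ⨆ i, U i := fun b => by
        rw [hhd]
        exact Subgroup.mem_iSup_of_mem 0 (hgU b)
      have e1 : ∀ b, h (emb hF (tl (n + 3)) b) ∈ ⨆ i, U i := fun b => by
        rw [hh1]
        have hle : (⨆ i : Fin (n + 2), U i.succ) ≤ ⨆ i, U i := iSup_le fun i => le_iSup U i.succ
        exact hle (f1 b)
      simp only [map_mul]
      exact mul_mem (mul_mem (mul_mem (mul_mem (e1 a) (e0 b)) (e1 a')) (e0 b')) (e1 a'')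
    · intro i
      refine Fin.cases ?_ (fun i => ?_) i
      · intro u hu
        obtain ⟨b, hb⟩ := H.h1' 0 u hu
        obtain ⟨b', h0, h1⟩ := exists_field_twist hF τ.symm b
        refine ⟨emb hF (hd (by omega : 2 ≤ n + 1 + 3)) b', ?_⟩
        rw [hhd, hghd b' b (by rw [h0]; simp) (by rw [h1]; simp)]
        exact hb
      · intro u hu
        obtain ⟨y, hy⟩ := f2 i hu
        exact ⟨emb hF (tl (n + 3)) y, by rw [hh1]; exact hy⟩
    · intro c
      rw [hh1]
      exact f1 c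
    · intro b
      rw [hhd]
      exact hgU b
    · intro u hu
      obtain ⟨b, hb⟩ := H.h1' 0 u hu
      obtain ⟨b', h0, h1⟩ := exists_field_twist hF τ.symm b
      refine ⟨b', ?_⟩
      rw [hhd, hghd b' b (by rw [h0]; simp) (by rw [h1]; simp)]
      exact hb
    · intro b hb
      rw [hhd] at hb
      obtain ⟨b', h0, h1⟩ := exists_field_twist hF τ b
      rw [hghd b b' h0 h1] at hb
      have := H.i1 0 b' hb
      subst this
      apply SU2_ext hF
      · apply τ.injective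
        rw [← h0, mt_one]
        simp
      · apply τ.injective
        rw [← h1, mt_one]
        simp
    · intro c hc
      have hτc : τ c * (τ c) ^ q = 1 := by rw [← map_pow, ← map_mul, hc, map_one]
      refine ⟨τ c, hτc, ?_⟩
      rw [hhd]
      exact hghd _ _ (by rw [mt_tor, mt_tor]; rfl) (by rw [mt_tor, mt_tor]; simp)

end H60.Ph
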