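import Mathlib
import Cfsg.Agent.Lib.H60.PhH

/-!
Phan systems, part I: maps from the three-dimensional special unitary group with central kernel; the tori.
-/

set_option autoImplicit false
set_option linter.unusedSectionVars false

namespace H60.Ph

open Matrix Cfsg H16.Herm

variable {F : Type*} [Field F] [Fintype F] {q : ℕ}

/-- the Weyl element -/
def wl (hF : Fintype.card F = q ^ 2) : SU 2 F q := su2 hF 0 1 (by rw [zero_mul, one_pow, one_mul, zero_add])

theorem mt_wl (hF : Fintype.card F = q ^ 2) : mt (wl hF) = !![0, -1; 1, 0] := by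
  unfold wl
  rw [mt_su2, one_pow, zero_pow_q hF]

theorem center_scalar (hF : Fintype.card F = q ^ 2) {z : SU 3 F q} (hz : z ∈ Subgroup.center (SU 3 F q)) :
    ∃ c : F, mt z = c • (1 : Matrix (Fin 3) (Fin 3) F) := by
  obtain ⟨c, hc⟩ := H7.UnitSU.center_scalar hF (by omega) hz
  refine ⟨c, ?_⟩
  rw [Matrix.smul_one_eq_diagonal]
  exact hc

/-- an element of the first block whose commutators with the second block are central is trivial -/
theorem eq_one_of_comm (hF : Fintype.card F = q ^ 2) {G : Type*} [Group G] (φ : SU 3 F q →* G)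
    (hφ : φ.ker ≤ Subgroup.center (SU 3 F q)) (s : SU 2 F q)
    (h : ∀ w, φ (emb hF (hd (by omega : 2 ≤ 3)) s) * φ (emb hF (tl 2) w) = φ (emb hF (tl 2) w) * φ (emb hF (hd (by omega : 2 ≤ 3)) s)) :
    s = 1 := by
  set S := emb hF (hd (by omega : 2 ≤ 3)) s with hS
  set W := emb hF (tl 2) (wl hF) with hW
  have hz : S * W * (W * S)⁻¹ ∈ φ.ker := by
    rw [MonoidHom.mem_ker, map_mul, map_mul, map_inv, map_mul, h (wl hF), mul_inv_cancel]
  obtain ⟨c, hc⟩ := center_scalar hF (hφ hz)
  have e : mt (S * W) = c • mt (W * S) := by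
    have : S * W = (S * W * (W * S)⁻¹) * (W * S) := by group
    rw [this, mt_mul, hc, Matrix.smul_mul, Matrix.one_mul]
  rw [mt_mul, mt_mul, hS, hW, mt_emb_hd_three, mt_emb_tl_three, mt_wl] at e
  have e20 := congrFun (congrFun e 2) 0
  have e00 := congrFun (congrFun e 0) 0
  have e21 := congrFun (congrFun e 2) 1
  simp [Matrix.mul_apply, Fin.sum_univ_three] at e20 e00 e21
  have hcol := SU2_col hF s
  have h11 := SU2_11 hF s
  have hq := one_lt_q hF
  have hc0 : c ≠ 0 := by
    rintro rfl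
    have := e21
    simp at this
  have hs10 : mt s 1 0 = 0 := by
    rcases e20 with h | h
    · exact absurd h hc0
    · exact h
  have hs00 : mt s 0 0 ≠ 0 := by
    intro h0
    rw [h0, hs10] at hcol
    simp at hcol
  have hc1 : c = 1 := by
    apply mul_right_cancel₀ hs00
    rw [one_mul]
    exact e00.symm
  rw [hc1, one_mul] at e21
  apply SU2_ext hF
  · rw [mt_one]
    have : mt s 0 0 = 1 := by
      have h2 : (mt s 0 0) ^ q = 1 := by rw [← h11]; exact e21.symm
      rw [← pow_q_pow_q hF (mt s 0 0), h2, one_pow]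
    rw [this]
    simp
  · rw [mt_one, hs10]
    simp

theorem inj_hd (hF : Fintype.card F = q ^ 2) {G : Type*} [Group G] (φ : SU 3 F q →* G)
    (hφ : φ.ker ≤ Subgroup.center (SU 3 F q)) (s : SU 2 F q) (h : φ (emb hF (hd (by omega : 2 ≤ 3)) s) = 1) : s = 1 := by
  apply eq_one_of_comm hF φ hφ
  intro w
  rw [h, one_mul, mul_one]

theorem inj_tl (hF : Fintype.card F = q ^ 2) {G : Type*} [Group G] (φ : SU 3 F q →* G)
    (hφ : φ.ker ≤ Subgroup.center (SU 3 F q)) (s : SU 2 F q) (h : φ (emb hF (tl 2) s) = 1) : s = 1 := by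
  have hz : emb hF (tl 2) s ∈ φ.ker := h
  obtain ⟨c, hc⟩ := center_scalar hF (hφ hz)
  rw [mt_emb_tl_three] at hc
  have h00 := congrFun (congrFun hc 0) 0
  have h11 := congrFun (congrFun hc 1) 1
  have h21 := congrFun (congrFun hc 2) 1
  simp at h00 h11 h21
  apply SU2_ext hF
  · rw [mt_one, h11, ← h00]; simp
  · rw [mt_one, h21]; simp

/-- conjugation of the second block by the torus of the first -/
theorem torus_conj' (hF : Fintype.card F = q ^ 2) (μ : F) (hμ : μ * μ ^ q = 1) (b b' : SU 2 F q) (h0 : mt b' 0 0 = mt b 0 0)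
    (h1 : mt b' 1 0 = μ * mt b 1 0) :
    emb hF (hd (by omega : 2 ≤ 3)) (tor hF μ hμ) * emb hF (tl 2) b =
      emb hF (tl 2) b' * emb hF (hd (by omega : 2 ≤ 3)) (tor hF μ hμ) := by
  apply mt_inj
  rw [mt_mul, mt_mul, mt_emb_hd_three, mt_emb_tl_three, mt_emb_tl_three, mt_tor, SU2_01 hF b, SU2_11 hF b, SU2_01 hF b',
    SU2_11 hF b', h0, h1]
  ext i j
  rw [Matrix.mul_apply, Matrix.mul_apply, Fin.sum_univ_three, Fin.sum_univ_three]
  fin_cases i <;> fin_cases j <;> simp [mul_pow]
  · ring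
  · linear_combination (-mt b 1 0) * hμ

/-- the tori of adjacent pairs coincide -/
theorem torus_compat (hF : Fintype.card F = q ^ 2) (hq : 2 ≤ q) {G : Type*} [Group G] (φ φ' : SU 3 F q →* G)
    (hφ : φ.ker ≤ Subgroup.center (SU 3 F q)) (hφ' : φ'.ker ≤ Subgroup.center (SU 3 F q))
    (hr : ∀ b, ∃ b', φ' (emb hF (hd (by omega : 2 ≤ 3)) b) = φ (emb hF (tl 2) b'))
    (hr' : ∀ b, ∃ b', φ (emb hF (tl 2) b) = φ' (emb hF (hd (by omega : 2 ≤ 3)) b'))
    (hc : ∀ b b', φ (emb hF (hd (by omega : 2 ≤ 3)) b) * φ' (emb hF (tl 2) b') =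
      φ' (emb hF (tl 2) b') * φ (emb hF (hd (by omega : 2 ≤ 3)) b)) (c : F) (hcc : c * c ^ q = 1) :
    ∃ c' hc', φ' (emb hF (hd (by omega : 2 ≤ 3)) (tor hF c hcc)) = φ (emb hF (tl 2) (tor hF c' hc')) := by
  -- a norm one element different from `1`
  obtain ⟨μ, hμ, hμ1⟩ : ∃ μ : F, μ * μ ^ q = 1 ∧ μ ≠ 1 := by
    obtain ⟨g, hg, hg'⟩ := H7.QuadExt.exists_gen_norm_one hF
    refine ⟨g, ?_, ?_⟩
    · have h1 : g ^ (q + 1) = 1 := by rw [← hg, pow_orderOf_eq_one]
      rw [← pow_succ', ← Units.val_pow_eq_pow_val, h1, Units.val_one]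
    · intro h
      have : g = 1 := Units.ext h
      rw [this, orderOf_one] at hg
      omega
  obtain ⟨t', ht'⟩ := hr (tor hF c hcc)
  set x := φ (emb hF (hd (by omega : 2 ≤ 3)) (tor hF μ hμ)) with hx
  set B := φ' (emb hF (hd (by omega : 2 ≤ 3)) (tor hF c hcc)) with hB
  -- the conjugate
  obtain ⟨t'', ht''⟩ : ∃ t'' : SU 2 F q, mt t'' 0 0 = mt t' 0 0 ∧ mt t'' 1 0 = μ * mt t' 1 0 := by
    refine ⟨su2 hF (mt t' 0 0) (μ * mt t' 1 0) ?_, rfl, rfl⟩
    rw [mul_pow]
    linear_combination SU2_col hF t' + (mt t' 1 0 * mt t' 1 0 ^ q) * hμ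
  have hconj : x * φ (emb hF (tl 2) t') = φ (emb hF (tl 2) t'') * x := by
    rw [hx, ← map_mul, ← map_mul, torus_conj' hF μ hμ t' t'' ht''.1 ht''.2]
  obtain ⟨b, hb⟩ := hr' t''
  have hxB : x * B = φ' (emb hF (hd (by omega : 2 ≤ 3)) b) * x := by rw [ht', hconj, hb]
  -- the element centralizing the second block
  have hs : (tor hF c hcc)⁻¹ * b = 1 := by
    apply eq_one_of_comm hF φ' hφ'
    intro w
    rw [map_mul, map_mul, map_inv, map_inv, ← hB]
    set W := φ' (emb hF (tl 2) w) with hW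
    have hxW : x * W = W * x := hc _ w
    -- `B W B⁻¹` commutes with `x`
    obtain ⟨w', hw'⟩ : ∃ w' : SU 2 F q, mt w' 0 0 = mt w 0 0 ∧ mt w' 1 0 = c * mt w 1 0 := by
      refine ⟨su2 hF (mt w 0 0) (c * mt w 1 0) ?_, rfl, rfl⟩
      rw [mul_pow]
      linear_combination SU2_col hF w + (mt w 1 0 * mt w 1 0 ^ q) * hcc
    have hBW : B * W = φ' (emb hF (tl 2) w') * B := by
      rw [hB, hW, ← map_mul, ← map_mul, torus_conj' hF c hcc w w' hw'.1 hw'.2]
    have hxW' : x * φ' (emb hF (tl 2) w') = φ' (emb hF (tl 2) w') * x := hc _ w'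
    set W' := φ' (emb hF (tl 2) w') with hW'
    set B' := φ' (emb hF (hd (by omega : 2 ≤ 3)) b) with hB'
    -- `B' W B'⁻¹ = W'`
    have e1 : B' = x * B * x⁻¹ := by rw [hxB]; group
    have e2 : B' * W = W' * B' := by
      rw [e1]
      calc x * B * x⁻¹ * W = x * B * (x⁻¹ * (W * x)) * x⁻¹ := by group
        _ = x * (B * W) * x⁻¹ := by rw [← hxW]; group
        _ = x * W' * B * x⁻¹ := by rw [hBW]; group
        _ = W' * (x * B * x⁻¹) := by rw [hxW']; group
    calc B⁻¹ * B' * W = B⁻¹ * W' * B * (B⁻¹ * B') := by rw [mul_assoc B⁻¹ B' W, e2]; group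
      _ = B⁻¹ * (W' * B) * (B⁻¹ * B') := by group
      _ = W * (B⁻¹ * B') := by rw [← hBW]; group
  have hbt : b = tor hF c hcc := (inv_mul_eq_one.mp hs).symm
  have htt : φ (emb hF (tl 2) t'') = φ (emb hF (tl 2) t') := by rw [hb, hbt, ← hB, ht']
  have htt' : t'' = t' := by
    have : t''⁻¹ * t' = 1 := by
      apply inj_tl hF φ hφ
      rw [map_mul, map_mul, map_inv, map_inv, htt, inv_mul_cancel]
    exact inv_mul_eq_one.mp this
  have h10 : mt t' 1 0 = 0 := by
    have h := ht''.2
    rw [htt'] at h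
    have h2 : (μ - 1) * mt t' 1 0 = 0 := by linear_combination -h
    rcases mul_eq_zero.mp h2 with h3 | h3
    · exact absurd (sub_eq_zero.mp h3) hμ1
    · exact h3
  have hcol := SU2_col hF t'
  rw [h10, zero_mul, add_zero] at hcol
  refine ⟨mt t' 0 0, hcol, ?_⟩
  rw [ht']
  congr 2
  apply SU2_ext hF
  · rw [mt_tor]; rfl
  · rw [mt_tor, h10]; rfl

/-- the block subgroups of the definition -/
theorem suBlock_hd (hF : Fintype.card F = q ^ 2) : suBlock 3 F q {0, 1} = (emb hF (hd (by omega : 2 ≤ 3))).range := by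
  apply le_antisymm
  · unfold suBlock
    rw [Subgroup.closure_le]
    intro A hA
    obtain ⟨b, hb⟩ := mem_range_emb hF (hd (by omega : 2 ≤ 3)) A (by
      intro j hj
      have h2 : j = 2 := by
        fin_cases j
        · exact absurd rfl (hj 0)
        · exact absurd rfl (hj 1)
        · rfl
      subst h2
      obtain ⟨h1, h2⟩ := hA 2 (by simp)
      rw [col_single]
      ext k
      by_cases hk : k = 2
      · subst hk
        rw [Pi.single_eq_same]
        exact h1
      · rw [Pi.single_eq_of_ne hk]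
        exact (h2 k hk).2)
    exact ⟨b, hb⟩
  · rintro _ ⟨b, rfl⟩
    apply Subgroup.subset_closure
    intro k hk
    have h2 : k = 2 := by
      fin_cases k
      · exact absurd (by simp) hk
      · exact absurd (by simp) hk
      · rfl
    subst h2
    have e := mt_emb_hd_three hF b
    unfold mt at e
    constructor
    · rw [e]; simp
    · intro l hl
      rw [e]
      fin_cases l
      · simp
      · simp
      · exact absurd rfl hl

theorem suBlock_tl (hF : Fintype.card F = q ^ 2) : suBlock 3 F q {1, 2} = (emb hF (tl 2)).range := by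
  apply le_antisymm
  · unfold suBlock
    rw [Subgroup.closure_le]
    intro A hA
    obtain ⟨b, hb⟩ := mem_range_emb hF (tl 2) A (by
      intro j hj
      have h2 : j = 0 := by
        fin_cases j
        · rfl
        · exact absurd rfl (hj 0)
        · exact absurd rfl (hj 1)
      subst h2
      obtain ⟨h1, h2⟩ := hA 0 (by simp)
      rw [col_single]
      ext k
      by_cases hk : k = 0
      · subst hk
        rw [Pi.single_eq_same]
        exact h1
      · rw [Pi.single_eq_of_ne hk]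
        exact (h2 k hk).2)
    exact ⟨b, hb⟩
  · rintro _ ⟨b, rfl⟩
    apply Subgroup.subset_closure
    intro k hk
    have h2 : k = 0 := by
      fin_cases k
      · rfl
      · exact absurd (by simp) hk
      · exact absurd (by simp) hk
    subst h2
    have e := mt_emb_tl_three hF b
    unfold mt at e
    constructor
    · rw [e]; simp
    · intro l hl
      rw [e]
      fin_cases l
      · exact absurd rfl hl
      · simp
      · simp

/-- from a standard pair to a map -/
theorem exists_map_of_pair (hF : Fintype.card F = q ^ 2) {G : Type*} [Group G] {V A B : Subgroup G}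
    (h : IsStandardUnitaryPair V A B F q) :
    ∃ φ : SU 3 F q →* G, φ.range = V ∧ φ.ker ≤ Subgroup.center (SU 3 F q) ∧
      (φ.comp (emb hF (hd (by omega : 2 ≤ 3)))).range = A ∧ (φ.comp (emb hF (tl 2))).range = B := by
  rcases h with ⟨ψ, hA, hB⟩ | ⟨ψ, hA, hB⟩
  · refine ⟨V.subtype.comp ψ.toMonoidHom, ?_, ?_, ?_, ?_⟩
    · rw [MonoidHom.range_comp, MonoidHom.range_eq_top.mpr ψ.surjective, ← MonoidHom.range_eq_map, Subgroup.range_subtype]
    · intro x hx
      have h1 : ψ x = 1 := Subtype.ext hx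
      rw [map_eq_one_iff ψ ψ.injective] at h1
      rw [h1]
      exact Subgroup.one_mem _
    · rw [MonoidHom.range_comp, ← suBlock_hd hF]
      exact hA
    · rw [MonoidHom.range_comp, ← suBlock_tl hF]
      exact hB
  · refine ⟨V.subtype.comp (ψ.toMonoidHom.comp (QuotientGroup.mk' (Subgroup.center (SU 3 F q)))), ?_, ?_, ?_, ?_⟩
    · rw [MonoidHom.range_comp, MonoidHom.range_comp, MonoidHom.range_eq_top.mpr (QuotientGroup.mk'_surjective _),
        ← MonoidHom.range_eq_map, MonoidHom.range_eq_top.mpr ψ.surjective, ← MonoidHom.range_eq_map, Subgroup.range_subtype]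
    · intro x hx
      have h1 : ψ (QuotientGroup.mk x) = 1 := Subtype.ext hx
      rw [map_eq_one_iff ψ ψ.injective] at h1
      exact (QuotientGroup.eq_one_iff x).mp h1
    · rw [MonoidHom.range_comp, ← suBlock_hd hF]
      exact hA
    · rw [MonoidHom.range_comp, ← suBlock_tl hF]
      exact hB

end H60.Ph
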