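import Mathlib
import Cfsg.Agent.Lib.H60.PhI
import Cfsg.Agent.Lib.H6.SLGen

/-!
Phan systems, part J: diagonalization of unitary matrices of order dividing `q + 1`; embedded copies of `SU 2` in
`SU 3` fix a nonsingular vector.
-/

set_option autoImplicit false
set_option linter.unusedSectionVars false
set_option linter.unusedVariables false

namespace H60.Ph

open Matrix Cfsg H16.Herm

variable {F : Type*} [Field F] [Fintype F] {q : ℕ} (hF : Fintype.card F = q ^ 2)

include hF

theorem cast_q : ((q : ℕ) : F) = 0 := by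
  obtain ⟨p, r, hp, hc, hr, hq⟩ := exists_q_eq hF
  rw [hq, Nat.cast_pow, CharP.cast_eq_zero, zero_pow hr.ne']

omit hF in
theorem inv_of_norm {c : F} (hc : c * c ^ q = 1) : c⁻¹ = c ^ q := by
  have : c ≠ 0 := left_ne_zero_of_mul_eq_one hc
  exact inv_eq_of_mul_eq_one_right hc

/-- eigenvectors of an isometry of order dividing `q + 1` -/
theorem exists_eigen {n : ℕ} (M : Matrix (Fin n) (Fin n) F)
    (hM : ∀ u v, hermForm n F q (M *ᵥ u) (M *ᵥ v) = hermForm n F q u v) (hM1 : M ^ (q + 1) = 1) (u : Fin n → F)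
    (hu : hermForm n F q u u ≠ 0) :
    ∃ (c : F) (v : Fin n → F), c * c ^ q = 1 ∧ M *ᵥ v = c • v ∧ hermForm n F q v v = 1 ∧
      ∀ (f : Fin n → F) (d : F), d * d ^ q = 1 → M *ᵥ f = d • f → hermForm n F q u f = 0 → hermForm n F q v f = 0 := by
  classical
  obtain ⟨g, hg, -⟩ := H7.QuadExt.exists_gen_norm_one hF
  have hgF : (g : F) ^ (q + 1) = 1 := by
    rw [← Units.val_pow_eq_pow_val, ← hg, pow_orderOf_eq_one, Units.val_one]
  have hlam : ∀ j : ℕ, ((g : F) ^ j) ^ (q + 1) = 1 := by
    intro j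
    rw [← pow_mul, mul_comm, pow_mul, hgF, one_pow]
  let E : F → (Fin n → F) := fun c => ∑ k ∈ Finset.range (q + 1), (c⁻¹) ^ k • ((M ^ k) *ᵥ u)
  have hE : ∀ c : F, c ^ (q + 1) = 1 → M *ᵥ (E c) = c • E c := by
    intro c hc
    have hc0 : c ≠ 0 := by
      rintro rfl
      rw [zero_pow (by omega)] at hc
      exact zero_ne_one hc
    have h1 : M *ᵥ (E c) = ∑ k ∈ Finset.range (q + 1), (c⁻¹) ^ k • ((M ^ (k + 1)) *ᵥ u) := by
      simp only [E]
      rw [Matrix.mulVec_sum]
      refine Finset.sum_congr rfl fun k _ => ?_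
      rw [Matrix.mulVec_smul, Matrix.mulVec_mulVec, ← pow_succ']
    have h2 : ∑ k ∈ Finset.range (q + 1), (c⁻¹) ^ (k + 1) • ((M ^ (k + 1)) *ᵥ u) = E c := by
      have h3 := Finset.sum_range_succ (fun k => (c⁻¹) ^ k • ((M ^ k) *ᵥ u)) (q + 1)
      have h4 := Finset.sum_range_succ' (fun k => (c⁻¹) ^ k • ((M ^ k) *ᵥ u)) (q + 1)
      rw [h3] at h4
      rw [inv_pow, hc, hM1, inv_one, pow_zero, pow_zero] at h4
      exact (add_right_cancel h4).symm
    rw [h1, ← h2, Finset.smul_sum]
    refine Finset.sum_congr rfl fun k _ => ?_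
    rw [smul_smul]
    congr 1
    rw [pow_succ']
    field_simp
  have hperp : ∀ c d : F, c * c ^ q = 1 → d * d ^ q = 1 → c ≠ d → ∀ x y : Fin n → F, M *ᵥ x = c • x → M *ᵥ y = d • y →
      hermForm n F q x y = 0 := by
    intro c d hc hd hcd x y hx hy
    have h1 := hM x y
    rw [hx, hy, hermForm_smul_left, hermForm_smul_right] at h1
    have h2 : (c * d ^ q - 1) * hermForm n F q x y = 0 := by linear_combination h1
    rcases mul_eq_zero.mp h2 with h3 | h3
    · exfalso
      apply hcd
      have hd0 : d ^ q ≠ 0 := right_ne_zero_of_mul_eq_one hd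
      apply mul_right_cancel₀ hd0
      rw [hd]
      linear_combination h3
    · exact h3
  -- the sum of the components
  have hsum : ∑ j ∈ Finset.range (q + 1), E ((g : F) ^ j) = u := by
    simp only [E]
    rw [Finset.sum_comm, Finset.sum_eq_single 0]
    · rw [pow_zero, Matrix.one_mulVec]
      simp only [pow_zero, one_smul, Finset.sum_const, Finset.card_range]
      rw [succ_nsmul, ← Nat.cast_smul_eq_nsmul F, cast_q hF, zero_smul, zero_add]
    · intro k hk hk0
      rw [← Finset.sum_smul]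
      have hx1 : ((g : F)⁻¹) ^ k ≠ 1 := by
        intro h
        rw [inv_pow, inv_eq_one, ← Units.val_pow_eq_pow_val] at h
        have h5 : g ^ k = 1 := Units.ext h
        have h6 := orderOf_dvd_of_pow_eq_one h5
        rw [hg] at h6
        exact absurd (Nat.le_of_dvd (Nat.pos_of_ne_zero hk0) h6) (by rw [Finset.mem_range] at hk; omega)
      have h7 : ∑ j ∈ Finset.range (q + 1), (((g : F) ^ j)⁻¹) ^ k = 0 := by
        have h8 : ∀ j, (((g : F) ^ j)⁻¹) ^ k = (((g : F)⁻¹) ^ k) ^ j := by
          intro j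
          rw [← inv_pow, ← pow_mul, ← pow_mul, mul_comm]
        simp only [h8]
        have h9 := mul_geom_sum (((g : F)⁻¹) ^ k) (q + 1)
        have hgi : ((g : F)⁻¹) ^ (q + 1) = 1 := by rw [inv_pow, hgF, inv_one]
        rw [← pow_mul, mul_comm k, pow_mul, hgi, one_pow, sub_self] at h9
        exact (mul_eq_zero.mp h9).resolve_left (sub_ne_zero.mpr hx1)
      rw [h7, zero_smul]
    · intro h
      exact absurd (Finset.mem_range.mpr (by omega)) h
  -- some component is nonsingular
  have hex : ∃ j ∈ Finset.range (q + 1), hermForm n F q (E ((g : F) ^ j)) (E ((g : F) ^ j)) ≠ 0 := by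
    by_contra hcon
    push Not at hcon
    apply hu
    have hl : ∀ v : Fin n → F, hermForm n F q u v = ∑ j ∈ Finset.range (q + 1), hermForm n F q (E ((g : F) ^ j)) v := by
      intro v
      conv_lhs => rw [← hsum]
      induction (Finset.range (q + 1)) using Finset.induction_on with
      | empty => simp [hermForm_zero_left]
      | insert a s ha ih => rw [Finset.sum_insert ha, Finset.sum_insert ha, hermForm_add_left, ih]
    have hr : ∀ v : Fin n → F, hermForm n F q v u = ∑ j ∈ Finset.range (q + 1), hermForm n F q v (E ((g : F) ^ j)) := by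
      intro v
      conv_lhs => rw [← hsum]
      induction (Finset.range (q + 1)) using Finset.induction_on with
      | empty => simp [hermForm_zero_right hF]
      | insert a s ha ih => rw [Finset.sum_insert ha, Finset.sum_insert ha, hermForm_add_right hF, ih]
    rw [hl]
    apply Finset.sum_eq_zero
    intro j hj
    rw [hr]
    apply Finset.sum_eq_zero
    intro i hi
    by_cases hij : j = i
    · subst hij
      exact hcon j hj
    · apply hperp _ _ _ _ _ _ _ (hE _ (hlam j)) (hE _ (hlam i))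
      · rw [← pow_succ', hlam]
      · rw [← pow_succ', hlam]
      · intro h
        apply hij
        have h5 : g ^ j = g ^ i := Units.ext (by rw [Units.val_pow_eq_pow_val, Units.val_pow_eq_pow_val]; exact h)
        rw [Finset.mem_range] at hj hi
        exact pow_injOn_Iio_orderOf (by simpa [hg] using hj) (by simpa [hg] using hi) h5
  obtain ⟨j, hj, hne⟩ := hex
  obtain ⟨c, hc0, hc⟩ := exists_unit_smul hF hne
  refine ⟨(g : F) ^ j, c • E ((g : F) ^ j), by rw [← pow_succ', hlam], ?_, hc, ?_⟩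
  · rw [Matrix.mulVec_smul, hE _ (hlam j), smul_comm]
  · intro f d hd hf huf
    rw [hermForm_smul_left]
    have h1 : ∀ k : ℕ, hermForm n F q ((M ^ k) *ᵥ u) f = 0 := by
      intro k
      induction k with
      | zero => rw [pow_zero, Matrix.one_mulVec]; exact huf
      | succ k ih =>
        have hd0 : d ≠ 0 := left_ne_zero_of_mul_eq_one hd
        have h2 : f = d⁻¹ • (M *ᵥ f) := by rw [hf, smul_smul, inv_mul_cancel₀ hd0, one_smul]
        rw [pow_succ', ← Matrix.mulVec_mulVec, h2, hermForm_smul_right, hM, ih, mul_zero]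
    have h3 : hermForm n F q (E ((g : F) ^ j)) f = 0 := by
      simp only [E]
      have h4 : ∀ s : Finset ℕ, hermForm n F q (∑ k ∈ s, (((g : F) ^ j)⁻¹) ^ k • ((M ^ k) *ᵥ u)) f = 0 := by
        intro s
        induction s using Finset.induction_on with
        | empty => simp [hermForm_zero_left]
        | insert a s ha ih => rw [Finset.sum_insert ha, hermForm_add_left, hermForm_smul_left, h1, ih, mul_zero, add_zero]
      exact h4 _
    rw [h3, mul_zero]

/-- diagonalization in dimension three -/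
theorem exists_diag3 (d : SU 3 F q) (hd : d ^ (q + 1) = 1) :
    ∃ (g : SU 3 F q) (c : Fin 3 → F), (∀ i, c i * c i ^ q = 1) ∧
      ∀ i, mt d *ᵥ (mt g *ᵥ (Pi.single i 1)) = c i • (mt g *ᵥ (Pi.single i 1)) := by
  have hM1 : (mt d) ^ (q + 1) = 1 := by
    have : ∀ k : ℕ, (mt d) ^ k = mt (d ^ k) := by
      intro k
      induction k with
      | zero => rfl
      | succ k ih => rw [pow_succ, pow_succ, mt_mul, ih]
    rw [this, hd, mt_one]
  have hM := mt_form d
  have he : ∀ i : Fin 3, hermForm 3 F q (Pi.single i 1) (Pi.single i 1) = 1 := by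
    intro i
    rw [hermForm_single_left]; simp
  obtain ⟨c0, v0, hc0, h0, hv0, -⟩ := exists_eigen hF (mt d) hM hM1 (Pi.single 0 1) (by rw [he]; exact one_ne_zero)
  obtain ⟨w, hw, hw0⟩ := exists_unit_perp hF (f := fun _ : Unit => v0) (by intro i j; simp [hv0]) (by simp)
  obtain ⟨c1, v1, hc1, h1, hv1, hperp⟩ := exists_eigen hF (mt d) hM hM1 w (by rw [hw]; exact one_ne_zero)
  have hv10 := hperp v0 c0 hc0 h0 (hw0 ())
  have hv01 := perp_symm hF hv10
  obtain ⟨g, hg⟩ := exists_SU_cols hF ({0, 1} : Finset (Fin 3)) (by decide) (fun i => if i = 0 then v0 else v1) (by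
    intro i hi j hj
    simp only [Finset.mem_insert, Finset.mem_singleton] at hi hj
    rcases hi with rfl | rfl <;> rcases hj with rfl | rfl
    · simp [hv0]
    · simp [hv01]
    · simp [hv10]
    · simp [hv1])
  have hg0 : mt g *ᵥ (Pi.single 0 1) = v0 := by rw [hg 0 (by simp)]; simp
  have hg1 : mt g *ᵥ (Pi.single 1 1) = v1 := by rw [hg 1 (by simp)]; simp
  -- the third vector
  set v2 := mt g *ᵥ (Pi.single 2 1) with hv2
  set x := mt g⁻¹ *ᵥ (mt d *ᵥ v2) with hx
  have hgx : mt g *ᵥ x = mt d *ᵥ v2 := by rw [hx, Matrix.mulVec_mulVec, mt_mul_inv, Matrix.one_mulVec]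
  have hv22 : hermForm 3 F q v2 v2 = 1 := by rw [hv2, mt_form, he]
  have hv20 : hermForm 3 F q v2 v0 = 0 := by
    rw [hv2, ← hg0, mt_form, hermForm_single_left]
    simp [zero_pow_q hF]
  have hv21 : hermForm 3 F q v2 v1 = 0 := by
    rw [hv2, ← hg1, mt_form, hermForm_single_left]
    simp [zero_pow_q hF]
  have hx0 : x 0 = 0 := by
    rw [← hermForm_single_right (q := q) x 0 hF, ← mt_form g, hgx, hg0]
    have hne : c0 ≠ 0 := left_ne_zero_of_mul_eq_one hc0
    have h2 : v0 = c0⁻¹ • (mt d *ᵥ v0) := by rw [h0, smul_smul, inv_mul_cancel₀ hne, one_smul]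
    rw [h2, hermForm_smul_right, hM, hv20, mul_zero]
  have hx1 : x 1 = 0 := by
    rw [← hermForm_single_right (q := q) x 1 hF, ← mt_form g, hgx, hg1]
    have hne : c1 ≠ 0 := left_ne_zero_of_mul_eq_one hc1
    have h2 : v1 = c1⁻¹ • (mt d *ᵥ v1) := by rw [h1, smul_smul, inv_mul_cancel₀ hne, one_smul]
    rw [h2, hermForm_smul_right, hM, hv21, mul_zero]
  have hxe : x = x 2 • (Pi.single 2 1 : Fin 3 → F) := by
    ext i
    fin_cases i
    · simpa using hx0
    · simpa using hx1
    · simp
  have hdv2 : mt d *ᵥ v2 = x 2 • v2 := by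
    rw [← hgx, hxe, Matrix.mulVec_smul, ← hv2]
    simp
  have hc2 : x 2 * x 2 ^ q = 1 := by
    have := hM v2 v2
    rw [hdv2, hermForm_smul_left, hermForm_smul_right, hv22, mul_one] at this
    exact this
  refine ⟨g, ![c0, c1, x 2], ?_, ?_⟩
  · intro i
    fin_cases i
    · exact hc0
    · exact hc1
    · exact hc2
  · intro i
    fin_cases i
    · show mt d *ᵥ (mt g *ᵥ (Pi.single 0 1)) = c0 • (mt g *ᵥ (Pi.single 0 1))
      rw [hg0]; exact h0
    · show mt d *ᵥ (mt g *ᵥ (Pi.single 1 1)) = c1 • (mt g *ᵥ (Pi.single 1 1))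
      rw [hg1]; exact h1
    · exact hdv2

end H60.Ph
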