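import Mathlib
import Cfsg.Agent.Lib.H60.PhJ
import Cfsg.Agent.Lib.H42.Herm3

/-!
Phan systems, part K: a subgroup of `SU 3` isomorphic to `SU 2` fixes a nonsingular vector.
-/

set_option autoImplicit false
set_option linter.unusedSectionVars false
set_option linter.unusedVariables false

namespace H60.Ph

open Matrix Cfsg H16.Herm
open scoped commutatorElement

variable {F : Type*} [Field F] [Fintype F] {q : ℕ} (hF : Fintype.card F = q ^ 2)

theorem SL2_perfect {K : Type*} [Field K] [Fintype K] (hK : 4 ≤ Fintype.card K) :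
    commutator (SpecialLinearGroup (Fin 2) K) = ⊤ := by
  classical
  have : ∃ a : K, a ∉ ({0, 1, -1} : Finset K) := by
    by_contra hcon
    push Not at hcon
    have h1 : (Finset.univ : Finset K) ⊆ {0, 1, -1} := fun a _ => hcon a
    have h2 := Finset.card_le_card h1
    rw [Finset.card_univ] at h2
    have h3 : ({0, 1, -1} : Finset K).card ≤ 3 := Finset.card_le_three
    omega
  obtain ⟨a, ha⟩ := this
  simp only [Finset.mem_insert, Finset.mem_singleton, not_or] at ha
  refine Matrix.SL2.commutator_eq_top ha.1 (fun h => ?_)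
  rcases (sq_eq_one_iff (a := a)).mp h with h | h
  · exact ha.2.1 h
  · exact ha.2.2 h

include hF

theorem SU2_perfect (hq : 4 ≤ q) : commutator (SU 2 F q) = ⊤ := by
  classical
  let K := H7.SmallField.fixedField hF
  let _ : Fintype K := Fintype.ofFinite _
  have hK : Fintype.card K = q := by
    rw [← Nat.card_eq_fintype_card]
    exact H7.QuadExt.card_fixed hF
  obtain ⟨σ, P, P', f, h1, h2, hf⟩ := exists_SU2_model hF hK
  have h := SL2_perfect (K := K) (by rw [hK]; exact hq)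
  rw [eq_top_iff]
  intro x _
  obtain ⟨y, rfl⟩ := f.surjective x
  have hy : y ∈ commutator (SpecialLinearGroup (Fin 2) K) := by rw [h]; exact Subgroup.mem_top _
  have h3 : (commutator (SpecialLinearGroup (Fin 2) K)).map f.toMonoidHom ≤ commutator (SU 2 F q) := by
    rw [commutator_def, Subgroup.map_commutator, commutator_def]
    exact Subgroup.commutator_mono le_top le_top
  exact h3 (Subgroup.mem_map_of_mem f.toMonoidHom hy)

theorem fix_of_line (hq : 4 ≤ q) (e : SU 2 F q →* SU 3 F q) (v : Fin 3 → F) (hv : v ≠ 0)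
    (h : ∀ a, ∃ χ : F, mt (e a) *ᵥ v = χ • v) (a : SU 2 F q) : mt (e a) *ᵥ v = v := by
  let N : Subgroup (SU 2 F q) :=
    { carrier := {a | mt (e a) *ᵥ v = v}
      mul_mem' := by
        intro a b ha hb
        show mt (e (a * b)) *ᵥ v = v
        rw [map_mul, mt_mul, ← Matrix.mulVec_mulVec, show mt (e b) *ᵥ v = v from hb]
        exact ha
      one_mem' := by
        show mt (e 1) *ᵥ v = v
        rw [map_one, mt_one, Matrix.one_mulVec]
      inv_mem' := by
        intro a ha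
        show mt (e a⁻¹) *ᵥ v = v
        have ha' : mt (e a) *ᵥ v = v := ha
        conv_lhs => rw [← ha']
        rw [map_inv, Matrix.mulVec_mulVec, mt_inv_mul, Matrix.one_mulVec] }
  have hle : commutator (SU 2 F q) ≤ N := by
    rw [commutator_def, Subgroup.commutator_le]
    intro a _ b _
    show mt (e ⁅a, b⁆) *ᵥ v = v
    obtain ⟨x, hx⟩ := h a
    obtain ⟨y, hy⟩ := h b
    obtain ⟨x', hx'⟩ := h a⁻¹
    obtain ⟨y', hy'⟩ := h b⁻¹
    have e1 : x' * x = 1 := by
      have h1 : mt (e a) *ᵥ (mt (e a⁻¹) *ᵥ v) = v := by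
        rw [Matrix.mulVec_mulVec, ← mt_mul, ← map_mul, mul_inv_cancel, map_one, mt_one, Matrix.one_mulVec]
      rw [hx', Matrix.mulVec_smul, hx, smul_smul] at h1
      have h2 : (x' * x - 1) • v = 0 := by rw [sub_smul, h1, one_smul, sub_self]
      exact sub_eq_zero.mp ((smul_eq_zero.mp h2).resolve_right hv)
    have e2 : y' * y = 1 := by
      have h1 : mt (e b) *ᵥ (mt (e b⁻¹) *ᵥ v) = v := by
        rw [Matrix.mulVec_mulVec, ← mt_mul, ← map_mul, mul_inv_cancel, map_one, mt_one, Matrix.one_mulVec]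
      rw [hy', Matrix.mulVec_smul, hy, smul_smul] at h1
      have h2 : (y' * y - 1) • v = 0 := by rw [sub_smul, h1, one_smul, sub_self]
      exact sub_eq_zero.mp ((smul_eq_zero.mp h2).resolve_right hv)
    rw [commutatorElement_def, map_mul, map_mul, map_mul, mt_mul, mt_mul, mt_mul, ← Matrix.mulVec_mulVec,
      ← Matrix.mulVec_mulVec, ← Matrix.mulVec_mulVec]
    simp only [hy', hx', hx, hy, Matrix.mulVec_smul, smul_smul]
    have : y' * x' * y * x = 1 := by
      calc y' * x' * y * x = (y' * y) * (x' * x) := by ring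
        _ = 1 := by rw [e1, e2, one_mul]
    rw [this, one_smul]
  have : a ∈ commutator (SU 2 F q) := by rw [SU2_perfect hF hq]; exact Subgroup.mem_top _
  exact hle this

theorem exists_fixed_odd (hq : 4 ≤ q) (h2 : (2 : F) ≠ 0) (e : SU 2 F q →* SU 3 F q) (he : Function.Injective e) :
    ∃ v, hermForm 3 F q v v = 1 ∧ ∀ a, mt (e a) *ᵥ v = v := by
  -- parity of `q`
  have hodd : Even (q + 1) := by
    obtain ⟨p, r, hp, hc, hr, hqp⟩ := exists_q_eq hF
    have hp2 : p ≠ 2 := by
      rintro rfl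
      exact h2 (by exact_mod_cast CharP.cast_eq_zero F 2)
    rw [hqp]
    exact ((hp.odd_of_ne_two hp2).pow).add_one
  have hm1 : (-1 : F) * (-1) ^ q = 1 := by
    rw [neg_pow_q hF, one_pow, mul_neg_one, neg_neg]
  set z₀ := tor hF (-1) hm1 with hz₀
  have hmz₀ : mt z₀ = -1 := by
    rw [hz₀, mt_tor, neg_pow_q hF, one_pow]
    ext i j
    fin_cases i <;> fin_cases j <;> simp
  have hz₀2 : z₀ * z₀ = 1 := mt_inj (by rw [mt_mul, hmz₀, mt_one, neg_mul_neg, Matrix.one_mul])
  have hz₀1 : z₀ ≠ 1 := by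
    intro h
    have h3 := congrArg (fun x => mt x 0 0) h
    simp only [hmz₀, mt_one] at h3
    apply h2
    simp at h3
    linear_combination -h3
  have hz₀c : ∀ a, z₀ * a = a * z₀ := fun a => mt_inj (by rw [mt_mul, mt_mul, hmz₀, neg_mul, Matrix.one_mul, mul_neg, Matrix.mul_one])
  set z := e z₀ with hz
  have hz2 : z * z = 1 := by rw [hz, ← map_mul, hz₀2, map_one]
  have hz1 : z ≠ 1 := by
    intro h
    exact hz₀1 (he (by rw [map_one]; exact h))
  have hzc : ∀ a, z * e a = e a * z := fun a => by rw [hz, ← map_mul, hz₀c, map_mul]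
  obtain ⟨g, c, hc, hg⟩ := exists_diag3 hF z (by
    obtain ⟨k, hk⟩ := hodd
    rw [hk, pow_add, ← (Commute.refl z).mul_pow, hz2, one_pow])
  set G := mt g with hG
  have hmat : mt z * G = G * Matrix.diagonal c := by
    apply Matrix.ext_of_mulVec_single
    intro j
    rw [← Matrix.mulVec_mulVec, hg, ← Matrix.mulVec_mulVec, Matrix.diagonal_mulVec_single, mul_one,
      ← Matrix.mulVec_smul]
    congr 1
    ext i
    by_cases hij : i = j
    · subst hij; simp
    · simp [Pi.single_eq_of_ne hij]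
  have hdet : c 0 * c 1 * c 2 = 1 := by
    have h3 := congrArg Matrix.det hmat
    rw [Matrix.det_mul, Matrix.det_mul, mt_det, hG, mt_det, Matrix.det_diagonal, Fin.prod_univ_three] at h3
    linear_combination -h3
  have hcs : ∀ i, c i = 1 ∨ c i = -1 := by
    intro i
    have h3 : mt z *ᵥ (mt z *ᵥ (G *ᵥ Pi.single i 1)) = G *ᵥ Pi.single i 1 := by
      rw [Matrix.mulVec_mulVec, ← mt_mul, hz2, mt_one, Matrix.one_mulVec]
    rw [hg, Matrix.mulVec_smul, hg, smul_smul] at h3
    have h4 : (c i * c i - 1) • (G *ᵥ Pi.single i 1) = 0 := by rw [sub_smul, h3, one_smul, sub_self]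
    rcases smul_eq_zero.mp h4 with h5 | h5
    · exact mul_self_eq_one_iff.mp (sub_eq_zero.mp h5)
    · exfalso
      have h6 : hermForm 3 F q (G *ᵥ Pi.single i 1) (G *ᵥ Pi.single i 1) = 1 := by
        rw [hG, mt_form, hermForm_single_left]; simp
      rw [h5, hermForm_zero_left] at h6
      exact zero_ne_one h6
  have hnot : ¬ ∀ i, c i = 1 := by
    intro h
    apply hz1
    have h3 : Matrix.diagonal c = (1 : Matrix (Fin 3) (Fin 3) F) := by
      rw [← Matrix.diagonal_one]
      congr 1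
      ext i
      exact h i
    rw [h3, Matrix.mul_one] at hmat
    apply mt_inj
    rw [mt_one]
    calc mt z = mt z * (G * mt g⁻¹) := by rw [hG, mt_mul_inv, Matrix.mul_one]
      _ = 1 := by rw [← Matrix.mul_assoc, hmat, hG, mt_mul_inv]
  have hone : ∃ i, c i = 1 ∧ ∀ j, j ≠ i → c j = -1 := by
    have hne : (-1 : F) ≠ 1 := by
      intro h
      apply h2
      linear_combination -h
    rcases hcs 0 with h0 | h0 <;> rcases hcs 1 with h1 | h1 <;> rcases hcs 2 with h3 | h3
    · exfalso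
      apply hnot
      intro i
      fin_cases i
      · exact h0
      · exact h1
      · exact h3
    · rw [h0, h1, h3] at hdet
      exfalso; apply hne; linear_combination hdet
    · rw [h0, h1, h3] at hdet
      exfalso; apply hne; linear_combination hdet
    · refine ⟨0, h0, fun j hj => ?_⟩
      fin_cases j
      · exact absurd rfl hj
      · exact h1
      · exact h3
    · rw [h0, h1, h3] at hdet
      exfalso; apply hne; linear_combination hdet
    · refine ⟨1, h1, fun j hj => ?_⟩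
      fin_cases j
      · exact h0
      · exact absurd rfl hj
      · exact h3
    · refine ⟨2, h3, fun j hj => ?_⟩
      fin_cases j
      · exact h0
      · exact h1
      · exact absurd rfl hj
    · rw [h0, h1, h3] at hdet
      exfalso; apply hne; linear_combination hdet
  obtain ⟨i, hi, hj⟩ := hone
  have hvv : hermForm 3 F q (G *ᵥ Pi.single i 1) (G *ᵥ Pi.single i 1) = 1 := by
    rw [hG, mt_form, hermForm_single_left]; simp
  refine ⟨G *ᵥ Pi.single i 1, hvv, fix_of_line hF hq e _ ?_ ?_⟩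
  · intro h
    rw [h, hermForm_zero_left] at hvv
    exact zero_ne_one hvv
  · intro a
    set x := mt g⁻¹ *ᵥ (mt (e a) *ᵥ (G *ᵥ Pi.single i 1)) with hx
    have hGx : G *ᵥ x = mt (e a) *ᵥ (G *ᵥ Pi.single i 1) := by
      rw [hx, hG, Matrix.mulVec_mulVec, mt_mul_inv, Matrix.one_mulVec]
    have hzx : mt z *ᵥ (G *ᵥ x) = G *ᵥ x := by
      rw [hGx, Matrix.mulVec_mulVec, ← mt_mul, hzc, mt_mul, ← Matrix.mulVec_mulVec, hg, hi, one_smul]
    rw [Matrix.mulVec_mulVec, hmat, ← Matrix.mulVec_mulVec] at hzx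
    have hdx : Matrix.diagonal c *ᵥ x = x := by
      have h3 := congrArg (fun w => mt g⁻¹ *ᵥ w) hzx
      simpa only [hG, Matrix.mulVec_mulVec, ← Matrix.mul_assoc, mt_inv_mul, Matrix.one_mul, Matrix.one_mulVec] using h3
    have hxj : ∀ j, j ≠ i → x j = 0 := by
      intro j hji
      have h3 := congrFun hdx j
      rw [Matrix.mulVec_diagonal, hj j hji] at h3
      have h4 : 2 * x j = 0 := by linear_combination -h3
      exact (mul_eq_zero.mp h4).resolve_left h2
    refine ⟨x i, ?_⟩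
    rw [← hGx, ← Matrix.mulVec_smul]
    congr 1
    ext j
    by_cases hji : j = i
    · subst hji; simp
    · rw [hxj j hji, Pi.smul_apply, Pi.single_eq_of_ne hji, smul_zero]

/-! ### Even characteristic -/

omit hF in
theorem isotropic_dep (hF : Fintype.card F = q ^ 2) {u v : Fin 3 → F} (hu0 : u ≠ 0)
    (huu : hermForm 3 F q u u = 0) (hvv : hermForm 3 F q v v = 0) (huv : hermForm 3 F q u v = 0) : ∃ c : F, v = c • u := by
  obtain ⟨p, r, hp, hc, hr, hqp⟩ := exists_q_eq hF
  have : Fact p.Prime := ⟨hp⟩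
  subst hqp
  exact H42.Herm3.isotropic_dep hF hu0 huu hvv huv

theorem fix_of_perp {t : SU 3 F q} {u v : Fin 3 → F} (ht : ∀ x, ∃ c : F, mt t *ᵥ x = x + c • u)
    (hv : hermForm 3 F q v u = 0) : mt t *ᵥ v = v := by
  have h : mt t *ᵥ v - v = 0 := by
    apply eq_zero_of_forall_right hF
    intro y
    set y' := mt t⁻¹ *ᵥ y with hy'
    have hty : mt t *ᵥ y' = y := by rw [hy', Matrix.mulVec_mulVec, mt_mul_inv, Matrix.one_mulVec]
    obtain ⟨c, hc⟩ := ht y'
    rw [hermForm_sub_left]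
    conv_lhs => rw [← hty]
    rw [mt_form, hc, hermForm_add_right hF, hermForm_smul_right, hv, mul_zero, add_zero, sub_self]
  exact sub_eq_zero.mp h

omit hF in
theorem eq_one_of_fix {n : ℕ} {t : SU n F q} (h : ∀ x, mt t *ᵥ x = x) : t = 1 := by
  apply mt_inj
  apply Matrix.ext_of_mulVec_single
  intro j
  rw [h, mt_one, Matrix.one_mulVec]

theorem inv_struct (h2 : (2 : F) = 0) {t : SU 3 F q} (ht : t * t = 1) (hne : t ≠ 1) :
    ∃ u : Fin 3 → F, u ≠ 0 ∧ hermForm 3 F q u u = 0 ∧ ∀ x, ∃ c : F, mt t *ᵥ x = x + c • u := by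
  have htt : ∀ x, mt t *ᵥ (mt t *ᵥ x) = x := by
    intro x
    rw [Matrix.mulVec_mulVec, ← mt_mul, ht, mt_one, Matrix.one_mulVec]
  have hN : ∀ x y, hermForm 3 F q (mt t *ᵥ x - x) (mt t *ᵥ y - y) = 0 := by
    intro x y
    have h1 : hermForm 3 F q x (mt t *ᵥ y) = hermForm 3 F q (mt t *ᵥ x) y := by
      rw [← mt_form t x, htt]
    rw [hermForm_sub_left, hermForm_sub_right hF, hermForm_sub_right hF, mt_form, h1]
    linear_combination (hermForm 3 F q x y - hermForm 3 F q (mt t *ᵥ x) y) * h2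
  obtain ⟨x₀, hx₀⟩ : ∃ x, mt t *ᵥ x - x ≠ 0 := by
    by_contra hcon
    push Not at hcon
    exact hne (eq_one_of_fix fun x => sub_eq_zero.mp (hcon x))
  refine ⟨mt t *ᵥ x₀ - x₀, hx₀, hN _ _, fun x => ?_⟩
  obtain ⟨c, hc⟩ := isotropic_dep hF hx₀ (hN _ _) (hN x x) (hN x₀ x)
  exact ⟨c, by rw [← hc]; abel⟩

theorem centers_dep (h2 : (2 : F) = 0) {t t' : SU 3 F q} {u u' : Fin 3 → F} (hu0 : u ≠ 0) (huu : hermForm 3 F q u u = 0)
    (hu'0 : u' ≠ 0) (huu' : hermForm 3 F q u' u' = 0) (ht : ∀ x, ∃ c : F, mt t *ᵥ x = x + c • u)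
    (ht' : ∀ x, ∃ c : F, mt t' *ᵥ x = x + c • u') (hne : t ≠ 1) (hne' : t' ≠ 1) (ht'2 : t' * t' = 1) (hc : t * t' = t' * t) :
    ∃ c : F, u = c • u' := by
  obtain ⟨x₀, hx₀⟩ : ∃ x, mt t *ᵥ x ≠ x := by
    by_contra hcon
    push Not at hcon
    exact hne (eq_one_of_fix hcon)
  obtain ⟨c₀, hc₀⟩ := ht x₀
  have hc₀0 : c₀ ≠ 0 := by
    rintro rfl
    rw [zero_smul, add_zero] at hc₀
    exact hx₀ hc₀
  -- `t' u` is a multiple of `u`
  obtain ⟨c₁, hc₁⟩ := ht (mt t' *ᵥ x₀)
  have h1 : mt t *ᵥ (mt t' *ᵥ x₀) = mt t' *ᵥ (mt t *ᵥ x₀) := by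
    rw [Matrix.mulVec_mulVec, Matrix.mulVec_mulVec, ← mt_mul, ← mt_mul, hc]
  rw [hc₁, hc₀, Matrix.mulVec_add, Matrix.mulVec_smul] at h1
  have h3 : c₁ • u = c₀ • (mt t' *ᵥ u) := add_left_cancel h1
  have h4 : mt t' *ᵥ u = (c₀⁻¹ * c₁) • u := by
    rw [← smul_smul, h3, smul_smul, inv_mul_cancel₀ hc₀0, one_smul]
  set d := c₀⁻¹ * c₁ with hd
  have hd1 : d = 1 := by
    have h5 : mt t' *ᵥ (mt t' *ᵥ u) = u := by rw [Matrix.mulVec_mulVec, ← mt_mul, ht'2, mt_one, Matrix.one_mulVec]
    rw [h4, Matrix.mulVec_smul, h4, smul_smul] at h5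
    have h6 : (d * d - 1) • u = 0 := by rw [sub_smul, h5, one_smul, sub_self]
    have h7 : d * d - 1 = 0 := (smul_eq_zero.mp h6).resolve_right hu0
    have h8 : (d - 1) * (d - 1) = 0 := by linear_combination h7 - (d - 1) * h2
    exact sub_eq_zero.mp (mul_self_eq_zero.mp h8)
  rw [hd1, one_smul] at h4
  -- so `u ⊥ u'`
  obtain ⟨y, hy⟩ : ∃ x, mt t' *ᵥ x ≠ x := by
    by_contra hcon
    push Not at hcon
    exact hne' (eq_one_of_fix hcon)
  obtain ⟨c₂, hc₂⟩ := ht' y
  have hc₂0 : c₂ ≠ 0 := by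
    rintro rfl
    rw [zero_smul, add_zero] at hc₂
    exact hy hc₂
  have h5 : hermForm 3 F q (mt t' *ᵥ y) u = hermForm 3 F q y u := by
    conv_lhs => rw [← h4]
    rw [mt_form]
  rw [hc₂, hermForm_add_left, hermForm_smul_left] at h5
  have h6 : c₂ * hermForm 3 F q u' u = 0 := by linear_combination h5
  have h7 := (mul_eq_zero.mp h6).resolve_left hc₂0
  exact isotropic_dep hF hu'0 huu' huu h7

end H60.Ph
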