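import Mathlib.GroupTheory.QuotientGroup.Basic
import Mathlib.GroupTheory.Index
import Mathlib.GroupTheory.GroupAction.Quotient
import Mathlib.Data.Set.Card
import Mathlib.Tactic

set_option autoImplicit false

namespace H60.AltPres

theorem inv_closed {G X : Type*} [Group G] [MulAction G X] (S : Set X) (hS : S.Finite) (g : G)
    (h : ∀ s ∈ S, g • s ∈ S) : ∀ s ∈ S, g⁻¹ • s ∈ S := by
  intro s hs
  have hf : Finite S := hS
  have hinj : Function.Injective (fun s : S => (⟨g • (s : X), h s s.2⟩ : S)) := by
    intro a b hab
    exact Subtype.ext (MulAction.injective g (congrArg Subtype.val hab))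
  obtain ⟨⟨t, ht⟩, hts⟩ := Finite.surjective_of_injective hinj ⟨s, hs⟩
  have : g • t = s := congrArg Subtype.val hts
  rw [← this, inv_smul_smul]; exact ht

/-- closure of a set of elements preserving a finite set preserves it. -/
theorem closure_closed {G X : Type*} [Group G] [MulAction G X] (S : Set X) (hS : S.Finite) (T : Set G)
    (h : ∀ g ∈ T, ∀ s ∈ S, g • s ∈ S) : ∀ g ∈ Subgroup.closure T, ∀ s ∈ S, g • s ∈ S := by
  intro g hg
  induction hg using Subgroup.closure_induction with
  | mem x hx => exact h x hx
  | one => intro s hs; rwa [one_smul]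
  | mul x y _ _ hx hy => intro s hs; rw [mul_smul]; exact hx _ (hy _ hs)
  | inv x _ hx => exact inv_closed S hS x hx

/-- index bound by coset closure -/
theorem card_le_of_cosets {G : Type*} [Group G] (H : Subgroup G) (T : Set G)
    (hfin : Finite H) (S : Set (G ⧸ H)) (hS : S.Finite) (h1 : ((1 : G) : G ⧸ H) ∈ S)
    (h : ∀ g ∈ T, ∀ s ∈ S, g • s ∈ S) :
    Finite (Subgroup.closure T) ∧ Nat.card (Subgroup.closure T) ≤ S.ncard * Nat.card H := by
  have hcl := closure_closed S hS T h
  set K := Subgroup.closure T with hK
  have hfS : Finite S := hS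
  -- map K → S × H ?
  -- choose representatives
  let f : K → S := fun g => ⟨(g : G) • ((1 : G) : G ⧸ H), hcl g g.2 _ h1⟩
  have hf : ∀ a b : K, f a = f b → (a : G)⁻¹ * b ∈ H := by
    intro a b hab
    have h2 : (a : G) • ((1 : G) : G ⧸ H) = (b : G) • ((1 : G) : G ⧸ H) := congrArg Subtype.val hab
    rw [MulAction.Quotient.smul_coe, MulAction.Quotient.smul_coe, smul_eq_mul, smul_eq_mul, mul_one, mul_one, QuotientGroup.eq] at h2
    exact h2
  classical
  let r : S → K := fun s => if hs : ∃ a : K, f a = s then hs.choose else 1
  have hr : ∀ a : K, f (r (f a)) = f a := by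
    intro a
    have hs : ∃ b : K, f b = f a := ⟨a, rfl⟩
    simp only [r, dif_pos hs]
    exact hs.choose_spec
  let F : K → S × H := fun a => (f a, ⟨(r (f a) : G)⁻¹ * a, hf _ _ (hr a)⟩)
  have hF : Function.Injective F := by
    intro a b hab
    have e1 : f a = f b := congrArg Prod.fst hab
    have e2 : (r (f a) : G)⁻¹ * a = (r (f b) : G)⁻¹ * b := congrArg Subtype.val (congrArg Prod.snd hab)
    rw [e1] at e2
    exact Subtype.ext (mul_left_cancel e2)
  refine ⟨Finite.of_injective F hF, ?_⟩
  have := Nat.card_le_card_of_injective F hF
  rw [Nat.card_prod] at this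
  exact this

structure Rel {G : Type*} [Group G] (x : ℕ → G) (k : ℕ) : Prop where
  h0 : 0 < k → x 0 ^ 3 = 1
  h2 : ∀ i, 1 ≤ i → i < k → x i * x i = 1
  h3 : ∀ i, i + 1 < k → x i * x (i + 1) * (x i * x (i + 1)) * (x i * x (i + 1)) = 1
  h4 : ∀ i j, i + 1 < j → j < k → x i * x j * (x i * x j) = 1

theorem bound {G : Type*} [Group G] (x : ℕ → G) (k : ℕ) (h : Rel x k) :
    Finite (Subgroup.closure (x '' {i | i < k})) ∧ 2 * Nat.card (Subgroup.closure (x '' {i | i < k})) ≤ (k + 2).factorial := by
  induction k with
  | zero =>
    have : x '' {i | i < 0} = ∅ := by simp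
    rw [this, Subgroup.closure_empty]
    exact ⟨inferInstance, by simp⟩
  | succ k ih =>
    rcases Nat.eq_zero_or_pos k with rfl | hk
    · -- k + 1 = 1
      have : x '' {i | i < 0 + 1} = {x 0} := by ext y; simp
      rw [this, ← Subgroup.zpowers_eq_closure]
      have h3 := h.h0 (by norm_num)
      have hfo : IsOfFinOrder (x 0) := isOfFinOrder_iff_pow_eq_one.mpr ⟨3, by norm_num, h3⟩
      refine ⟨?_, ?_⟩
      · exact hfo.finite_zpowers
      · rw [Nat.card_zpowers]
        have h5 := Nat.le_of_dvd (by norm_num) (orderOf_dvd_of_pow_eq_one h3)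
        have h6 : Nat.factorial (0 + 1 + 2) = 6 := by norm_num [Nat.factorial]
        omega
    · have hrel : Rel x k := ⟨fun _ => h.h0 (by omega), fun i h1 h2 => h.h2 i h1 (by omega),
        fun i hi => h.h3 i (by omega), fun i j hi hj => h.h4 i j hi (by omega)⟩
      obtain ⟨hfinH, hcardH⟩ := ih hrel
      set H := Subgroup.closure (x '' {i | i < k}) with hHdef
      have hle : H ≤ Subgroup.closure (x '' {i | i < k + 1}) := by
        apply Subgroup.closure_mono
        apply Set.image_mono
        intro i hi
        simp only [Set.mem_ofPred_eq] at *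
        omega
      have hxH : ∀ i, i < k → x i ∈ H := fun i hi => Subgroup.subset_closure ⟨i, hi, rfl⟩
      -- points
      let c : ℕ → G := fun m => Nat.rec 1 (fun m g => x (k - m) * g) m
      have hc0 : c 0 = 1 := rfl
      have hcs : ∀ m, c (m + 1) = x (k - m) * c m := fun m => rfl
      let p : ℕ → G ⧸ H := fun j => if 2 ≤ j then (QuotientGroup.mk (c (k + 2 - j)) : G ⧸ H) else
        if j = 1 then x 0 • (QuotientGroup.mk (c k) : G ⧸ H) else x 0 • x 0 • (QuotientGroup.mk (c k) : G ⧸ H)
      have hptop : p (k + 2) = ((1 : G) : G ⧸ H) := by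
        simp only [p, if_pos (show 2 ≤ k + 2 by omega), Nat.sub_self, hc0]
      have hprec : ∀ j, 2 ≤ j → j ≤ k + 1 → x (j - 1) • p (j + 1) = p j := by
        intro j hj1 hj2
        simp only [p, if_pos hj1, if_pos (show 2 ≤ j + 1 by omega)]
        have e1 : k + 2 - j = (k + 2 - (j + 1)) + 1 := by omega
        rw [e1, hcs]
        have e2 : k - (k + 2 - (j + 1)) = j - 1 := by omega
        rw [e2]; rfl
      have hp1 : x 0 • p 2 = p 1 := by
        simp only [p, if_pos (le_refl 2), if_neg (show ¬ 2 ≤ 1 by omega), Nat.add_sub_cancel, if_true]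
      have hp0 : x 0 • p 1 = p 0 := by
        simp only [p, if_neg (show ¬ 2 ≤ 1 by omega), if_neg (show ¬ 2 ≤ 0 by omega), if_true, if_neg (show ¬ 0 = 1 by omega)]
      clear_value p
      have hinv : ∀ i, 1 ≤ i → i < k + 1 → ∀ y : G ⧸ H, x i • x i • y = y := by
        intro i h1 h2 y
        rw [← mul_smul, h.h2 i h1 h2, one_smul]
      have hx0 : ∀ y : G ⧸ H, x 0 • x 0 • x 0 • y = y := by
        intro y
        rw [← mul_smul, ← mul_smul]
        have := h.h0 (by omega)
        rw [pow_succ, pow_two] at this
        rw [this, one_smul]
      -- (a)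
      have hA : ∀ m j, j + m = k + 2 → ∀ i, i + 3 ≤ j → x i • p j = p j := by
        intro m
        induction m with
        | zero =>
          intro j hj i hi
          have : j = k + 2 := by omega
          subst this
          rw [hptop]
          rw [MulAction.Quotient.smul_coe, smul_eq_mul, mul_one, QuotientGroup.eq, mul_one]
          exact H.inv_mem (hxH i (by omega))
        | succ m ihm =>
          intro j hj i hi
          have e1 := hprec j (by omega) (by omega)
          have e2 := ihm (j + 1) (by omega) i (by omega)
          rw [← e1]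
          -- x i • x (j-1) • p (j+1)
          have r := h.h4 i (j - 1) (by omega) (by omega)
          have r2 := hinv (j - 1) (by omega) (by omega)
          have e3 : (x i * x (j - 1) * (x i * x (j - 1))) • p (j + 1) = p (j + 1) := by rw [r, one_smul]
          simp only [mul_smul] at e3
          -- x i x' x i x' p = p ; want x i x' p = x' p
          have e4 : x i • x (j - 1) • x i • x (j - 1) • p (j + 1) = x i • x (j - 1) • x (j - 1) • p (j + 1) := by
            rw [e3, r2, e2]
          exact MulAction.injective _ (MulAction.injective _ e4)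
      -- (c)
      have hC : ∀ d i j, 2 ≤ j → j + d = i → i < k + 1 → x i • p j = p j := by
        intro d
        induction d with
        | zero =>
          intro i j hj hji hi
          have : j = i := by omega
          subst this
          have e1 := hprec j hj (by omega)
          have e2 := hprec (j + 1) (by omega) (by omega)
          rw [Nat.add_sub_cancel] at e2
          have e3 := hA (k - j) (j + 1 + 1) (by omega) (j - 1) (by omega)
          have r := h.h3 (j - 1) (by omega)
          have ej : j - 1 + 1 = j := by omega
          rw [ej] at r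
          have r1 := hinv (j - 1) (by omega) (by omega)
          have r2 := hinv j (by omega) (by omega)
          -- a = x (j-1), b = x j, (ab)^3 = 1; p_j = a b q ; a q = q ; want b a b q = a b q
          have e4 : (x (j - 1) * x j * (x (j - 1) * x j) * (x (j - 1) * x j)) • p (j + 1 + 1) = p (j + 1 + 1) := by
            rw [r, one_smul]
          simp only [mul_smul] at e4
          -- a b a b a b q = q = b b a a q  hmm
          have e5 : x (j - 1) • x j • x (j - 1) • x j • x (j - 1) • x j • p (j + 1 + 1) =
              x (j - 1) • x j • x (j - 1) • x (j - 1) • x j • p (j + 1 + 1) := by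
            rw [e4, r1, r2, e3]
          have e6 := MulAction.injective _ (MulAction.injective _ (MulAction.injective _ e5))
          rw [← e1, ← e2]
          exact e6
        | succ d ihd =>
          intro i j hj hji hi
          have e1 := hprec j hj (by omega)
          have e2 := ihd i (j + 1) (by omega) (by omega) hi
          have r := h.h4 (j - 1) i (by omega) (by omega)
          have r1 := hinv (j - 1) (by omega) (by omega)
          have r2 := hinv i (by omega) (by omega)
          have e3 : (x (j - 1) * x i * (x (j - 1) * x i)) • p (j + 1) = p (j + 1) := by rw [r, one_smul]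
          simp only [mul_smul] at e3
          rw [e2] at e3
          -- a b a q = q, want b a q = a q
          have e4 : x (j - 1) • x i • x (j - 1) • p (j + 1) = x (j - 1) • x (j - 1) • p (j + 1) := by rw [e3, r1]
          rw [← e1]
          exact MulAction.injective _ e4
      -- x_0 cycle
      have hp02 : x 0 • p 0 = p 2 := by rw [← hp0, ← hp1, hx0]
      -- (d)
      have hD : ∀ i, 1 ≤ i → i < k + 1 → x i • p 1 = p 0 := by
        intro i hi1 hi2
        rcases Nat.lt_or_ge 1 i with hi | hi
        · have e1 := hC (i - 2) i 2 (by omega) (by omega) hi2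
          have r := h.h4 0 i (by omega) hi2
          have e3 : (x 0 * x i * (x 0 * x i)) • p 2 = p 2 := by rw [r, one_smul]
          simp only [mul_smul] at e3
          rw [e1, hp1] at e3
          -- x 0 • x i • p 1 = p 2 = x 0 • p 0
          rw [← hp02] at e3
          exact MulAction.injective _ e3
        · have hi' : i = 1 := by omega
          subst hi'
          have e1 := hprec 2 (by omega) (by omega)
          have e3 := hA (k - 1) (2 + 1) (by omega) 0 (by omega)
          have r := h.h3 0 (by omega)
          have e4 : (x 0 * x 1 * (x 0 * x 1) * (x 0 * x 1)) • p 3 = p 3 := by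
            have : x (0 + 1) = x 1 := rfl
            rw [this] at r
            rw [r, one_smul]
          simp only [mul_smul] at e4
          have e1' : x 1 • p 3 = p 2 := e1
          have e3' : x 0 • p 3 = p 3 := e3
          rw [e1', hp1] at e4
          -- x 0 x 1 x 0 x 1 p1 = p3
          have r1 := hinv 1 (by omega) (by omega)
          have e5 : x 0 • x 1 • x 0 • x 1 • p 1 = x 0 • x 1 • x 0 • p 0 := by
            rw [e4, hp02, ← e1', r1, e3']
          exact MulAction.injective _ (MulAction.injective _ (MulAction.injective _ e5))
      have hD' : ∀ i, 1 ≤ i → i < k + 1 → x i • p 0 = p 1 := by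
        intro i hi1 hi2
        rw [← hD i hi1 hi2, hinv i hi1 hi2]
      -- finish
      have hmain := card_le_of_cosets H (x '' {i | i < k + 1}) hfinH (p '' {j | j < k + 3})
        ((Set.finite_lt_nat _).image p) ⟨k + 2, by simp, hptop⟩ (by
          rintro _ ⟨i, hi, rfl⟩ _ ⟨j, hj, rfl⟩
          simp only [Set.mem_ofPred_eq] at hi hj
          rcases Nat.eq_zero_or_pos i with rfl | hi0
          · rcases Nat.lt_or_ge j 3 with hj3 | hj3
            · interval_cases j
              · exact ⟨2, by simp, hp02.symm⟩
              · exact ⟨0, by simp, hp0.symm⟩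
              · exact ⟨1, by simp, hp1.symm⟩
            · exact ⟨j, hj, (hA (k + 2 - j) j (by omega) 0 (by omega)).symm⟩
          · rcases Nat.lt_or_ge j 2 with hj2 | hj2
            · interval_cases j
              · exact ⟨1, by simp, (hD' i hi0 hi).symm⟩
              · exact ⟨0, by simp, (hD i hi0 hi).symm⟩
            · rcases Nat.lt_or_ge i j with hij | hij
              · rcases Nat.lt_or_ge j (i + 3) with hj3 | hj3
                · have hcase : j = i + 1 ∨ j = i + 2 := by omega
                  rcases hcase with rfl | rfl
                  · refine ⟨i + 2, by simp only [Set.mem_ofPred_eq]; omega, ?_⟩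
                    have e := hprec (i + 1) (by omega) (by omega)
                    rw [Nat.add_sub_cancel] at e
                    rw [← e, hinv i hi0 hi]
                  · refine ⟨i + 1, by simp only [Set.mem_ofPred_eq]; omega, ?_⟩
                    have e := hprec (i + 1) (by omega) (by omega)
                    rw [Nat.add_sub_cancel] at e
                    exact e.symm
                · exact ⟨j, hj, (hA (k + 2 - j) j (by omega) i (by omega)).symm⟩
              · exact ⟨j, hj, (hC (i - j) i j hj2 (by omega) hi).symm⟩)
      refine ⟨hmain.1, ?_⟩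
      have hn : (p '' {j | j < k + 3}).ncard ≤ k + 3 := by
        have h1 := Set.ncard_image_le (Set.finite_lt_nat (k + 3)) (f := p)
        have h2 : Set.ncard {j | j < k + 3} = k + 3 := by
          have : {j | j < k + 3} = (Finset.range (k + 3) : Set ℕ) := by ext; simp
          rw [this, Set.ncard_coe_finset, Finset.card_range]
        omega
      calc 2 * Nat.card (Subgroup.closure (x '' {i | i < k + 1}))
          ≤ 2 * ((p '' {j | j < k + 3}).ncard * Nat.card H) := by have := hmain.2; omega
        _ ≤ 2 * ((k + 3) * Nat.card H) := by
            apply Nat.mul_le_mul_left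
            exact Nat.mul_le_mul_right _ hn
        _ = (k + 3) * (2 * Nat.card H) := by ring
        _ ≤ (k + 3) * (k + 2).factorial := Nat.mul_le_mul_left _ hcardH
        _ = (k + 1 + 2).factorial := by
            have : k + 1 + 2 = (k + 2) + 1 := by omega
            rw [this, Nat.factorial_succ (k + 2)]

end H60.AltPres
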