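import Mathlib.GroupTheory.GroupAction.Basic
import Mathlib.Data.Fin.VecNotation
import Mathlib.Tactic
import Cfsg.Agent.Lib.H60.AltPres

set_option autoImplicit false

open scoped Pointwise

namespace H60.Tri235

/-- Coset enumeration for the (2,3,5) triangle relations over `⟨y⟩`: twelve points. -/
theorem twelve {G X : Type*} [Group G] [MulAction G X] (x y : G) (p0 : X)
    (hx3 : ∀ p : X, x • x • x • p = p) (hy5 : ∀ p : X, y • y • y • y • y • p = p)
    (hxy2 : ∀ p : X, x • y • x • y • p = p) (hy0 : y • p0 = p0) :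
    ∃ p : Fin 12 → X, p 0 = p0 ∧ (∀ i, ∃ j, x • p i = p j) ∧ (∀ i, ∃ j, y • p i = p j) := by
  have Fy0 : y • p0 = p0 := by
    have h := hy0
    exact h
  have Iy0 : y⁻¹ • p0 = p0 := inv_smul_eq_iff.mpr Fy0.symm
  obtain ⟨p1, hp1⟩ : ∃ p1, x • p0 = p1 := ⟨_, rfl⟩
  have Fx0 : x • p0 = p1 := hp1
  have Ix1 : x⁻¹ • p1 = p0 := by rw [← Fx0, inv_smul_smul]
  obtain ⟨p2, hp2⟩ : ∃ p2, x⁻¹ • p0 = p2 := ⟨_, rfl⟩
  have Ix0 : x⁻¹ • p0 = p2 := hp2
  have Fx2 : x • p2 = p0 := by rw [← Ix0, smul_inv_smul]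
  have Fx1 : x • p1 = p2 := by
    have h := hx3 p0
    rw [Fx0] at h
    replace h := MulAction.injective _ (h.trans (Fx2).symm)
    exact h
  have Ix2 : x⁻¹ • p2 = p1 := by rw [← Fx1, inv_smul_smul]
  have Fy1 : y • p1 = p2 := by
    have h := hxy2 p0
    rw [Fy0, Fx0] at h
    replace h := MulAction.injective _ (h.trans (Fx2).symm)
    exact h
  have Iy2 : y⁻¹ • p2 = p1 := by rw [← Fy1, inv_smul_smul]
  obtain ⟨p4, hp4⟩ : ∃ p4, y⁻¹ • p1 = p4 := ⟨_, rfl⟩
  have Iy1 : y⁻¹ • p1 = p4 := hp4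
  have Fy4 : y • p4 = p1 := by rw [← Iy1, smul_inv_smul]
  obtain ⟨p3, hp3⟩ : ∃ p3, y • p2 = p3 := ⟨_, rfl⟩
  have Fy2 : y • p2 = p3 := hp3
  have Iy3 : y⁻¹ • p3 = p2 := by rw [← Fy2, inv_smul_smul]
  have Fx3 : x • p3 = p4 := by
    have h := hxy2 p2
    rw [Fy2] at h
    replace h := MulAction.injective _ (h.trans (Fx1).symm)
    replace h := MulAction.injective _ (h.trans (Fy4).symm)
    exact h
  have Ix4 : x⁻¹ • p4 = p3 := by rw [← Fx3, inv_smul_smul]
  obtain ⟨p6, hp6⟩ : ∃ p6, x⁻¹ • p3 = p6 := ⟨_, rfl⟩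
  have Ix3 : x⁻¹ • p3 = p6 := hp6
  have Fx6 : x • p6 = p3 := by rw [← Ix3, smul_inv_smul]
  have Fx4 : x • p4 = p6 := by
    have h := hx3 p3
    rw [Fx3] at h
    replace h := MulAction.injective _ (h.trans (Fx6).symm)
    exact h
  have Ix6 : x⁻¹ • p6 = p4 := by rw [← Fx4, inv_smul_smul]
  obtain ⟨p5, hp5⟩ : ∃ p5, y • p3 = p5 := ⟨_, rfl⟩
  have Fy3 : y • p3 = p5 := hp5
  have Iy5 : y⁻¹ • p5 = p3 := by rw [← Fy3, inv_smul_smul]
  have Fy5 : y • p5 = p4 := by
    have h := hy5 p1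
    rw [Fy1, Fy2, Fy3] at h
    replace h := MulAction.injective _ (h.trans (Fy4).symm)
    exact h
  have Iy4 : y⁻¹ • p4 = p5 := by rw [← Fy5, inv_smul_smul]
  obtain ⟨p7, hp7⟩ : ∃ p7, x • p5 = p7 := ⟨_, rfl⟩
  have Fx5 : x • p5 = p7 := hp7
  have Ix7 : x⁻¹ • p7 = p5 := by rw [← Fx5, inv_smul_smul]
  have Fy7 : y • p7 = p6 := by
    have h := hxy2 p3
    rw [Fy3, Fx5] at h
    replace h := MulAction.injective _ (h.trans (Fx6).symm)
    exact h
  have Iy6 : y⁻¹ • p6 = p7 := by rw [← Fy7, inv_smul_smul]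
  obtain ⟨p8, hp8⟩ : ∃ p8, x⁻¹ • p5 = p8 := ⟨_, rfl⟩
  have Ix5 : x⁻¹ • p5 = p8 := hp8
  have Fx8 : x • p8 = p5 := by rw [← Ix5, smul_inv_smul]
  have Fx7 : x • p7 = p8 := by
    have h := hx3 p5
    rw [Fx5] at h
    replace h := MulAction.injective _ (h.trans (Fx8).symm)
    exact h
  have Ix8 : x⁻¹ • p8 = p7 := by rw [← Fx7, inv_smul_smul]
  have Fy6 : y • p6 = p8 := by
    have h := hxy2 p5
    rw [Fy5, Fx4] at h
    replace h := MulAction.injective _ (h.trans (Fx8).symm)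
    exact h
  have Iy8 : y⁻¹ • p8 = p6 := by rw [← Fy6, inv_smul_smul]
  obtain ⟨p10, hp10⟩ : ∃ p10, y⁻¹ • p7 = p10 := ⟨_, rfl⟩
  have Iy7 : y⁻¹ • p7 = p10 := hp10
  have Fy10 : y • p10 = p7 := by rw [← Iy7, smul_inv_smul]
  obtain ⟨p9, hp9⟩ : ∃ p9, y • p8 = p9 := ⟨_, rfl⟩
  have Fy8 : y • p8 = p9 := hp9
  have Iy9 : y⁻¹ • p9 = p8 := by rw [← Fy8, inv_smul_smul]
  have Fy9 : y • p9 = p10 := by
    have h := hy5 p6
    rw [Fy6, Fy8] at h
    replace h := MulAction.injective _ (h.trans (Fy7).symm)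
    replace h := MulAction.injective _ (h.trans (Fy10).symm)
    exact h
  have Iy10 : y⁻¹ • p10 = p9 := by rw [← Fy9, inv_smul_smul]
  have Fx9 : x • p9 = p10 := by
    have h := hxy2 p8
    rw [Fy8] at h
    replace h := MulAction.injective _ (h.trans (Fx7).symm)
    replace h := MulAction.injective _ (h.trans (Fy10).symm)
    exact h
  have Ix10 : x⁻¹ • p10 = p9 := by rw [← Fx9, inv_smul_smul]
  obtain ⟨p11, hp11⟩ : ∃ p11, x⁻¹ • p9 = p11 := ⟨_, rfl⟩
  have Ix9 : x⁻¹ • p9 = p11 := hp11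
  have Fx11 : x • p11 = p9 := by rw [← Ix9, smul_inv_smul]
  have Fx10 : x • p10 = p11 := by
    have h := hx3 p9
    rw [Fx9] at h
    replace h := MulAction.injective _ (h.trans (Fx11).symm)
    exact h
  have Ix11 : x⁻¹ • p11 = p10 := by rw [← Fx10, inv_smul_smul]
  have Fy11 : y • p11 = p11 := by
    have h := hxy2 p9
    rw [Fy9, Fx10] at h
    replace h := MulAction.injective _ (h.trans (Fx11).symm)
    exact h
  have Iy11 : y⁻¹ • p11 = p11 := inv_smul_eq_iff.mpr Fy11.symm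
  refine ⟨![p0, p1, p2, p3, p4, p5, p6, p7, p8, p9, p10, p11], rfl, ?_, ?_⟩
  · intro i
    fin_cases i
    · exact ⟨1, Fx0⟩
    · exact ⟨2, Fx1⟩
    · exact ⟨0, Fx2⟩
    · exact ⟨4, Fx3⟩
    · exact ⟨6, Fx4⟩
    · exact ⟨7, Fx5⟩
    · exact ⟨3, Fx6⟩
    · exact ⟨8, Fx7⟩
    · exact ⟨5, Fx8⟩
    · exact ⟨10, Fx9⟩
    · exact ⟨11, Fx10⟩
    · exact ⟨9, Fx11⟩
  · intro i
    fin_cases i
    · exact ⟨0, Fy0⟩
    · exact ⟨2, Fy1⟩
    · exact ⟨3, Fy2⟩
    · exact ⟨5, Fy3⟩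
    · exact ⟨1, Fy4⟩
    · exact ⟨4, Fy5⟩
    · exact ⟨8, Fy6⟩
    · exact ⟨6, Fy7⟩
    · exact ⟨9, Fy8⟩
    · exact ⟨10, Fy9⟩
    · exact ⟨7, Fy10⟩
    · exact ⟨11, Fy11⟩

/-- A group generated by `x, y, z` with `z` central of order dividing 2, `x ^ 3 = y ^ 5 = 1` and `(x y)^2 = z` is
finite of order at most 120; the same with `z = 1` gives 60. -/
theorem card_closure_le {G : Type*} [Group G] (x y z : G) (hx : x ^ 3 = 1) (hy : y ^ 5 = 1)
    (hxy : (x * y) ^ 2 = z) (hz2 : z ^ 2 = 1) (hzx : z * x = x * z) (hzy : z * y = y * z)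
    (hG : Subgroup.closure {x, y} = ⊤) :
    Finite G ∧ Nat.card G ≤ 60 * orderOf z := by
  have hcen : ∀ g : G, z * g = g * z := by
    intro g
    have hg : g ∈ Subgroup.closure {x, y} := by rw [hG]; trivial
    induction hg using Subgroup.closure_induction with
    | mem w hw =>
      rcases hw with rfl | hw
      · exact hzx
      · rw [Set.mem_singleton_iff.mp hw]; exact hzy
    | one => simp
    | mul a b _ _ ha hb => rw [← mul_assoc, ha, mul_assoc, hb, mul_assoc]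
    | inv a _ ha =>
      have : z = a * z * a⁻¹ := by rw [← ha, mul_inv_cancel_right]
      nth_rw 2 [this]; group
  -- H = powers of y times powers of z
  let H : Subgroup G := Subgroup.zpowers y ⊔ Subgroup.zpowers z
  have hzn : (Subgroup.zpowers z).Normal := by
    constructor
    rintro _ ⟨k, rfl⟩ g
    refine ⟨k, ?_⟩
    simp only
    have hc : Commute z g := hcen g
    have := (hc.zpow_left k).eq
    rw [← this, mul_inv_cancel_right]
  have hfy : Finite (Subgroup.zpowers y) := (isOfFinOrder_iff_pow_eq_one.mpr ⟨5, by norm_num, hy⟩).finite_zpowers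
  have hfz : Finite (Subgroup.zpowers z) := (isOfFinOrder_iff_pow_eq_one.mpr ⟨2, by norm_num, hz2⟩).finite_zpowers
  have hcoe : (H : Set G) = (Subgroup.zpowers y : Set G) * (Subgroup.zpowers z : Set G) := Subgroup.mul_normal _ _
  have hcard : Nat.card H ≤ 5 * orderOf z := by
    have h1 : Nat.card H ≤ Nat.card (Subgroup.zpowers y) * Nat.card (Subgroup.zpowers z) := by
      have h2 : Nat.card H = Nat.card ((Subgroup.zpowers y : Set G) * (Subgroup.zpowers z : Set G) : Set G) := by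
        rw [← hcoe]; rfl
      rw [h2]
      exact Set.natCard_mul_le
    rw [Nat.card_zpowers, Nat.card_zpowers] at h1
    have h3 : orderOf y ≤ 5 := Nat.le_of_dvd (by norm_num) (orderOf_dvd_of_pow_eq_one hy)
    exact h1.trans (Nat.mul_le_mul_right _ h3)
  have hfH : Finite H := by
    have : Finite ((Subgroup.zpowers y : Set G) * (Subgroup.zpowers z : Set G) : Set G) := by
      apply Set.Finite.mul
      · exact hfy
      · exact hfz
    rw [← hcoe] at this
    exact this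
  have hzp : ∀ p : G ⧸ H, z • p = p := by
    intro p
    induction p using QuotientGroup.induction_on with
    | H g =>
      rw [MulAction.Quotient.smul_coe, smul_eq_mul, QuotientGroup.eq, hcen]
      have h1 : (g * z)⁻¹ * g = z⁻¹ := by group
      rw [h1]
      exact H.inv_mem (Subgroup.mem_sup_right (Subgroup.mem_zpowers z))
  obtain ⟨p, hp0, hpx, hpy⟩ := twelve (X := G ⧸ H) x y ((1 : G) : G ⧸ H)
    (by intro p; rw [← mul_smul, ← mul_smul]; have : x * x * x = 1 := by rw [← hx, pow_succ, pow_two]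
        rw [this, one_smul])
    (by intro p; rw [← mul_smul, ← mul_smul, ← mul_smul, ← mul_smul]
        have : y * y * y * y * y = 1 := by rw [← hy, pow_succ, pow_succ, pow_succ, pow_two]
        rw [this, one_smul])
    (by intro p; rw [← mul_smul, ← mul_smul, ← mul_smul]
        have : x * y * x * y = z := by rw [← hxy, pow_two]; simp only [mul_assoc]
        rw [this, hzp])
    (by rw [MulAction.Quotient.smul_coe, smul_eq_mul, QuotientGroup.eq]
        have h1 : (y * 1)⁻¹ * 1 = y⁻¹ := by group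
        rw [h1]
        exact H.inv_mem (Subgroup.mem_sup_left (Subgroup.mem_zpowers y)))
  have hmain := H60.AltPres.card_le_of_cosets H {x, y} hfH (Set.range p) (Set.finite_range p) ⟨0, hp0⟩ (by
    rintro g (rfl | hg) _ ⟨i, rfl⟩
    · obtain ⟨j, hj⟩ := hpx i
      exact ⟨j, hj.symm⟩
    · rw [Set.mem_singleton_iff.mp hg]
      obtain ⟨j, hj⟩ := hpy i
      exact ⟨j, hj.symm⟩)
  rw [hG] at hmain
  have hfG : Finite G := by
    have := hmain.1
    exact Finite.of_equiv _ (Subgroup.topEquiv (G := G)).toEquiv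
  refine ⟨hfG, ?_⟩
  have h2 := hmain.2
  rw [Nat.card_congr (Subgroup.topEquiv (G := G)).toEquiv] at h2
  have h3 : (Set.range p).ncard ≤ 12 := by
    rw [← Set.image_univ]
    refine (Set.ncard_image_le (Set.finite_univ)).trans ?_
    rw [Set.ncard_univ, Nat.card_eq_fintype_card, Fintype.card_fin]
  calc Nat.card G ≤ (Set.range p).ncard * Nat.card H := h2
    _ ≤ 12 * (5 * orderOf z) := Nat.mul_le_mul h3 hcard
    _ = 60 * orderOf z := by ring

end H60.Tri235
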