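import Mathlib
import Cfsg.Agent.Lib.H60.PhK

/-!
Phan systems, part L: embedded copies of `SU 2` in even characteristic; standard pairs from commuting tori.
-/

set_option autoImplicit false
set_option linter.unusedSectionVars false
set_option linter.unusedVariables false

namespace H60.Ph

open Matrix Cfsg H16.Herm
open scoped commutatorElement

variable {F : Type*} [Field F] [Fintype F] {q : ℕ} (hF : Fintype.card F = q ^ 2)

include hF

theorem exists_fixed_even (hq : 4 ≤ q) (h2 : (2 : F) = 0) (e : SU 2 F q →* SU 3 F q) (he : Function.Injective e) :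
    ∃ v, hermForm 3 F q v v = 1 ∧ ∀ a, mt (e a) *ᵥ v = v := by
  classical
  let K := H7.SmallField.fixedField hF
  let _ : Fintype K := Fintype.ofFinite _
  have hK : Fintype.card K = q := by
    rw [← Nat.card_eq_fintype_card]
    exact H7.QuadExt.card_fixed hF
  obtain ⟨σ, P, P', f, -, -, -⟩ := exists_SU2_model hF hK
  have h2K : (2 : K) = 0 := by
    apply σ.injective
    rw [map_ofNat, map_zero]
    exact h2
  let ε : SpecialLinearGroup (Fin 2) K →* SU 3 F q := e.comp f.toMonoidHom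
  have hε : Function.Injective ε := he.comp f.injective
  have h01 : (0 : Fin 2) ≠ 1 := by decide
  have h10 : (1 : Fin 2) ≠ 0 := by decide
  let X : K → SpecialLinearGroup (Fin 2) K := fun s => Matrix.SpecialLinearGroup.transvection h01 s
  let Y : K → SpecialLinearGroup (Fin 2) K := fun s => Matrix.SpecialLinearGroup.transvection h10 s
  have hX : ∀ s, (X s : Matrix (Fin 2) (Fin 2) K) = !![1, s; 0, 1] := by
    intro s
    ext i j
    fin_cases i <;> fin_cases j <;> simp [X, Matrix.SpecialLinearGroup.transvection_coe]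
  have hY : ∀ s, (Y s : Matrix (Fin 2) (Fin 2) K) = !![1, 0; s, 1] := by
    intro s
    ext i j
    fin_cases i <;> fin_cases j <;> simp [Y, Matrix.SpecialLinearGroup.transvection_coe]
  have hXX : ∀ s t, X s * X t = X (s + t) := by
    intro s t
    apply Subtype.ext
    rw [Matrix.SpecialLinearGroup.coe_mul, hX, hX, hX]
    ext i j
    fin_cases i <;> fin_cases j <;> simp [Matrix.mul_apply, Fin.sum_univ_two, add_comm]
  have hYY : ∀ s t, Y s * Y t = Y (s + t) := by
    intro s t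
    apply Subtype.ext
    rw [Matrix.SpecialLinearGroup.coe_mul, hY, hY, hY]
    ext i j
    fin_cases i <;> fin_cases j <;> simp [Matrix.mul_apply, Fin.sum_univ_two, add_comm]
  have hX0 : X 0 = 1 := by
    apply Subtype.ext
    rw [hX, Matrix.SpecialLinearGroup.coe_one]
    ext i j
    fin_cases i <;> fin_cases j <;> simp
  have hY0 : Y 0 = 1 := by
    apply Subtype.ext
    rw [hY, Matrix.SpecialLinearGroup.coe_one]
    ext i j
    fin_cases i <;> fin_cases j <;> simp
  have hdbl : ∀ s : K, s + s = 0 := fun s => by linear_combination s * h2K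
  have hXne : ∀ s, s ≠ 0 → ε (X s) ≠ 1 := by
    intro s hs h
    rw [map_eq_one_iff ε hε] at h
    have h3 := congrArg (fun A : SpecialLinearGroup (Fin 2) K => (A : Matrix (Fin 2) (Fin 2) K) 0 1) h
    simp only [hX, Matrix.SpecialLinearGroup.coe_one] at h3
    exact hs (by simpa using h3)
  have hYne : ∀ s, s ≠ 0 → ε (Y s) ≠ 1 := by
    intro s hs h
    rw [map_eq_one_iff ε hε] at h
    have h3 := congrArg (fun A : SpecialLinearGroup (Fin 2) K => (A : Matrix (Fin 2) (Fin 2) K) 1 0) h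
    simp only [hY, Matrix.SpecialLinearGroup.coe_one] at h3
    exact hs (by simpa using h3)
  have hXsq : ∀ s, ε (X s) * ε (X s) = 1 := fun s => by rw [← map_mul, hXX, hdbl, hX0, map_one]
  have hYsq : ∀ s, ε (Y s) * ε (Y s) = 1 := fun s => by rw [← map_mul, hYY, hdbl, hY0, map_one]
  obtain ⟨u, hu0, huu, hu⟩ := inv_struct hF h2 (hXsq 1) (hXne 1 one_ne_zero)
  obtain ⟨u', hu'0, huu', hu'⟩ := inv_struct hF h2 (hYsq 1) (hYne 1 one_ne_zero)
  have hXu : ∀ s x, ∃ c : F, mt (ε (X s)) *ᵥ x = x + c • u := by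
    intro s x
    by_cases hs : s = 0
    · refine ⟨0, ?_⟩
      rw [hs, hX0, map_one, mt_one, Matrix.one_mulVec, zero_smul, add_zero]
    · obtain ⟨w, hw0, hww, hw⟩ := inv_struct hF h2 (hXsq s) (hXne s hs)
      obtain ⟨d, hd⟩ := centers_dep hF h2 hw0 hww hu0 huu hw hu (hXne s hs) (hXne 1 one_ne_zero) (hXsq 1) (by
        rw [← map_mul, ← map_mul, hXX, hXX, add_comm])
      obtain ⟨c, hc⟩ := hw x
      exact ⟨c * d, by rw [hc, hd, smul_smul]⟩
  have hYu : ∀ s x, ∃ c : F, mt (ε (Y s)) *ᵥ x = x + c • u' := by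
    intro s x
    by_cases hs : s = 0
    · refine ⟨0, ?_⟩
      rw [hs, hY0, map_one, mt_one, Matrix.one_mulVec, zero_smul, add_zero]
    · obtain ⟨w, hw0, hww, hw⟩ := inv_struct hF h2 (hYsq s) (hYne s hs)
      obtain ⟨d, hd⟩ := centers_dep hF h2 hw0 hww hu'0 huu' hw hu' (hYne s hs) (hYne 1 one_ne_zero) (hYsq 1) (by
        rw [← map_mul, ← map_mul, hYY, hYY, add_comm])
      obtain ⟨c, hc⟩ := hw x
      exact ⟨c * d, by rw [hc, hd, smul_smul]⟩
  obtain ⟨v, hv0, hv⟩ := exists_perp hF (![u, u'] : Fin 2 → (Fin 3 → F)) (by simp)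
  have hvu : hermForm 3 F q v u = 0 := hv 0
  have hvu' : hermForm 3 F q v u' = 0 := hv 1
  have hfix : ∀ A : SpecialLinearGroup (Fin 2) K, mt (ε A) *ᵥ v = v := by
    intro A
    refine H6.SLGen.transvection_induction (fun A => mt (ε A) *ᵥ v = v) ?_ ?_ A
    · intro i j hij c
      fin_cases i <;> fin_cases j
      · exact absurd rfl hij
      · exact fix_of_perp hF (hXu c) hvu
      · exact fix_of_perp hF (hYu c) hvu'
      · exact absurd rfl hij
    · intro A B hA hB
      rw [map_mul, mt_mul, ← Matrix.mulVec_mulVec, hB, hA]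
  have hvv : hermForm 3 F q v v ≠ 0 := by
    intro h
    obtain ⟨c, hc⟩ := isotropic_dep hF hu0 huu h (perp_symm hF hvu)
    obtain ⟨c', hc'⟩ := isotropic_dep hF hu'0 huu' h (perp_symm hF hvu')
    have hc0 : c ≠ 0 := by
      rintro rfl
      rw [zero_smul] at hc
      exact hv0 hc
    have huu'' : u = (c⁻¹ * c') • u' := by
      rw [← smul_smul, ← hc', hc, smul_smul, inv_mul_cancel₀ hc0, one_smul]
    -- the two involutions commute
    have hfu : mt (ε (X 1)) *ᵥ u = u := fix_of_perp hF (hXu 1) huu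
    have hu'u : hermForm 3 F q u u' = 0 := by
      rw [huu'', hermForm_smul_left, huu', mul_zero]
    have hfu2 : mt (ε (Y 1)) *ᵥ u = u := fix_of_perp hF (hYu 1) hu'u
    have hfu3 : mt (ε (X 1)) *ᵥ u' = u' := fix_of_perp hF (hXu 1) (perp_symm hF hu'u)
    have hcomm : ε (X 1) * ε (Y 1) = ε (Y 1) * ε (X 1) := by
      apply mt_inj
      apply Matrix.ext_of_mulVec_single
      intro i
      rw [mt_mul, mt_mul, ← Matrix.mulVec_mulVec, ← Matrix.mulVec_mulVec]
      obtain ⟨a, ha⟩ := hXu 1 (Pi.single i 1)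
      obtain ⟨b, hb⟩ := hYu 1 (Pi.single i 1)
      rw [hb, ha, Matrix.mulVec_add, Matrix.mulVec_add, ha, hb, Matrix.mulVec_smul, Matrix.mulVec_smul, hfu3, hfu2]
      abel
    rw [← map_mul, ← map_mul] at hcomm
    have h3 := congrArg (fun A : SpecialLinearGroup (Fin 2) K => (A : Matrix (Fin 2) (Fin 2) K) 0 0) (hε hcomm)
    simp only [Matrix.SpecialLinearGroup.coe_mul, hX, hY] at h3
    simp [Matrix.mul_apply, Fin.sum_univ_two] at h3
  obtain ⟨c, hc0, hc⟩ := exists_unit_smul hF hvv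
  refine ⟨c • v, hc, fun a => ?_⟩
  obtain ⟨A, rfl⟩ := f.surjective a
  rw [Matrix.mulVec_smul]
  congr 1
  exact hfix A

theorem exists_fixed (hq : 4 ≤ q) (e : SU 2 F q →* SU 3 F q) (he : Function.Injective e) :
    ∃ v, hermForm 3 F q v v = 1 ∧ ∀ a, mt (e a) *ᵥ v = v := by
  by_cases h2 : (2 : F) = 0
  · exact exists_fixed_even hF hq h2 e he
  · exact exists_fixed_odd hF hq h2 e he

/-- an element of the stabilizer of a unit vector of order dividing `q + 1` has an orthonormal eigenbasis -/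
theorem exists_diag_stab (d : SU 3 F q) (hd : d ^ (q + 1) = 1) (v : Fin 3 → F) (hv : hermForm 3 F q v v = 1)
    (hdv : mt d *ᵥ v = v) :
    ∃ (w : Fin 3 → F) (c : F), hermForm 3 F q w w = 1 ∧ hermForm 3 F q w v = 0 ∧ c * c ^ q = 1 ∧ mt d *ᵥ w = c • w := by
  have hM1 : (mt d) ^ (q + 1) = 1 := by
    have : ∀ k : ℕ, (mt d) ^ k = mt (d ^ k) := by
      intro k
      induction k with
      | zero => rfl
      | succ k ih => rw [pow_succ, pow_succ, mt_mul, ih]
    rw [this, hd, mt_one]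
  obtain ⟨u, hu, hu0⟩ := exists_unit_perp hF (f := fun _ : Unit => v) (by intro i j; simp [hv]) (by simp)
  obtain ⟨c, w, hc, h1, hw, hperp⟩ := exists_eigen hF (mt d) (mt_form d) hM1 u (by rw [hu]; exact one_ne_zero)
  exact ⟨w, c, hw, hperp v 1 (by rw [one_pow, one_mul]) (by rw [one_smul]; exact hdv) (hu0 ()), hc, h1⟩

omit hF in
theorem mt_pow {n : ℕ} (d : SU n F q) (k : ℕ) : mt (d ^ k) = (mt d) ^ k := by
  induction k with
  | zero => rfl
  | succ k ih => rw [pow_succ, pow_succ, mt_mul, ih]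

omit hF in
theorem mulVec_pow {n : ℕ} {M : Matrix (Fin n) (Fin n) F} {v : Fin n → F} {c : F} (h : M *ᵥ v = c • v) (k : ℕ) :
    (M ^ k) *ᵥ v = c ^ k • v := by
  induction k with
  | zero => rw [pow_zero, pow_zero, Matrix.one_mulVec, one_smul]
  | succ k ih => rw [pow_succ, ← Matrix.mulVec_mulVec, h, Matrix.mulVec_smul, ih, smul_smul, pow_succ']

/-- the structure of a torus generator: frame with `g e₂ = v` up to scalar -/
theorem exists_frame_of_torus (hq : 4 ≤ q) (d : SU 3 F q) (hod : orderOf d = q + 1) (v : Fin 3 → F)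
    (hv : hermForm 3 F q v v = 1) (hdv : mt d *ᵥ v = v) :
    ∃ (g : SU 3 F q) (c : F) (κ : F), c * c ^ q = 1 ∧ c * c ≠ 1 ∧ κ ≠ 0 ∧ mt g *ᵥ (Pi.single 2 1) = κ • v ∧
      mt d *ᵥ (mt g *ᵥ (Pi.single 0 1)) = c • (mt g *ᵥ (Pi.single 0 1)) ∧
      mt d *ᵥ (mt g *ᵥ (Pi.single 1 1)) = c ^ q • (mt g *ᵥ (Pi.single 1 1)) := by
  obtain ⟨w, c, hw, hwv, hc, hdw⟩ := exists_diag_stab hF d (by rw [← hod, pow_orderOf_eq_one]) v hv hdv
  have hvw := perp_symm hF hwv
  obtain ⟨g, hg⟩ := exists_SU_cols hF ({0, 2} : Finset (Fin 3)) (by decide) (fun i => if i = 0 then w else v) (by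
    intro i hi j hj
    simp only [Finset.mem_insert, Finset.mem_singleton] at hi hj
    rcases hi with rfl | rfl <;> rcases hj with rfl | rfl
    · simp [hw]
    · simp [hwv]
    · simp [hvw]
    · simp [hv])
  have hg0 : mt g *ᵥ (Pi.single 0 1) = w := by rw [hg 0 (by simp)]; simp
  have hg2 : mt g *ᵥ (Pi.single 2 1) = v := by rw [hg 2 (by simp)]; simp
  -- the conjugate fixes `e₂` and has `e₀` as an eigenvector
  set d' := g⁻¹ * d * g with hd'
  have h2 : mt d' *ᵥ (Pi.single 2 1) = Pi.single 2 1 := by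
    rw [hd', mt_mul, mt_mul, ← Matrix.mulVec_mulVec, ← Matrix.mulVec_mulVec, hg2, hdv, ← hg2, Matrix.mulVec_mulVec,
      mt_inv_mul, Matrix.one_mulVec]
  have h0 : mt d' *ᵥ (Pi.single 0 1) = c • Pi.single 0 1 := by
    rw [hd', mt_mul, mt_mul, ← Matrix.mulVec_mulVec, ← Matrix.mulVec_mulVec, hg0, hdw, Matrix.mulVec_smul, ← hg0,
      Matrix.mulVec_mulVec, mt_inv_mul, Matrix.one_mulVec]
  obtain ⟨b, hb⟩ := mem_range_emb hF (hd (by omega : 2 ≤ 3)) d' (by
    intro j hj
    have h2' : j = 2 := by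
      fin_cases j
      · exact absurd rfl (hj 0)
      · exact absurd rfl (hj 1)
      · rfl
    subst h2'
    exact h2)
  rw [← hb, mt_emb_hd_three, col_single] at h0
  have hb00 := congrFun h0 0
  have hb10 := congrFun h0 1
  simp at hb00 hb10
  have hb11 := SU2_11 hF b
  have hb01 := SU2_01 hF b
  rw [hb10, zero_pow_q hF, neg_zero] at hb01
  rw [hb00] at hb11
  have h1 : mt d' *ᵥ (Pi.single 1 1) = c ^ q • Pi.single 1 1 := by
    rw [← hb, mt_emb_hd_three, col_single]
    ext i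
    fin_cases i
    · simp [hb01]
    · simp [hb11]
    · simp
  have hdg : ∀ x, mt d *ᵥ (mt g *ᵥ x) = mt g *ᵥ (mt d' *ᵥ x) := by
    intro x
    rw [Matrix.mulVec_mulVec, Matrix.mulVec_mulVec, ← mt_mul, ← mt_mul]
    congr 2
    rw [hd']
    group
  have hcc : c * c ≠ 1 := by
    intro hcc
    have hd2 : d ^ 2 = 1 := by
      have : d' ^ 2 = 1 := by
        rw [← hb, ← map_pow]
        have : b ^ 2 = 1 := by
          apply SU2_ext hF
          · rw [mt_pow, mt_one, sq, Matrix.mul_apply, Fin.sum_univ_two, hb00, hb01, hb10]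
            simp [hcc]
          · rw [mt_pow, mt_one, sq, Matrix.mul_apply, Fin.sum_univ_two, hb00, hb11, hb10]
            simp
        rw [this, map_one]
      have h3 : d = g * d' * g⁻¹ := by rw [hd']; group
      rw [h3, conj_pow, this, mul_one, mul_inv_cancel]
    have h4 := orderOf_dvd_of_pow_eq_one hd2
    rw [hod] at h4
    have := Nat.le_of_dvd (by omega) h4
    omega
  refine ⟨g, c, 1, hc, hcc, one_ne_zero, ?_, ?_, ?_⟩
  · rw [hg2, one_smul]
  · rw [hg0, hdw]
  · rw [hdg, h1, Matrix.mulVec_smul]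

end H60.Ph
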