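import Mathlib
import Cfsg.Agent.Lib.H60.PhF

/-!
Phan systems, part N: frames of four vectors; common neighbours in dimension at least five.
-/

set_option autoImplicit false
set_option linter.unusedSectionVars false
set_option linter.unusedVariables false

namespace H60.Ph

open Matrix Cfsg H16.Herm

variable {F : Type*} [Field F] [Fintype F] {q : ℕ} {n : ℕ}

/-- a vector orthogonal to two orthonormal ones lies in an orthogonal plane with an orthonormal basis -/
theorem exists_pair (hF : Fintype.card F = q ^ 2) (hn : 4 ≤ n) {a b w : Fin n → F} (ha : hermForm n F q a a = 1)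
    (hb : hermForm n F q b b = 1) (hba : hermForm n F q b a = 0) (hwa : hermForm n F q w a = 0)
    (hwb : hermForm n F q w b = 0) :
    ∃ (g k : Fin n → F) (α β : F), hermForm n F q g g = 1 ∧ hermForm n F q k k = 1 ∧ hermForm n F q k g = 0 ∧
      hermForm n F q g a = 0 ∧ hermForm n F q g b = 0 ∧ hermForm n F q k a = 0 ∧ hermForm n F q k b = 0 ∧
      w = α • g + β • k := by
  have hab := perp_symm hF hba
  have haw := perp_symm hF hwa
  have hbw := perp_symm hF hwb
  have hON2 : ON q (![a, b] : Fin 2 → (Fin n → F)) := by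
    intro i j
    fin_cases i <;> fin_cases j <;> simp [ha, hb, hab, hba]
  have third : ∀ g : Fin n → F, hermForm n F q g g = 1 → hermForm n F q g a = 0 → hermForm n F q g b = 0 →
      ∃ k, hermForm n F q k k = 1 ∧ hermForm n F q k g = 0 ∧ hermForm n F q k a = 0 ∧ hermForm n F q k b = 0 := by
    intro g hg hga hgb
    have hON : ON q (![a, b, g] : Fin 3 → (Fin n → F)) := by
      intro i j
      fin_cases i <;> fin_cases j <;> simp [ha, hb, hg, hab, hba, hga, hgb, perp_symm hF hga, perp_symm hF hgb]
    obtain ⟨k, hk, hk'⟩ := exists_unit_perp hF hON (by simp; omega)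
    exact ⟨k, hk, hk' 2, hk' 0, hk' 1⟩
  by_cases hww : hermForm n F q w w = 0
  · by_cases hw0 : w = 0
    · obtain ⟨g, hg, hg'⟩ := exists_unit_perp hF hON2 (by simp; omega)
      obtain ⟨k, hk, hkg, hka, hkb⟩ := third g hg (hg' 0) (hg' 1)
      exact ⟨g, k, 0, 0, hg, hk, hkg, hg' 0, hg' 1, hka, hkb, by rw [hw0]; simp⟩
    · have : ∃ v, hermForm n F q v w ≠ 0 := by
        by_contra hcon
        push Not at hcon
        exact hw0 (eq_zero_of_forall_left hF hcon)
      obtain ⟨v, hv⟩ := this
      set v' := v - hermForm n F q v a • a - hermForm n F q v b • b with hv'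
      clear_value v'
      have hv'a : hermForm n F q v' a = 0 := by
        rw [hv', hermForm_sub_left, hermForm_sub_left, hermForm_smul_left, hermForm_smul_left, ha, hba]
        ring
      have hv'b : hermForm n F q v' b = 0 := by
        rw [hv', hermForm_sub_left, hermForm_sub_left, hermForm_smul_left, hermForm_smul_left, hb, hab]
        ring
      have hv'w : hermForm n F q v' w ≠ 0 := by
        rw [hv', hermForm_sub_left, hermForm_sub_left, hermForm_smul_left, hermForm_smul_left, haw, hbw]
        simpa using hv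
      obtain ⟨t, ht⟩ := exists_common hF [(hermForm n F q v' v', hermForm n F q v' w, hermForm n F q w v', hermForm n F q w w)]
        (by have := one_lt_q hF; simp; nlinarith) (by
          intro z hz
          rw [List.mem_singleton] at hz
          subst hz
          intro h0
          rw [Prod.ext_iff, Prod.ext_iff] at h0
          exact hv'w h0.2.1)
      have ht' := ht _ (List.mem_singleton_self _)
      simp only at ht'
      set g₀ := v' + t • w with hg₀
      clear_value g₀
      have hg₀g₀ : hermForm n F q g₀ g₀ ≠ 0 := by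
        rw [hg₀]
        simp only [hermForm_add_left, hermForm_add_right hF, hermForm_smul_left, hermForm_smul_right]
        convert ht' using 1
        ring
      obtain ⟨c, hc0, hc⟩ := exists_unit_smul hF hg₀g₀
      set g := c • g₀ with hg
      clear_value g
      have hga : hermForm n F q g a = 0 := by
        rw [hg, hg₀, hermForm_smul_left, hermForm_add_left, hermForm_smul_left, hv'a, hwa, mul_zero, add_zero, mul_zero]
      have hgb : hermForm n F q g b = 0 := by
        rw [hg, hg₀, hermForm_smul_left, hermForm_add_left, hermForm_smul_left, hv'b, hwb, mul_zero, add_zero, mul_zero]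
      have hgw : hermForm n F q g w ≠ 0 := by
        rw [hg, hg₀, hermForm_smul_left, hermForm_add_left, hermForm_smul_left, hww, mul_zero, add_zero]
        exact mul_ne_zero hc0 hv'w
      have hwg : hermForm n F q w g ≠ 0 := fun h => hgw (perp_symm hF h)
      set k₀ := w - hermForm n F q w g • g with hk₀
      clear_value k₀
      have hk₀g : hermForm n F q k₀ g = 0 := by rw [hk₀, hermForm_sub_left, hermForm_smul_left, hc, mul_one, sub_self]
      have hk₀a : hermForm n F q k₀ a = 0 := by rw [hk₀, hermForm_sub_left, hermForm_smul_left, hga, hwa, mul_zero, sub_zero]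
      have hk₀b : hermForm n F q k₀ b = 0 := by rw [hk₀, hermForm_sub_left, hermForm_smul_left, hgb, hwb, mul_zero, sub_zero]
      have hk₀k₀ : hermForm n F q k₀ k₀ ≠ 0 := by
        have : hermForm n F q k₀ k₀ = - (hermForm n F q w g * hermForm n F q w g ^ q) := by
          have h1 : hermForm n F q k₀ k₀ = hermForm n F q k₀ w := by
            conv_lhs => rw [hk₀]
            rw [hermForm_sub_right hF, hermForm_smul_right, ← hk₀, hk₀g, mul_zero, sub_zero]
          rw [h1, hk₀, hermForm_sub_left, hermForm_smul_left, hww, ← hermForm_swap hF w g]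
          ring
        rw [this, neg_ne_zero]
        exact mul_ne_zero hwg (pow_ne_zero _ hwg)
      obtain ⟨d, hd0, hd⟩ := exists_unit_smul hF hk₀k₀
      refine ⟨g, d • k₀, hermForm n F q w g, d⁻¹, hc, hd, ?_, hga, hgb, ?_, ?_, ?_⟩
      · rw [hermForm_smul_left, hk₀g, mul_zero]
      · rw [hermForm_smul_left, hk₀a, mul_zero]
      · rw [hermForm_smul_left, hk₀b, mul_zero]
      · rw [smul_smul, inv_mul_cancel₀ hd0, one_smul, hk₀]
        abel
  · obtain ⟨c, hc0, hc⟩ := exists_unit_smul hF hww
    have hga : hermForm n F q (c • w) a = 0 := by rw [hermForm_smul_left, hwa, mul_zero]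
    have hgb : hermForm n F q (c • w) b = 0 := by rw [hermForm_smul_left, hwb, mul_zero]
    obtain ⟨k, hk, hkg, hka, hkb⟩ := third (c • w) hc hga hgb
    exact ⟨c • w, k, c⁻¹, 0, hc, hk, hkg, hga, hgb, hka, hkb, by
      rw [smul_smul, inv_mul_cancel₀ hc0, one_smul, zero_smul, add_zero]⟩

/-- a special unitary element with prescribed first columns -/
theorem exists_SU_hd (hF : Fintype.card F = q ^ 2) {k : ℕ} (hk : k < n) (f : Fin k → (Fin n → F)) (hf : ON q f) :
    ∃ g : SU n F q, ∀ c : Fin k → F, mt g *ᵥ ext (hd hk.le) c = ∑ i, c i • f i := by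
  classical
  let S : Finset (Fin n) := Finset.univ.image (hd hk.le)
  let f' : Fin n → (Fin n → F) := fun i => if h : (i : ℕ) < k then f ⟨i, h⟩ else 0
  have hf'h : ∀ i : Fin k, f' (hd hk.le i) = f i := by
    intro i
    simp only [f']
    rw [dif_pos (show ((hd hk.le i : Fin n) : ℕ) < k from i.2)]
    rfl
  obtain ⟨g, hg⟩ := exists_SU_cols hF S (by
    intro h
    have h1 : S.card ≤ k := by
      refine le_trans Finset.card_image_le ?_
      simp
    rw [h, Finset.card_univ, Fintype.card_fin] at h1
    omega) f' (by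
      intro i hi j hj
      simp only [S, Finset.mem_image, Finset.mem_univ, true_and] at hi hj
      obtain ⟨i, rfl⟩ := hi
      obtain ⟨j, rfl⟩ := hj
      rw [hf'h, hf'h, hf]
      by_cases hij : i = j
      · subst hij; simp
      · rw [if_neg hij, if_neg (fun h => hij ((hd hk.le).injective h))])
  refine ⟨g, fun c => ?_⟩
  have hc : c = ∑ j, c j • (Pi.single j 1 : Fin k → F) := by
    ext i
    rw [Finset.sum_apply, Finset.sum_eq_single i]
    · simp
    · intro b _ hb
      simp [Pi.single_eq_of_ne hb.symm]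
    · simp
  conv_lhs => rw [hc]
  unfold ext
  rw [Matrix.mulVec_sum, Matrix.mulVec_sum]
  refine Finset.sum_congr rfl fun j _ => ?_
  rw [Matrix.mulVec_smul, Matrix.mulVec_smul]
  have := ext_single (F := F) (hd hk.le) j
  unfold ext at this
  rw [this, hg _ (by simp [S]), hf'h]

/-- frames of four vectors -/
theorem exists_frame4 (hF : Fintype.card F = q ^ 2) {m : ℕ} (hm : 3 ≤ m) {x y : Fin (m + 2) → F} (z : Fin (m + 2) → F)
    (hx : hermForm (m + 2) F q x x = 1) (hy : hermForm (m + 2) F q y y = 1) (hxy : Adj q x y) :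
    ∃ (s : SU (m + 2) F q) (v₁ : Fin 2 → F) (v₂ : Fin 4 → F), mt s *ᵥ (Pi.single 0 1) = x ∧
      y = mt s *ᵥ ext (hd (by omega : 2 ≤ m + 2)) v₁ ∧ z = mt s *ᵥ ext (hd (by omega : 4 ≤ m + 2)) v₂ := by
  have hyx := hxy.symm' hF
  set b₁ := y - hermForm (m + 2) F q y x • x with hb₁
  clear_value b₁
  have hb₁x : hermForm (m + 2) F q b₁ x = 0 := by rw [hb₁, hermForm_sub_left, hermForm_smul_left, hx, mul_one, sub_self]
  have hb₁b₁ : hermForm (m + 2) F q b₁ b₁ = 1 - hermForm (m + 2) F q y x * hermForm (m + 2) F q y x ^ q := by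
    have h1 : hermForm (m + 2) F q b₁ b₁ = hermForm (m + 2) F q b₁ y := by
      conv_lhs => rw [hb₁]
      rw [hermForm_sub_right hF, hermForm_smul_right, ← hb₁, hb₁x, mul_zero, sub_zero]
    rw [h1, hb₁, hermForm_sub_left, hermForm_smul_left, hy, ← hermForm_swap hF y x]
  obtain ⟨d, hd0, hd'⟩ := exists_unit_smul hF (u := b₁) (by
    rw [hb₁b₁]
    intro h
    exact hyx (sub_eq_zero.mp h).symm)
  set b := d • b₁ with hb
  clear_value b
  have hbx : hermForm (m + 2) F q b x = 0 := by rw [hb, hermForm_smul_left, hb₁x, mul_zero]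
  have hxb := perp_symm hF hbx
  have hyexp : y = hermForm (m + 2) F q y x • x + d⁻¹ • b := by
    rw [hb, smul_smul, inv_mul_cancel₀ hd0, one_smul, hb₁]
    abel
  set w := z - hermForm (m + 2) F q z x • x - hermForm (m + 2) F q z b • b with hw
  clear_value w
  have hwx : hermForm (m + 2) F q w x = 0 := by
    rw [hw, hermForm_sub_left, hermForm_sub_left, hermForm_smul_left, hermForm_smul_left, hx, hbx]
    ring
  have hwb : hermForm (m + 2) F q w b = 0 := by
    rw [hw, hermForm_sub_left, hermForm_sub_left, hermForm_smul_left, hermForm_smul_left, hd', hxb]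
    ring
  obtain ⟨g, k, α, β, hg, hk, hkg, hgx, hgb, hkx, hkb, hwe⟩ := exists_pair hF (by omega) hx hd' hbx hwx hwb
  have hON : ON q (![x, b, g, k] : Fin 4 → (Fin (m + 2) → F)) := by
    intro i j
    fin_cases i <;> fin_cases j <;> simp [hx, hd', hg, hk, hkg, hgx, hgb, hkx, hkb, hbx, hxb, perp_symm hF hkg,
      perp_symm hF hgx, perp_symm hF hgb, perp_symm hF hkx, perp_symm hF hkb]
  obtain ⟨s, hs⟩ := exists_SU_hd hF (by omega : 4 < m + 2) _ hON
  refine ⟨s, ![hermForm (m + 2) F q y x, d⁻¹], ![hermForm (m + 2) F q z x, hermForm (m + 2) F q z b, α, β], ?_, ?_, ?_⟩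
  · have h0 : (Pi.single 0 1 : Fin (m + 2) → F) = ext (hd (by omega : 4 ≤ m + 2)) (Pi.single 0 1) := by
      rw [ext_single]; rfl
    rw [h0, hs]
    simp [Fin.sum_univ_four]
  · have h0 : ext (hd (by omega : 2 ≤ m + 2)) ![hermForm (m + 2) F q y x, d⁻¹] =
        ext (hd (by omega : 4 ≤ m + 2)) ![hermForm (m + 2) F q y x, d⁻¹, 0, 0] := by
      have e1 : (![hermForm (m + 2) F q y x, d⁻¹, 0, 0] : Fin 4 → F) =
          ext (hd (by omega : 2 ≤ 4)) ![hermForm (m + 2) F q y x, d⁻¹] := by
        ext i
        fin_cases i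
        · exact (ext_apply (hd (by omega : 2 ≤ 4)) ![hermForm (m + 2) F q y x, d⁻¹] 0).symm
        · exact (ext_apply (hd (by omega : 2 ≤ 4)) ![hermForm (m + 2) F q y x, d⁻¹] 1).symm
        · refine (ext_apply' (hd (by omega : 2 ≤ 4)) ![hermForm (m + 2) F q y x, d⁻¹] ?_).symm
          intro i h
          have h1 := congrArg Fin.val h
          have h2 : (i : ℕ) < 2 := i.2
          simp at h1
          omega
        · refine (ext_apply' (hd (by omega : 2 ≤ 4)) ![hermForm (m + 2) F q y x, d⁻¹] ?_).symm
          intro i h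
          have h1 := congrArg Fin.val h
          have h2 : (i : ℕ) < 2 := i.2
          simp at h1
          omega
      rw [e1]
      unfold ext
      rw [Matrix.mulVec_mulVec, PM_comp]
      rfl
    rw [h0, hs]
    simp only [Fin.sum_univ_four, Matrix.cons_val_zero, Matrix.cons_val_one, Matrix.cons_val, zero_smul, add_zero]
    exact hyexp
  · rw [hs]
    simp only [Fin.sum_univ_four, Matrix.cons_val_zero, Matrix.cons_val_one, Matrix.cons_val]
    rw [add_assoc, ← hwe, hw]
    abel

/-- a unit vector orthogonal to three given ones -/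
theorem exists_perp_three (hF : Fintype.card F = q ^ 2) {m : ℕ} (hm : 3 ≤ m) {a b : Fin (m + 2) → F}
    (c : Fin (m + 2) → F) (ha : hermForm (m + 2) F q a a = 1) (hb : hermForm (m + 2) F q b b = 1) (hab : Adj q a b) :
    ∃ r : Fin (m + 2) → F, hermForm (m + 2) F q r r = 1 ∧ hermForm (m + 2) F q r a = 0 ∧
      hermForm (m + 2) F q r b = 0 ∧ hermForm (m + 2) F q r c = 0 := by
  obtain ⟨s, v₁, v₂, h0, h1, h2⟩ := exists_frame4 hF hm c ha hb hab
  refine ⟨mt s *ᵥ (Pi.single ⟨4, by omega⟩ 1), ?_, ?_, ?_, ?_⟩
  · rw [mt_form, hermForm_single_left]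
    simp
  · rw [← h0, mt_form, hermForm_single_left, Pi.single_eq_of_ne, zero_pow_q hF]
    intro h
    have := congrArg Fin.val h
    simp at this
  · rw [h1, mt_form, hermForm_single_left, ext_apply', zero_pow_q hF]
    intro i h
    have := congrArg Fin.val h
    have h2 : (i : ℕ) < 2 := i.2
    simp at this
    omega
  · rw [h2, mt_form, hermForm_single_left, ext_apply', zero_pow_q hF]
    intro i h
    have := congrArg Fin.val h
    have h2 : (i : ℕ) < 4 := i.2
    simp at this
    omega

/-- the connecting vector -/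
theorem exists_link (hF : Fintype.card F = q ^ 2) (h2 : (2 : F) ≠ 0) {m : ℕ} (hm : 3 ≤ m) {a c e e' : Fin (m + 2) → F}
    (ha : hermForm (m + 2) F q a a = 1) (he : hermForm (m + 2) F q e e = 1) (he' : hermForm (m + 2) F q e' e' = 1)
    (hea : hermForm (m + 2) F q e a = 0) (hec : hermForm (m + 2) F q e c = 0) (he'a : hermForm (m + 2) F q e' a = 0)
    (he'c : hermForm (m + 2) F q e' c = 0) (hna : ¬ Adj q e' e) :
    ∃ r : Fin (m + 2) → F, hermForm (m + 2) F q r r = 1 ∧ hermForm (m + 2) F q r a = 0 ∧
      hermForm (m + 2) F q r c = 0 ∧ hermForm (m + 2) F q r e = 0 ∧ Adj q r e' := by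
  obtain ⟨r₁, hr₁, h1a, h1e, h1c⟩ := exists_perp_three hF hm c ha he ((adj_of_perp hF hea).symm' hF)
  by_cases hadj : Adj q r₁ e'
  · exact ⟨r₁, hr₁, h1a, h1c, h1e, hadj⟩
  · have hadj' : ¬ Adj q e' r₁ := fun h => hadj (h.symm' hF)
    unfold Adj at hna hadj'
    push Not at hna hadj'
    have her₁ := perp_symm hF h1e
    set h := e' - hermForm (m + 2) F q e' e • e - hermForm (m + 2) F q e' r₁ • r₁ with hh
    clear_value h
    have hhe : hermForm (m + 2) F q h e = 0 := by
      rw [hh, hermForm_sub_left, hermForm_sub_left, hermForm_smul_left, hermForm_smul_left, he, h1e]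
      ring
    have hhr : hermForm (m + 2) F q h r₁ = 0 := by
      rw [hh, hermForm_sub_left, hermForm_sub_left, hermForm_smul_left, hermForm_smul_left, hr₁, her₁]
      ring
    have hha : hermForm (m + 2) F q h a = 0 := by
      rw [hh, hermForm_sub_left, hermForm_sub_left, hermForm_smul_left, hermForm_smul_left, he'a, hea, h1a]
      ring
    have hhc : hermForm (m + 2) F q h c = 0 := by
      rw [hh, hermForm_sub_left, hermForm_sub_left, hermForm_smul_left, hermForm_smul_left, he'c, hec, h1c]
      ring
    have hhh' : hermForm (m + 2) F q h h = hermForm (m + 2) F q h e' := by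
      conv_lhs => rw [hh]
      rw [hermForm_sub_right hF, hermForm_sub_right hF, hermForm_smul_right, hermForm_smul_right, ← hh, hhe, hhr]
      ring
    have hhe' : hermForm (m + 2) F q h e' = -1 := by
      rw [hh, hermForm_sub_left, hermForm_sub_left, hermForm_smul_left, hermForm_smul_left, he',
        ← hermForm_swap hF e' e, ← hermForm_swap hF e' r₁, hna, hadj']
      ring
    rw [hhe'] at hhh'
    obtain ⟨κ, hκ0, hκ⟩ := exists_unit_smul hF (u := h) (by
      rw [hhh']
      exact neg_ne_zero.mpr one_ne_zero)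
    refine ⟨κ • h, hκ, ?_, ?_, ?_, ?_⟩
    · rw [hermForm_smul_left, hha, mul_zero]
    · rw [hermForm_smul_left, hhc, mul_zero]
    · rw [hermForm_smul_left, hhe, mul_zero]
    · unfold Adj
      rw [hermForm_smul_left, hermForm_smul_right, hhh'] at hκ
      rw [hermForm_smul_left, hhe', mul_pow, neg_pow_q hF, one_pow]
      intro h3
      apply h2
      linear_combination -h3 - hκ

end H60.Ph
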