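import Mathlib
import Cfsg.Agent.Lib.H60.PhN

/-!
Phan systems, part O: the extension step with a four-dimensional head, odd characteristic.
-/

set_option autoImplicit false
set_option linter.unusedSectionVars false
set_option linter.unusedVariables false

namespace H60.Ph

open Matrix Cfsg H16.Herm

variable {F : Type*} [Field F] [Fintype F] {q : ℕ}

/-- a group with maps as in the induction step, with a four-dimensional head -/
structure Amal4 (hF : Fintype.card F = q ^ 2) (m : ℕ) (hm : 3 ≤ m) (T : Type*) [Group T] where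
  p : T →* SU (m + 2) F q
  at' : SU (m + 1) F q →* T
  bt : SU 4 F q →* T
  p_at : ∀ a, p (at' a) = emb hF (tl (m + 1)) a
  p_bt : ∀ b, p (bt b) = emb hF (hd (by omega : 4 ≤ m + 2)) b
  ov : ∀ a : SU 3 F q, at' (emb hF (hd (by omega : 3 ≤ m + 1)) a) = bt (emb hF (tl 3) a)
  cm : ∀ (b : SU 2 F q) (c : SU m F q), bt (emb hF (hd (by omega : 2 ≤ 4)) b) * at' (emb hF (tl m) c) =
    at' (emb hF (tl m) c) * bt (emb hF (hd (by omega : 2 ≤ 4)) b)

namespace Amal4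

variable {hF : Fintype.card F = q ^ 2} {m : ℕ} {hm : 3 ≤ m} {T : Type*} [Group T] (D : Amal4 hF m hm T)

/-- the underlying data with a three-dimensional head -/
def E : Amal hF m (by omega) T where
  p := D.p
  at' := D.at'
  bt := D.bt.comp (emb hF (hd (by omega : 3 ≤ 4)))
  p_at := D.p_at
  p_bt b := by
    rw [MonoidHom.comp_apply, D.p_bt, emb_emb]
    rfl
  ov a := by
    have h1 : emb hF (hd (by omega : 2 ≤ m + 1)) a = emb hF (hd (by omega : 3 ≤ m + 1)) (emb hF (hd (by omega : 2 ≤ 3)) a) := by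
      rw [emb_emb]; rfl
    rw [h1, D.ov, MonoidHom.comp_apply, emb_emb, emb_emb]
    rfl
  cm b c := by
    have h1 : (D.bt.comp (emb hF (hd (by omega : 3 ≤ 4)))) (emb hF (hd (by omega : 2 ≤ 3)) b) =
        D.bt (emb hF (hd (by omega : 2 ≤ 4)) b) := by
      rw [MonoidHom.comp_apply, emb_emb]
      rfl
    rw [h1]
    exact D.cm b c

theorem E_p : D.E.p = D.p := rfl
theorem E_at : D.E.at' = D.at' := rfl

theorem E_lm (b : SU 2 F q) : D.E.lm b = D.bt (emb hF (hd (by omega : 2 ≤ 4)) b) := by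
  show D.bt (emb hF _ (emb hF _ b)) = _
  rw [emb_emb]
  rfl

theorem vec_bt4 (x : SU 4 F q) : D.E.vec (D.bt x) = ext (hd (by omega : 4 ≤ m + 2)) (mt x *ᵥ (Pi.single 0 1)) := by
  unfold Amal.vec
  rw [E_p, D.p_bt, mt_emb]
  have : (Pi.single 0 1 : Fin (m + 2) → F) = ext (hd (by omega : 4 ≤ m + 2)) (Pi.single 0 1) := by
    rw [ext_single]; rfl
  rw [this, EM_mulVec_ext]

theorem tri_good4 (t : T) {c₁ c₂ : D.E.Co} (v₁ : Fin 2 → F) (v₂ : Fin 4 → F) (h01 : D.E.R (QuotientGroup.mk t) c₁)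
    (h12 : D.E.R c₁ c₂) (h1 : D.E.rho c₁ = mt (D.p t) *ᵥ ext (hd (by omega : 2 ≤ m + 2)) v₁)
    (h2 : D.E.rho c₂ = mt (D.p t) *ᵥ ext (hd (by omega : 4 ≤ m + 2)) v₂)
    (hadj : hermForm (m + 2) F q (D.E.vec t) (D.E.rho c₂) * hermForm (m + 2) F q (D.E.vec t) (D.E.rho c₂) ^ q ≠ 1) :
    D.E.R (QuotientGroup.mk t) c₂ := by
  have hvt : D.E.vec t = mt (D.p t) *ᵥ (Pi.single 0 1) := rfl
  have hu1 : v₁ 0 * v₁ 0 ^ q + v₁ 1 * v₁ 1 ^ q = 1 := by
    have := D.E.rho_unit c₁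
    rw [h1, mt_form, form_ext_ext] at this
    simpa [hermForm, Fin.sum_univ_two] using this
  have hv11 : v₁ 1 ≠ 0 := by
    intro h
    have := D.E.R_adj h01
    rw [D.E.rho_mk, h1, hvt, mt_form, hermForm_single_left] at this
    have h0 : (0 : Fin (m + 2)) = hd (by omega : 2 ≤ m + 2) 0 := rfl
    rw [h0, ext_apply, pow_q_pow_q hF, mul_comm] at this
    apply this
    rw [h, zero_mul, add_zero] at hu1
    exact hu1
  set b₁ := su2 hF (v₁ 0) (v₁ 1) hu1 with hb₁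
  have hb10 : mt b₁ 1 0 ≠ 0 := by rw [hb₁, mt_su2]; simpa using hv11
  have hc₁ : c₁ = QuotientGroup.mk (t * D.E.lm b₁) := by
    refine D.E.R_unique h01 ⟨t, b₁, hb10, rfl, rfl⟩ ?_
    rw [D.E.rho_mk, h1, D.E.vec_mul, D.E.vec_lm]
    congr 2
    ext i
    fin_cases i <;> rfl
  set B₁ : SU 4 F q := emb hF (hd (by omega : 2 ≤ 4)) b₁ with hB₁
  have hlm : D.E.lm b₁ = D.bt B₁ := D.E_lm b₁
  set v₂' := mt B₁⁻¹ *ᵥ v₂ with hv₂'
  have hv₂ : mt B₁ *ᵥ v₂' = v₂ := by rw [hv₂', Matrix.mulVec_mulVec, mt_mul_inv, Matrix.one_mulVec]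
  have hv₂u : hermForm 4 F q v₂ v₂ = 1 := by
    have := D.E.rho_unit c₂
    rwa [h2, mt_form, form_ext_ext] at this
  have hv₂'u : hermForm 4 F q v₂' v₂' = 1 := by rw [← mt_form B₁, hv₂, hv₂u]
  have hv₂'0 : v₂' 0 * v₂' 0 ^ q ≠ 1 := by
    have := D.E.R_adj h12
    rw [hc₁, D.E.rho_mk, D.E.vec_mul, h2, E_p, mt_form, hlm, D.vec_bt4, form_ext_ext] at this
    rw [← hv₂, mt_form, hermForm_single_left, pow_q_pow_q hF, mul_comm] at this
    exact this
  obtain ⟨a', b', hb', hab'⟩ := exists_fac hF (n := 2) (by omega) v₂' hv₂'u hv₂'0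
  set x : SU 4 F q := B₁ * (emb hF (tl 3) a' * emb hF (hd (by omega : 2 ≤ 4)) b') with hx
  have hxe : mt x *ᵥ (Pi.single 0 1) = v₂ := by
    rw [hx, mt_mul, ← Matrix.mulVec_mulVec, hab', hv₂]
  have hc₂ : c₂ = QuotientGroup.mk (t * D.bt x) := by
    refine D.E.R_unique h12 ⟨t * D.E.lm b₁ * D.at' (emb hF (hd (by omega : 3 ≤ m + 1)) a'), b', hb', ?_, ?_⟩ ?_
    · have := D.E.mk_at (t * D.E.lm b₁) (emb hF (hd (by omega : 3 ≤ m + 1)) a')
      rw [hc₁]
      exact this.symm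
    · congr 1
      rw [D.ov, hlm, D.E_lm, hx, map_mul, map_mul]
      group
    · rw [h2, D.E.rho_mk, D.E.vec_mul, D.vec_bt4, hxe, E_p]
  have hv₂0 : v₂ 0 * v₂ 0 ^ q ≠ 1 := by
    rw [hvt, h2, mt_form, hermForm_single_left] at hadj
    have h0 : (0 : Fin (m + 2)) = hd (by omega : 4 ≤ m + 2) 0 := rfl
    rw [h0, ext_apply, pow_q_pow_q hF, mul_comm] at hadj
    exact hadj
  obtain ⟨a'', b'', hb'', hab''⟩ := exists_fac hF (n := 2) (by omega) v₂ hv₂u hv₂0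
  obtain ⟨a₃, ha₃⟩ := stab_e0 hF (n := 3) (x⁻¹ * (emb hF (tl 3) a'' * emb hF (hd (by omega : 2 ≤ 4)) b'')) (by
    rw [mt_mul, ← Matrix.mulVec_mulVec, hab'', ← hxe, Matrix.mulVec_mulVec, mt_inv_mul, Matrix.one_mulVec])
  have hxx : x * emb hF (tl 3) a₃ = emb hF (tl 3) a'' * emb hF (hd (by omega : 2 ≤ 4)) b'' := by
    rw [ha₃, mul_inv_cancel_left]
  have mkat : ∀ (t : T) (a : SU (m + 1) F q), (QuotientGroup.mk (t * D.at' a) : D.E.Co) = QuotientGroup.mk t := D.E.mk_at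
  refine ⟨t * D.at' (emb hF (hd (by omega : 3 ≤ m + 1)) a''), b'', hb'', (mkat _ _).symm, ?_⟩
  rw [hc₂, ← mkat (t * D.bt x) (emb hF (hd (by omega : 3 ≤ m + 1)) a₃), D.ov, D.ov, mul_assoc t, ← map_mul, hxx, map_mul,
    ← mul_assoc, D.E_lm]

theorem tri4 {c₀ c₁ c₂ : D.E.Co} (h01 : D.E.R c₀ c₁) (h12 : D.E.R c₁ c₂) (hadj : Adj q (D.E.rho c₀) (D.E.rho c₂)) :
    D.E.R c₀ c₂ := by
  obtain ⟨s, v₁, v₂, hs0, hs1, hs2⟩ := exists_frame4 hF hm (D.E.rho c₂) (D.E.rho_unit c₀) (D.E.rho_unit c₁) (D.E.R_adj h01)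
  obtain ⟨t, rfl⟩ := QuotientGroup.mk_surjective c₀
  obtain ⟨a, ha⟩ := stab_e0 hF ((D.p t)⁻¹ * s) (by
    rw [mt_mul, ← Matrix.mulVec_mulVec, hs0, D.E.rho_mk]
    unfold Amal.vec
    rw [E_p, Matrix.mulVec_mulVec, mt_inv_mul, Matrix.one_mulVec])
  have hst : D.p (t * D.at' a) = s := by rw [map_mul, D.p_at, ha, mul_inv_cancel_left]
  have mkat : ∀ (t : T) (a : SU (m + 1) F q), (QuotientGroup.mk (t * D.at' a) : D.E.Co) = QuotientGroup.mk t := D.E.mk_at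
  rw [← mkat t a] at h01 hadj ⊢
  exact D.tri_good4 (t * D.at' a) v₁ v₂ h01 h12 (by rw [hst]; exact hs1) (by rw [hst]; exact hs2) hadj

/-- a two-step path orthogonal to both ends can replace any two-step path -/
theorem move {c₀ c₁ c₂ : D.E.Co} (h01 : D.E.R c₀ c₁) (h12 : D.E.R c₁ c₂) :
    ∃ x : D.E.Co, D.E.R c₀ x ∧ D.E.R x c₂ ∧ hermForm (m + 2) F q (D.E.rho x) (D.E.rho c₀) = 0 ∧
      hermForm (m + 2) F q (D.E.rho x) (D.E.rho c₂) = 0 := by
  obtain ⟨e, he, hea, heb, hec⟩ := exists_perp_three hF hm (D.E.rho c₂) (D.E.rho_unit c₀) (D.E.rho_unit c₁) (D.E.R_adj h01)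
  obtain ⟨x, hx, rfl⟩ := D.E.R_exists c₀ e he ((adj_of_perp hF hea).symm' hF)
  have h1 : D.E.R c₁ x := D.tri4 (D.E.R_symm h01) hx ((adj_of_perp hF heb).symm' hF)
  exact ⟨x, hx, D.tri4 (D.E.R_symm h1) h12 (adj_of_perp hF hec), hea, hec⟩

theorem quad4 (h2 : (2 : F) ≠ 0) {c₀ c₁ c₂ d₁ d₂ : D.E.Co} (h01 : D.E.R c₀ c₁) (h12 : D.E.R c₁ c₂) (k01 : D.E.R c₀ d₁)
    (k12 : D.E.R d₁ d₂) (h : D.E.rho c₂ = D.E.rho d₂) : c₂ = d₂ := by
  obtain ⟨x, x0, x2, xp0, xp2⟩ := D.move h01 h12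
  obtain ⟨y, y0, y2, yp0, yp2⟩ := D.move k01 k12
  rw [← h] at yp2
  -- adjacent intermediate vertices
  have key : ∀ u v : D.E.Co, ∀ u₂ v₂ : D.E.Co, D.E.R c₀ u → D.E.R u u₂ → D.E.R c₀ v → D.E.R v v₂ → D.E.rho u₂ = D.E.rho v₂ →
      Adj q (D.E.rho v) (D.E.rho u₂) → Adj q (D.E.rho v) (D.E.rho u) → u₂ = v₂ := by
    intro u v u₂ v₂ hu hu₂ hv hv₂ huv ha hb
    have e1 : D.E.R v u := D.tri4 (D.E.R_symm hv) hu hb
    have e2 : D.E.R v u₂ := D.tri4 e1 hu₂ ha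
    exact D.E.R_unique e2 hv₂ huv
  by_cases hA : Adj q (D.E.rho y) (D.E.rho x)
  · exact key x y c₂ d₂ x0 x2 y0 y2 h (adj_of_perp hF yp2) hA
  · obtain ⟨r, hr, hr0, hr2, hrx, hry⟩ := exists_link hF h2 hm (c := D.E.rho c₂) (D.E.rho_unit c₀) (D.E.rho_unit x)
      (D.E.rho_unit y) xp0 xp2 yp0 yp2 hA
    obtain ⟨z, z0, rfl⟩ := D.E.R_exists c₀ r hr ((adj_of_perp hF hr0).symm' hF)
    obtain ⟨w, z2, hw⟩ := D.E.R_exists z (D.E.rho c₂) (D.E.rho_unit _) (adj_of_perp hF hr2)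
    have e1 : c₂ = w := key x z c₂ w x0 x2 z0 z2 hw.symm (adj_of_perp hF hr2) (adj_of_perp hF hrx)
    have e2 : d₂ = w := key y z d₂ w y0 y2 z0 z2 (by rw [hw, h]) (by rw [← h]; exact adj_of_perp hF hr2) hry
    rw [e1, e2]

/-- two step neighbours -/
def W (c : D.E.Co) (p : Fin (m + 2) → F) (x : D.E.Co) : Prop := ∃ r, D.E.R c r ∧ D.E.R r x ∧ D.E.rho x = p

theorem W_unique (h2 : (2 : F) ≠ 0) {c : D.E.Co} {p : Fin (m + 2) → F} {x y : D.E.Co} (hx : D.W c p x) (hy : D.W c p y) :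
    x = y := by
  obtain ⟨r, h1, h2', h3⟩ := hx
  obtain ⟨r', h1', h2'', h3'⟩ := hy
  exact D.quad4 h2 h1 h2' h1' h2'' (by rw [h3, h3'])

theorem W_step (h2 : (2 : F) ≠ 0) {c c' : D.E.Co} (h : D.E.R c c') {p : Fin (m + 2) → F}
    (hp : hermForm (m + 2) F q p p = 1) {x : D.E.Co} (hx : D.W c p x) : D.W c' p x := by
  obtain ⟨r, hr, hr0, hr1, hr2⟩ := exists_perp_three hF hm p (D.E.rho_unit c) (D.E.rho_unit c') (D.E.R_adj h)
  obtain ⟨d, hd, rfl⟩ := D.E.R_exists c r hr ((adj_of_perp hF hr0).symm' hF)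
  have e1 : D.E.R c' d := D.tri4 (D.E.R_symm h) hd ((adj_of_perp hF hr1).symm' hF)
  obtain ⟨y, hy, hyp⟩ := D.E.R_exists d p hp (adj_of_perp hF hr2)
  have : x = y := D.W_unique h2 hx ⟨d, hd, hy, hyp⟩
  subst this
  exact ⟨d, e1, hy, hyp⟩

theorem W_self (c : D.E.Co) : D.W c (D.E.rho c) c := by
  obtain ⟨r, hr, hr0⟩ := exists_unit_perp hF (f := fun _ : Unit => D.E.rho c) (by
    intro i j
    simp [D.E.rho_unit c]) (by simp)
  obtain ⟨d, hd, _⟩ := D.E.R_exists c r hr ((adj_of_perp hF (hr0 ())).symm' hF)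
  exact ⟨d, hd, D.E.R_symm hd, rfl⟩

theorem eq_of_conn (h2 : (2 : F) ≠ 0) {c c' : D.E.Co} (h : Relation.ReflTransGen D.E.R c c')
    (hρ : D.E.rho c = D.E.rho c') : c = c' := by
  have key : ∀ c', Relation.ReflTransGen D.E.R c c' → D.W c' (D.E.rho c) c := by
    intro c' h
    induction h with
    | refl => exact D.W_self c
    | tail _ h1 ih => exact D.W_step h2 h1 (D.E.rho_unit c) ih
  have h1 := key c' h
  have h3 := D.W_self c'
  rw [← hρ] at h3
  exact D.W_unique h2 h1 h3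

theorem conn_of_mem (hq : 3 ≤ q) {x : T} (hx : x ∈ Subgroup.closure ((D.at'.range : Set T) ∪ (D.bt.range : Set T))) :
    Relation.ReflTransGen D.E.R (QuotientGroup.mk 1) (QuotientGroup.mk x) := by
  have mkat : ∀ (t : T) (a : SU (m + 1) F q), (QuotientGroup.mk (t * D.at' a) : D.E.Co) = QuotientGroup.mk t := D.E.mk_at
  have mkat1 : ∀ (a : SU (m + 1) F q), (QuotientGroup.mk (D.at' a) : D.E.Co) = QuotientGroup.mk 1 := by
    intro a
    have := mkat 1 a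
    rwa [one_mul] at this
  induction hx using Subgroup.closure_induction with
  | mem x hx =>
    rcases hx with ⟨a, rfl⟩ | ⟨y, rfl⟩
    · rw [mkat1]
    · obtain ⟨a, a', a'', b, b', hb, hb', rfl⟩ := exists_fac_all hF hq (n := 2) (by omega) y
      have ov' : ∀ a : SU 3 F q, D.bt (emb hF (tl 3) a) = D.at' (emb hF (hd (by omega : 3 ≤ m + 1)) a) := fun a => (D.ov a).symm
      rw [map_mul, ov', mkat]
      refine (Relation.ReflTransGen.single (b := (QuotientGroup.mk (D.bt (emb hF (tl 3) a * emb hF (hd (by omega : 2 ≤ 4)) b)) : D.E.Co)) ?_).tail ?_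
      · refine ⟨D.bt (emb hF (tl 3) a), b, hb, ?_, ?_⟩
        · rw [ov', mkat1]
        · rw [map_mul, D.E_lm]
      · refine ⟨D.bt (emb hF (tl 3) a * emb hF (hd (by omega : 2 ≤ 4)) b * emb hF (tl 3) a'), b', hb', ?_, ?_⟩
        · rw [map_mul D.bt (_ * _), ov', mkat]
        · rw [map_mul D.bt (_ * _), D.E_lm]
  | one => exact Relation.ReflTransGen.refl
  | mul x y _ _ hx hy =>
    have := D.E.conn_smul x hy
    rw [mul_one] at this
    exact hx.trans this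
  | inv x _ hx =>
    have := D.E.conn_smul x⁻¹ hx
    rw [mul_one, inv_mul_cancel] at this
    exact D.E.conn_symm this

theorem ker_trivial (hq : 3 ≤ q) (h2 : (2 : F) ≠ 0) {x : T}
    (hx : x ∈ Subgroup.closure ((D.at'.range : Set T) ∪ (D.bt.range : Set T))) (hp : D.p x = 1) : x = 1 := by
  have h := D.eq_of_conn h2 (D.conn_of_mem hq hx) (by
    rw [D.E.rho_mk, D.E.rho_mk]
    unfold Amal.vec
    rw [E_p, hp, map_one])
  obtain ⟨a, ha⟩ := D.E.exists_of_mk h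
  rw [one_mul] at ha
  rw [ha, E_at, D.p_at] at hp
  have : a = 1 := emb_injective hF (tl (m + 1)) (by rw [hp, map_one])
  rw [ha, this, map_one]

end Amal4

/-- the extension step with a four-dimensional head -/
theorem exists_extension4 (hF : Fintype.card F = q ^ 2) (hq : 3 ≤ q) (h2 : (2 : F) ≠ 0) {m : ℕ} (hm : 3 ≤ m)
    {G : Type*} [Group G] (f : SU (m + 1) F q →* G) (g : SU 4 F q →* G)
    (hov : ∀ a : SU 3 F q, f (emb hF (hd (by omega : 3 ≤ m + 1)) a) = g (emb hF (tl 3) a))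
    (hcm : ∀ (b : SU 2 F q) (c : SU m F q), g (emb hF (hd (by omega : 2 ≤ 4)) b) * f (emb hF (tl m) c) =
      f (emb hF (tl m) c) * g (emb hF (hd (by omega : 2 ≤ 4)) b)) :
    ∃ h : SU (m + 2) F q →* G, (∀ a, h (emb hF (tl (m + 1)) a) = f a) ∧
      (∀ b, h (emb hF (hd (by omega : 4 ≤ m + 2)) b) = g b) := by
  let D : Amal4 hF m hm (SU (m + 2) F q × G) :=
    { p := MonoidHom.fst _ _
      at' := (emb hF (tl (m + 1))).prod f
      bt := (emb hF (hd (by omega : 4 ≤ m + 2))).prod g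
      p_at := fun a => rfl
      p_bt := fun b => rfl
      ov := by
        intro a
        apply Prod.ext
        · show emb hF (tl (m + 1)) (emb hF (hd _) a) = emb hF (hd _) (emb hF (tl 3) a)
          rw [emb_emb, emb_emb]
          rfl
        · exact hov a
      cm := by
        intro b c
        apply Prod.ext
        · show emb hF (hd _) (emb hF (hd _) b) * emb hF (tl (m + 1)) (emb hF (tl m) c) =
            emb hF (tl (m + 1)) (emb hF (tl m) c) * emb hF (hd _) (emb hF (hd _) b)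
          rw [emb_emb, emb_emb]
          apply emb_commute
          intro i j h
          have h' := congrArg Fin.val h
          have h1 : (i : ℕ) < 2 := i.2
          simp [tl, hd] at h'
          omega
        · exact hcm b c }
  set X := Subgroup.closure ((D.at'.range : Set (SU (m + 2) F q × G)) ∪ (D.bt.range : Set (SU (m + 2) F q × G))) with hX
  let π : X →* SU (m + 2) F q := D.p.comp X.subtype
  have hinj : Function.Injective π := by
    rw [injective_iff_map_eq_one]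
    intro x hx
    exact Subtype.ext (D.ker_trivial hq h2 x.2 hx)
  have hat : ∀ a, D.at' a ∈ X := fun a => Subgroup.subset_closure (Or.inl ⟨a, rfl⟩)
  have hbt : ∀ a, D.bt a ∈ X := fun a => Subgroup.subset_closure (Or.inr ⟨a, rfl⟩)
  have hsurj : Function.Surjective π := by
    intro y
    obtain ⟨a, a', a'', b, b', _, _, rfl⟩ := exists_fac_all hF hq (n := m) (by omega) y
    have hlm : ∀ b : SU 2 F q, D.bt (emb hF (hd (by omega : 2 ≤ 4)) b) ∈ X := fun b => hbt _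
    refine ⟨⟨D.at' a, hat a⟩ * ⟨D.bt (emb hF (hd (by omega : 2 ≤ 4)) b), hlm b⟩ * ⟨D.at' a', hat a'⟩ *
      ⟨D.bt (emb hF (hd (by omega : 2 ≤ 4)) b'), hlm b'⟩ * ⟨D.at' a'', hat a''⟩, ?_⟩
    simp only [π, MonoidHom.comp_apply, map_mul, Subgroup.subtype_apply, D.p_at, D.p_bt, emb_emb, hd_trans]
  let E := MulEquiv.ofBijective π ⟨hinj, hsurj⟩
  refine ⟨(MonoidHom.snd _ _).comp (X.subtype.comp E.symm.toMonoidHom), fun a => ?_, fun b => ?_⟩
  · have : E.symm (emb hF (tl (m + 1)) a) = ⟨D.at' a, hat a⟩ := by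
      rw [MulEquiv.symm_apply_eq]
      rfl
    simp only [MonoidHom.comp_apply, MulEquiv.toMonoidHom_eq_coe, MonoidHom.coe_coe, this]
    rfl
  · have : E.symm (emb hF (hd (by omega : 4 ≤ m + 2)) b) = ⟨D.bt b, hbt b⟩ := by
      rw [MulEquiv.symm_apply_eq]
      rfl
    simp only [MonoidHom.comp_apply, MulEquiv.toMonoidHom_eq_coe, MonoidHom.coe_coe, this]
    rfl

end H60.Ph
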