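import Mathlib
import Cfsg.Agent.Lib.H60.PhO
import Cfsg.Agent.Lib.H60.PhI

/-!
Phan systems, part P: general diagonal twists.
-/

set_option autoImplicit false
set_option linter.unusedSectionVars false
set_option linter.unusedVariables false

namespace H60.Ph

open Matrix Cfsg H16.Herm

variable {F : Type*} [Field F] [Fintype F] {q : ℕ} {m n : ℕ}

theorem EM_apply_range (ε : Fin m ↪ Fin n) (A : Matrix (Fin m) (Fin m) F) (i j : Fin m) :
    EM ε A (ε i) (ε j) = A i j := by
  have h := congrFun (EM_mulVec_ext ε A (Pi.single j 1)) (ε i)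
  rw [ext_single, col_single, ext_apply, col_single] at h
  exact h

theorem EM_apply_row (ε : Fin m ↪ Fin n) (A : Matrix (Fin m) (Fin m) F) {i : Fin n} (hi : ∀ k, ε k ≠ i) (j : Fin m) :
    EM ε A i (ε j) = 0 := by
  have h := congrFun (EM_mulVec_ext ε A (Pi.single j 1)) i
  rw [ext_single, col_single, ext_apply' _ _ hi] at h
  exact h

theorem EM_apply_col (ε : Fin m ↪ Fin n) (A : Matrix (Fin m) (Fin m) F) {j : Fin n} (hj : ∀ k, ε k ≠ j) (i : Fin n) :
    EM ε A i j = if i = j then 1 else 0 := by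
  have h := congrFun (EM_mulVec_of_zero ε A (Pi.single j 1) (by
    ext k
    exact Pi.single_eq_of_ne (hj k) _)) i
  rw [col_single] at h
  refine h.trans ?_
  by_cases hij : i = j
  · subst hij; simp
  · rw [Pi.single_eq_of_ne hij, if_neg hij]

theorem diag_form (D : Fin n → F) (hD : ∀ i, D i * D i ^ q = 1) (u v : Fin n → F) :
    hermForm n F q (Matrix.diagonal D *ᵥ u) (Matrix.diagonal D *ᵥ v) = hermForm n F q u v := by
  unfold hermForm
  refine Finset.sum_congr rfl fun i _ => ?_
  rw [Matrix.mulVec_diagonal, Matrix.mulVec_diagonal, mul_pow]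
  linear_combination (u i * v i ^ q) * hD i

/-- the general diagonal and field twist -/
def tW (hF : Fintype.card F = q ^ 2) (D : Fin n → F) (hD : ∀ i, D i * D i ^ q = 1) (τ : F ≃+* F) :
    SU n F q →* SU n F q where
  toFun A := ofMt (Matrix.diagonal D * (mt A).map τ * Matrix.diagonal (fun i => D i ^ q)) (by
    have h1 : ((mt A).map τ).det = 1 := by
      have := RingHom.map_det (τ : F →+* F) (mt A)
      rw [mt_det, map_one] at this
      exact this.symm
    rw [Matrix.det_mul, Matrix.det_mul, h1, mul_one, Matrix.det_diagonal, Matrix.det_diagonal, ← Finset.prod_mul_distrib]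
    exact Finset.prod_eq_one fun i _ => hD i) (by
    intro u v
    have hD' : ∀ i, (fun i => D i ^ q) i * ((fun i => D i ^ q) i) ^ q = 1 := by
      intro i
      simp only
      rw [pow_q_pow_q hF, mul_comm]
      exact hD i
    rw [← Matrix.mulVec_mulVec, ← Matrix.mulVec_mulVec, ← Matrix.mulVec_mulVec, ← Matrix.mulVec_mulVec, diag_form D hD,
      map_mulVec', map_mulVec', form_map, mt_form, ← form_map]
    have e : ∀ w : Fin n → F, τ ∘ (τ.symm ∘ w) = w := by
      intro w
      ext i
      simp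
    rw [e, e, diag_form _ hD'])
  map_one' := mt_inj (by
    rw [mt_ofMt, mt_one, Matrix.map_one _ (map_zero _) (map_one _), Matrix.mul_one, Matrix.diagonal_mul_diagonal]
    rw [← Matrix.diagonal_one]
    congr 1
    ext i
    exact hD i)
  map_mul' A B := mt_inj (by
    have hmm : (mt A * mt B).map τ = (mt A).map τ * (mt B).map τ := Matrix.map_mul (f := (τ : F →+* F))
    rw [mt_ofMt, mt_mul, mt_mul, mt_ofMt, mt_ofMt, hmm]
    have h : Matrix.diagonal (fun i => D i ^ q) * Matrix.diagonal D = 1 := by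
      rw [Matrix.diagonal_mul_diagonal, ← Matrix.diagonal_one]
      congr 1
      ext i
      rw [mul_comm]
      exact hD i
    calc Matrix.diagonal D * ((mt A).map τ * (mt B).map τ) * Matrix.diagonal (fun i => D i ^ q) =
        Matrix.diagonal D * (mt A).map τ * 1 * ((mt B).map τ * Matrix.diagonal (fun i => D i ^ q)) := by
          rw [Matrix.mul_one]; simp only [Matrix.mul_assoc]
      _ = _ := by rw [← h]; simp only [Matrix.mul_assoc])

theorem mt_tW (hF : Fintype.card F = q ^ 2) (D : Fin n → F) (hD : ∀ i, D i * D i ^ q = 1) (τ : F ≃+* F) (A : SU n F q)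
    (i j : Fin n) : mt (tW hF D hD τ A) i j = D i * τ (mt A i j) * D j ^ q := by
  have : mt (tW hF D hD τ A) = Matrix.diagonal D * (mt A).map τ * Matrix.diagonal (fun i => D i ^ q) := rfl
  rw [this, Matrix.mul_diagonal, Matrix.diagonal_mul, Matrix.map_apply]

theorem tW_injective (hF : Fintype.card F = q ^ 2) (D : Fin n → F) (hD : ∀ i, D i * D i ^ q = 1) (τ : F ≃+* F) :
    Function.Injective (tW hF D hD τ) := by
  intro A B h
  apply mt_inj
  ext i j
  have h1 := congrArg (fun x => mt x i j) h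
  simp only [mt_tW] at h1
  have h2 : D i ≠ 0 := left_ne_zero_of_mul_eq_one (hD i)
  have h3 : D j ^ q ≠ 0 := right_ne_zero_of_mul_eq_one (hD j)
  exact τ.injective (mul_left_cancel₀ h2 (mul_right_cancel₀ h3 h1))

theorem tW_surjective (hF : Fintype.card F = q ^ 2) (D : Fin n → F) (hD : ∀ i, D i * D i ^ q = 1) (τ : F ≃+* F) :
    Function.Surjective (tW hF D hD τ) :=
  Finite.injective_iff_surjective.mp (tW_injective hF D hD τ)

theorem tW_emb (hF : Fintype.card F = q ^ 2) (D : Fin n → F) (hD : ∀ i, D i * D i ^ q = 1) (τ : F ≃+* F)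
    (ε : Fin m ↪ Fin n) (A : SU m F q) :
    tW hF D hD τ (emb hF ε A) = emb hF ε (tW hF (D ∘ ε) (fun i => hD (ε i)) τ A) := by
  apply mt_inj
  ext i j
  rw [mt_tW, mt_emb, mt_emb]
  by_cases hj : ∃ l, ε l = j
  · obtain ⟨j, rfl⟩ := hj
    by_cases hi : ∃ l, ε l = i
    · obtain ⟨i, rfl⟩ := hi
      rw [EM_apply_range, EM_apply_range, mt_tW]
      rfl
    · push Not at hi
      rw [EM_apply_row ε _ hi, EM_apply_row ε _ hi, map_zero, mul_zero, zero_mul]
  · push Not at hj
    rw [EM_apply_col ε _ hj, EM_apply_col ε _ hj]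
    by_cases hij : i = j
    · subst hij
      rw [if_pos rfl, map_one, mul_one]
      exact hD i
    · rw [if_neg hij, map_zero, mul_zero, zero_mul]

/-- the Frobenius automorphism -/
noncomputable def frobE (hF : Fintype.card F = q ^ 2) : F ≃+* F :=
  RingEquiv.ofBijective (frobQ F hF) (Finite.injective_iff_bijective.mp (frobQ F hF).injective)

theorem frobE_apply (hF : Fintype.card F = q ^ 2) (x : F) : frobE hF x = x ^ q := rfl

/-! ### Computations in `SU 2` -/

section two
variable (hF : Fintype.card F = q ^ 2)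
include hF

theorem SU2_mul00 (a b : SU 2 F q) : mt (a * b) 0 0 = mt a 0 0 * mt b 0 0 - mt a 1 0 ^ q * mt b 1 0 := by
  rw [mt_mul, Matrix.mul_apply, Fin.sum_univ_two, SU2_01 hF a]
  ring

theorem SU2_mul10 (a b : SU 2 F q) : mt (a * b) 1 0 = mt a 1 0 * mt b 0 0 + mt a 0 0 ^ q * mt b 1 0 := by
  rw [mt_mul, Matrix.mul_apply, Fin.sum_univ_two, SU2_11 hF a]

theorem SU2_inv00 (a : SU 2 F q) : mt a⁻¹ 0 0 = mt a 0 0 ^ q := by
  have : mt a⁻¹ = Matrix.adjugate (mt a) := by
    have : ((a⁻¹ : SU 2 F q) : SpecialLinearGroup (Fin 2) F) = ((a : SpecialLinearGroup (Fin 2) F))⁻¹ := rfl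
    unfold mt
    rw [this, Matrix.SpecialLinearGroup.coe_inv]
  rw [this, Matrix.adjugate_fin_two, ← SU2_11 hF a]
  simp

omit hF in
theorem SU2_inv10 (a : SU 2 F q) : mt a⁻¹ 1 0 = - mt a 1 0 := by
  have : mt a⁻¹ = Matrix.adjugate (mt a) := by
    have : ((a⁻¹ : SU 2 F q) : SpecialLinearGroup (Fin 2) F) = ((a : SpecialLinearGroup (Fin 2) F))⁻¹ := rfl
    unfold mt
    rw [this, Matrix.SpecialLinearGroup.coe_inv]
  rw [this, Matrix.adjugate_fin_two]
  simp

/-- an involution of `SU 2` in odd characteristic -/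
theorem SU2_invol (h2 : (2 : F) ≠ 0) (a : SU 2 F q) (ha : a * a = 1) (ha1 : a ≠ 1) : mt a 0 0 = -1 ∧ mt a 1 0 = 0 := by
  have h1 : a = a⁻¹ := eq_inv_of_mul_eq_one_left ha
  have h10 : mt a 1 0 = 0 := by
    have h3 : mt a 1 0 = - mt a 1 0 := by
      conv_lhs => rw [h1]
      exact SU2_inv10 a
    have h4 : 2 * mt a 1 0 = 0 := by linear_combination h3
    exact (mul_eq_zero.mp h4).resolve_left h2
  have h00 := SU2_mul00 hF a a
  rw [ha, mt_one, h10] at h00
  simp at h00
  rcases mul_self_eq_one_iff.mp h00.symm with h | h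
  · exfalso
    apply ha1
    apply SU2_ext hF
    · rw [h, mt_one]; simp
    · rw [h10, mt_one]; simp
  · exact ⟨h, h10⟩

end two

end H60.Ph
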