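import Mathlib
import Cfsg.Agent.Lib.H60.PhP
import Cfsg.Agent.Lib.H60.PhJ

/-!
Phan systems, part Q: the field with nine elements; automorphisms of `SU 2` and `SU 3`.
-/

set_option autoImplicit false
set_option linter.unusedSectionVars false
set_option linter.unusedVariables false

namespace H60.Ph

open Matrix Cfsg H16.Herm

variable {F : Type*} [Field F] [Fintype F] (hF : Fintype.card F = 3 ^ 2)

include hF

theorem three_zero : (3 : F) = 0 := by
  have := cast_q hF
  exact_mod_cast this

theorem two_ne : (2 : F) ≠ 0 := by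
  intro h
  have h3 := three_zero hF
  have : (1 : F) = 0 := by linear_combination h3 - h
  exact one_ne_zero this

theorem pow8 {x : F} (hx : x ≠ 0) : x ^ 8 = 1 := by
  have h := pow_q_pow_q hF x
  apply mul_left_cancel₀ hx
  rw [mul_one]
  calc x * x ^ 8 = (x ^ 3) ^ 3 := by ring
    _ = x := h

theorem pow4_cases {x : F} (hx : x ≠ 0) : x ^ 4 = 1 ∨ x ^ 4 = -1 := by
  have h := pow8 hF hx
  apply mul_self_eq_one_iff.mp
  calc x ^ 4 * x ^ 4 = x ^ 8 := by ring
    _ = 1 := h

theorem exists_iota : ∃ ι : F, ι ^ 2 = -1 := by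
  obtain ⟨y, hy⟩ := H7.QuadExt.exists_norm_eq (c := (-1 : F)) hF (by rw [H7.QuadExt.neg_pow_q hF, one_pow])
  exact ⟨y ^ 2, by rw [← pow_mul]; exact hy⟩

omit [Fintype F] hF in
theorem iota_norm {ι : F} (hι : ι ^ 2 = -1) : ι * ι ^ 3 = 1 := by
  linear_combination (ι ^ 2 - 1) * hι

omit [Fintype F] hF in
theorem iota_ne {ι : F} (hι : ι ^ 2 = -1) : ι ≠ 0 := by
  rintro rfl
  simp at hι

/-- norm one elements -/
theorem norm_one_cases {ι : F} (hι : ι ^ 2 = -1) {c : F} (hc : c * c ^ 3 = 1) : c = 1 ∨ c = -1 ∨ c = ι ∨ c = -ι := by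
  have h : (c - 1) * (c + 1) * ((c - ι) * (c + ι)) = 0 := by
    linear_combination hc - (c ^ 2 - 1) * hι
  rcases mul_eq_zero.mp h with h1 | h1
  · rcases mul_eq_zero.mp h1 with h2 | h2
    · exact Or.inl (sub_eq_zero.mp h2)
    · exact Or.inr (Or.inl (eq_neg_of_add_eq_zero_left h2))
  · rcases mul_eq_zero.mp h1 with h2 | h2
    · exact Or.inr (Or.inr (Or.inl (sub_eq_zero.mp h2)))
    · exact Or.inr (Or.inr (Or.inr (eq_neg_of_add_eq_zero_left h2)))

/-- `SU 2` is generated by elements of order three -/
theorem SU2_ind (P : SU 2 F 3 → Prop) (h3 : ∀ u : SU 2 F 3, u * u * u = 1 → P u) (hmul : ∀ u v, P u → P v → P (u * v))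
    (u : SU 2 F 3) : P u := by
  classical
  let K := H7.SmallField.fixedField hF
  let _ : Fintype K := Fintype.ofFinite _
  have hK : Fintype.card K = 3 := by
    rw [← Nat.card_eq_fintype_card]
    exact H7.QuadExt.card_fixed hF
  obtain ⟨σ, P', P'', f, -, -, -⟩ := exists_SU2_model hF hK
  have h3K : (3 : K) = 0 := by
    apply σ.injective
    rw [map_ofNat, map_zero]
    exact three_zero hF
  obtain ⟨A, rfl⟩ := f.surjective u
  refine H6.SLGen.transvection_induction (fun A => P (f A)) ?_ ?_ A
  · intro i j hij c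
    apply h3
    rw [← map_mul, ← map_mul]
    have hne : i ≠ j := hij
    have : Matrix.SpecialLinearGroup.transvection hij c * Matrix.SpecialLinearGroup.transvection hij c *
        Matrix.SpecialLinearGroup.transvection hij c = 1 := by
      apply Subtype.ext
      rw [Matrix.SpecialLinearGroup.coe_mul, Matrix.SpecialLinearGroup.coe_mul, Matrix.SpecialLinearGroup.coe_one,
        Matrix.SpecialLinearGroup.transvection_coe]
      rw [← Matrix.transvection, Matrix.transvection_mul_transvection_same _ _ hne,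
        Matrix.transvection_mul_transvection_same _ _ hne]
      have : c + c + c = 0 := by linear_combination c * h3K
      rw [this, Matrix.transvection_zero]
    rw [this, map_one]
  · intro A B hA hB
    rw [map_mul]
    exact hmul _ _ hA hB

/-- central elements given by `±1` -/
theorem tor_pow (ι : F) (hι : ι ^ 2 = -1) : tor hF ι (iota_norm hι) * tor hF ι (iota_norm hι) = tor hF (-1) (by ring) := by
  apply SU2_ext hF
  · rw [SU2_mul00 hF, mt_tor, mt_tor]
    simp
    linear_combination hι
  · rw [SU2_mul10 hF, mt_tor, mt_tor]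
    simp

end H60.Ph
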