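import Mathlib
import Cfsg.Agent.Lib.H60.PhQ

/-!
Phan systems, part R: automorphisms of `SU 2` over the field with nine elements preserving the torus, and overlaps of
maps of `SU 3`.
-/

set_option autoImplicit false
set_option linter.unusedSectionVars false
set_option linter.unusedVariables false

namespace H60.Ph

open Matrix Cfsg H16.Herm

variable {F : Type*} [Field F] [Fintype F] (hF : Fintype.card F = 3 ^ 2)

include hF

theorem mt_wl00 : mt (wl (q := 3) hF) 0 0 = 0 := by rw [mt_wl]; rfl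
theorem mt_wl10 : mt (wl (q := 3) hF) 1 0 = 1 := by rw [mt_wl]; rfl

/-- **Automorphisms of `SU 2` preserving the torus, nine elements.** -/
theorem aut_SU2_three (θ : MulAut (SU 2 F 3)) (ht : ∀ c hc, ∃ c' hc', θ (tor hF c hc) = tor hF c' hc') :
    ∃ (μ : F) (τ : F ≃+* F), μ * μ ^ 3 = 1 ∧ (τ = RingEquiv.refl F ∨ τ = frobE hF) ∧
      ∀ b, mt (θ b) 0 0 = τ (mt b 0 0) ∧ mt (θ b) 1 0 = μ * τ (mt b 1 0) := by
  have h2 := two_ne hF
  have h3 := three_zero hF
  obtain ⟨ι, hι⟩ := exists_iota hF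
  have hι0 := iota_ne hι
  have hne : (1 : F) ≠ -1 := by
    intro h
    apply h2
    linear_combination h
  obtain ⟨c', hc', hX'⟩ := ht ι (iota_norm hι)
  set X := tor hF ι (iota_norm hι) with hX
  have hX00 : mt X 0 0 = ι := by rw [hX, mt_tor]; rfl
  have hX10 : mt X 1 0 = 0 := by rw [hX, mt_tor]; rfl
  set Y := wl (q := 3) hF with hY
  have hY00 : mt Y 0 0 = 0 := mt_wl00 hF
  have hY10 : mt Y 1 0 = 1 := mt_wl10 hF
  have hXXne : X * X ≠ 1 := by
    intro h
    have h5 := SU2_mul00 hF X X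
    rw [h, mt_one, hX00, hX10] at h5
    simp at h5
    apply hne
    linear_combination h5 + hι
  have hT00 : mt (θ X) 0 0 = c' := by rw [hX', mt_tor]; rfl
  have hT10 : mt (θ X) 1 0 = 0 := by rw [hX', mt_tor]; rfl
  have hc'2 : c' ^ 2 = -1 := by
    have hcc : ∀ d : F, c' = d → d * d = 1 → False := by
      intro d hd hdd
      apply hXXne
      apply θ.injective
      rw [map_mul, map_one]
      apply SU2_ext hF
      · rw [SU2_mul00 hF, hT00, hT10, hd, mt_one]
        simp [hdd]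
      · rw [SU2_mul10 hF, hT00, hT10, mt_one]
        simp
    rcases norm_one_cases hF hι hc' with h | h | h | h
    · exact absurd (hcc 1 h (by ring)) id
    · exact absurd (hcc (-1) h (by ring)) id
    · rw [h]; exact hι
    · rw [h]; linear_combination hι
  obtain ⟨τ, hτ, hτι⟩ : ∃ τ : F ≃+* F, (τ = RingEquiv.refl F ∨ τ = frobE hF) ∧ τ ι = c' := by
    rcases norm_one_cases hF hι hc' with h | h | h | h
    · exfalso
      rw [h] at hc'2
      apply hne
      linear_combination hc'2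
    · exfalso
      rw [h] at hc'2
      apply hne
      linear_combination hc'2
    · exact ⟨RingEquiv.refl F, Or.inl rfl, h.symm⟩
    · refine ⟨frobE hF, Or.inr rfl, ?_⟩
      rw [frobE_apply, h]
      linear_combination ι * hι
  -- the image of `Y`
  have hXYX : X * Y * X = Y := by
    apply SU2_ext hF
    · rw [SU2_mul00 hF, SU2_mul00 hF, SU2_mul10 hF, hX00, hX10, hY00, hY10]
      ring
    · rw [SU2_mul10 hF, SU2_mul00 hF, SU2_mul10 hF, hX00, hX10, hY00, hY10]
      linear_combination (ι ^ 2 - 1) * hι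
  have ha : mt (θ Y) 0 0 = 0 := by
    have h5 := congrArg (fun s => mt (θ s) 0 0) hXYX
    simp only [map_mul] at h5
    rw [SU2_mul00 hF, SU2_mul00 hF, hT00, hT10] at h5
    have h6 : 2 * mt (θ Y) 0 0 = 0 := by linear_combination -h5 + mt (θ Y) 0 0 * hc'2
    exact (mul_eq_zero.mp h6).resolve_left h2
  set μ := mt (θ Y) 1 0 with hμ
  have hμ1 : μ * μ ^ 3 = 1 := by
    have := SU2_col hF (θ Y)
    rw [ha, ← hμ] at this
    linear_combination this
  have hμ0 : μ ≠ 0 := left_ne_zero_of_mul_eq_one hμ1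
  have hD : ∀ i, (![1, μ] : Fin 2 → F) i * (![1, μ] : Fin 2 → F) i ^ 3 = 1 := by
    intro i
    fin_cases i
    · simp
    · exact hμ1
  set Ψ := tW hF ![1, μ] hD τ with hΨ
  have hΨ00 : ∀ b, mt (Ψ b) 0 0 = τ (mt b 0 0) := by
    intro b
    rw [hΨ, mt_tW]
    simp
  have hΨ10 : ∀ b, mt (Ψ b) 1 0 = μ * τ (mt b 1 0) := by
    intro b
    rw [hΨ, mt_tW]
    simp
  let S : Subgroup (SU 2 F 3) := MonoidHom.eqLocus θ.toMonoidHom Ψ
  have hS : ∀ s, s ∈ S ↔ θ s = Ψ s := fun s => Iff.rfl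
  have hXS : X ∈ S := by
    rw [hS]
    apply SU2_ext hF
    · rw [hT00, hΨ00, hX00, hτι]
    · rw [hT10, hΨ10, hX10, map_zero, mul_zero]
  have hYS : Y ∈ S := by
    rw [hS]
    apply SU2_ext hF
    · rw [ha, hΨ00, hY00, map_zero]
    · rw [hΨ10, hY10, map_one, mul_one]
  have hdiag : ∀ s : SU 2 F 3, mt s 1 0 = 0 → s ∈ S := by
    intro s hs
    have hc := SU2_col hF s
    rw [hs] at hc
    have hc2 : mt s 0 0 * mt s 0 0 ^ 3 = 1 := by linear_combination hc
    have hXX00 : mt (X * X) 0 0 = -1 := by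
      rw [SU2_mul00 hF, hX00, hX10]
      linear_combination hι
    have hXX10 : mt (X * X) 1 0 = 0 := by
      rw [SU2_mul10 hF, hX00, hX10]
      ring
    rcases norm_one_cases hF hι hc2 with h | h | h | h
    · have : s = 1 := by
        apply SU2_ext hF
        · rw [h, mt_one]; simp
        · rw [hs, mt_one]; simp
      rw [this]
      exact S.one_mem
    · have : s = X * X := by
        apply SU2_ext hF
        · rw [h, hXX00]
        · rw [hs, hXX10]
      rw [this]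
      exact S.mul_mem hXS hXS
    · have : s = X := by
        apply SU2_ext hF
        · rw [h, hX00]
        · rw [hs, hX10]
      rw [this]
      exact hXS
    · have : s = X * X * X := by
        apply SU2_ext hF
        · rw [h, SU2_mul00 hF, hXX00, hXX10, hX00, hX10]
          ring
        · rw [hs, SU2_mul10 hF, hXX00, hXX10, hX00, hX10]
          ring
      rw [this]
      exact S.mul_mem (S.mul_mem hXS hXS) hXS
  have hanti : ∀ s : SU 2 F 3, mt s 0 0 = 0 → s ∈ S := by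
    intro s hs
    have h5 : s * Y⁻¹ ∈ S := by
      apply hdiag
      rw [SU2_mul10 hF, SU2_inv00 hF, SU2_inv10, hs, hY00]
      ring
    have h6 := S.mul_mem h5 hYS
    rwa [inv_mul_cancel_right] at h6
  have hconj : ∀ s : SU 2 F 3, s * X * s⁻¹ ∈ S ∧ s * Y * s⁻¹ ∈ S := by
    intro s
    have hc := SU2_col hF s
    have eX00 : mt (s * X * s⁻¹) 0 0 = ι * (mt s 0 0 ^ 4 - mt s 1 0 ^ 4) := by
      rw [SU2_mul00 hF, SU2_mul00 hF, SU2_mul10 hF, SU2_inv00 hF, SU2_inv10, hX00, hX10]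
      linear_combination (mt s 1 0 ^ 4 * ι) * hι
    have eX10 : mt (s * X * s⁻¹) 1 0 = 2 * ι * mt s 0 0 ^ 3 * mt s 1 0 := by
      rw [SU2_mul10 hF, SU2_mul00 hF, SU2_mul10 hF, SU2_inv00 hF, SU2_inv10, hX00, hX10]
      linear_combination (-mt s 0 0 ^ 3 * mt s 1 0 * ι) * hι
    have p9 : mt s 0 0 ^ 9 = mt s 0 0 := by
      have := pow_q_pow_q hF (mt s 0 0)
      rw [← pow_mul] at this
      exact this
    have p9' : mt s 1 0 ^ 9 = mt s 1 0 := by
      have := pow_q_pow_q hF (mt s 1 0)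
      rw [← pow_mul] at this
      exact this
    have eY00 : mt (s * Y * s⁻¹) 0 0 = mt s 0 0 * mt s 1 0 - mt s 0 0 ^ 3 * mt s 1 0 ^ 3 := by
      rw [SU2_mul00 hF, SU2_mul00 hF, SU2_mul10 hF, SU2_inv00 hF, SU2_inv10, hY00, hY10]
      linear_combination mt s 1 0 * p9
    have eY10 : mt (s * Y * s⁻¹) 1 0 = mt s 0 0 ^ 6 + mt s 1 0 ^ 2 := by
      rw [SU2_mul10 hF, SU2_mul00 hF, SU2_mul10 hF, SU2_inv00 hF, SU2_inv10, hY00, hY10]
      linear_combination mt s 1 0 * p9'
    by_cases h0 : mt s 0 0 = 0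
    · exact ⟨hdiag _ (by rw [eX10, h0]; ring), hanti _ (by rw [eY00, h0]; ring)⟩
    by_cases h1 : mt s 1 0 = 0
    · exact ⟨hdiag _ (by rw [eX10, h1]; ring), hanti _ (by rw [eY00, h1]; ring)⟩
    have ha4 : mt s 0 0 ^ 4 = -1 := by
      rcases pow4_cases hF h0 with h | h
      · exfalso
        have : mt s 1 0 ^ 4 = 0 := by linear_combination hc - h
        exact h1 (pow_eq_zero_iff (by norm_num) |>.mp this)
      · exact h
    have hb4 : mt s 1 0 ^ 4 = -1 := by
      linear_combination hc - ha4 + h3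
    refine ⟨hanti _ (by rw [eX00, ha4, hb4]; ring), ?_⟩
    have hab : (mt s 0 0 * mt s 1 0) ^ 2 * (mt s 0 0 * mt s 1 0) ^ 2 = 1 := by
      linear_combination (mt s 1 0 ^ 4) * ha4 - hb4
    rcases mul_self_eq_one_iff.mp hab with h | h
    · apply hanti
      rw [eY00]
      linear_combination (-(mt s 0 0 * mt s 1 0)) * h
    · apply hdiag
      rw [eY10]
      have h5 : mt s 0 0 ^ 2 * (mt s 0 0 ^ 6 + mt s 1 0 ^ 2) = 0 := by
        linear_combination h + (mt s 0 0 ^ 4 - 1) * ha4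
      exact (mul_eq_zero.mp h5).resolve_left (pow_ne_zero _ h0)
  refine ⟨μ, τ, hμ1, hτ, fun b => ?_⟩
  have hall : ∀ s, s ∈ S := by
    apply SU2_ind hF
    · intro s hs3
      obtain ⟨D, hDdef⟩ : ∃ D, D = (Ψ s)⁻¹ * θ s := ⟨_, rfl⟩
      have hcomm : ∀ w, w ∈ S → s * w * s⁻¹ ∈ S → D * Ψ w = Ψ w * D := by
        intro w hw hsw
        rw [hS] at hw hsw
        rw [map_mul, map_mul, map_mul, map_mul, map_inv, map_inv, hw] at hsw
        rw [hDdef]
        calc (Ψ s)⁻¹ * θ s * Ψ w = (Ψ s)⁻¹ * (θ s * Ψ w * (θ s)⁻¹) * θ s := by group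
          _ = Ψ w * ((Ψ s)⁻¹ * θ s) := by rw [hsw]; group
      have c1 := hcomm X hXS (hconj s).1
      have c2 := hcomm Y hYS (hconj s).2
      have hΨX00 : mt (Ψ X) 0 0 = c' := by rw [hΨ00, hX00, hτι]
      have hΨX10 : mt (Ψ X) 1 0 = 0 := by rw [hΨ10, hX10, map_zero, mul_zero]
      have hΨY00 : mt (Ψ Y) 0 0 = 0 := by rw [hΨ00, hY00, map_zero]
      have hΨY10 : mt (Ψ Y) 1 0 = μ := by rw [hΨ10, hY10, map_one, mul_one]
      have hc'0 : c' ≠ 0 := left_ne_zero_of_mul_eq_one hc'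
      have hD10 : mt D 1 0 = 0 := by
        have h5 : mt (D * Ψ X) 1 0 = mt (Ψ X * D) 1 0 := by rw [c1]
        rw [SU2_mul10 hF, SU2_mul10 hF, hΨX00, hΨX10] at h5
        have h6 : 2 * c' * mt D 1 0 = 0 := by linear_combination h5 + c' * mt D 1 0 * hc'2
        exact (mul_eq_zero.mp h6).resolve_left (mul_ne_zero h2 hc'0)
      have hD3 : mt D 0 0 ^ 3 = mt D 0 0 := by
        have h5 : mt (D * Ψ Y) 1 0 = mt (Ψ Y * D) 1 0 := by rw [c2]
        rw [SU2_mul10 hF, SU2_mul10 hF, hΨY00, hΨY10, hD10] at h5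
        apply mul_right_cancel₀ hμ0
        linear_combination h5
      have hDc := SU2_col hF D
      rw [hD10] at hDc
      have hD2 : mt D 0 0 * mt D 0 0 = 1 := by linear_combination hDc - mt D 0 0 * hD3
      have hDD : D * D = 1 := by
        apply SU2_ext hF
        · rw [SU2_mul00 hF, hD10, mt_one]
          simp [hD2]
        · rw [SU2_mul10 hF, hD10, mt_one]
          simp
      have hDcen : D * Ψ s = Ψ s * D := by
        apply SU2_ext hF
        · rw [SU2_mul00 hF, SU2_mul00 hF, hD10]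
          ring
        · rw [SU2_mul10 hF, SU2_mul10 hF, hD10, hD3]
          ring
      have hθs : θ s = Ψ s * D := by rw [hDdef, mul_inv_cancel_left]
      have e1 : θ s ^ 3 = 1 := by rw [pow_three', ← map_mul, ← map_mul, hs3, map_one]
      have e2 : Ψ s ^ 3 = 1 := by rw [pow_three', ← map_mul, ← map_mul, hs3, map_one]
      have hcc : Commute (Ψ s) D := hDcen.symm
      have e3 : θ s ^ 3 = Ψ s ^ 3 * D ^ 3 := by
        rw [hθs]
        exact hcc.mul_pow 3
      rw [e1, e2, pow_three', hDD, one_mul, one_mul] at e3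
      rw [hS, hθs, ← e3, mul_one]
    · exact fun u v hu hv => S.mul_mem hu hv
  have := (hS b).mp (hall b)
  rw [this]
  exact ⟨hΨ00 b, hΨ10 b⟩

/-- overlapping maps of `SU 3` with the same blocks differ by a twist -/
theorem exists_overlap {G : Type*} [Group G] (α β : SU 3 F 3 →* G) (hα : Function.Injective α)
    (hβ : Function.Injective β)
    (h1 : (α.comp (emb hF (hd (by omega : 2 ≤ 3)))).range = (β.comp (emb hF (hd (by omega : 2 ≤ 3)))).range)
    (h2 : (α.comp (emb hF (tl 2))).range = (β.comp (emb hF (tl 2))).range) :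
    ∃ (μ₁ μ₂ : F) (τ : F ≃+* F) (hD : ∀ i, (![1, μ₁, μ₁ * μ₂] : Fin 3 → F) i * (![1, μ₁, μ₁ * μ₂] : Fin 3 → F) i ^ 3 = 1),
      μ₁ * μ₁ ^ 3 = 1 ∧ μ₂ * μ₂ ^ 3 = 1 ∧ ∀ x, α x = β (tW hF ![1, μ₁, μ₁ * μ₂] hD τ x) := by
  have h2' := two_ne hF
  obtain ⟨ι, hι⟩ := exists_iota hF
  have hι0 := iota_ne hι
  have mk : ∀ (ε : Fin 2 ↪ Fin 3), (α.comp (emb hF ε)).range = (β.comp (emb hF ε)).range →
      ∃ θ : MulAut (SU 2 F 3), ∀ b, β (emb hF ε (θ b)) = α (emb hF ε b) := by
    intro ε hε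
    have hα' : Function.Injective (α.comp (emb hF ε)) := hα.comp (emb_injective hF ε)
    have hβ' : Function.Injective (β.comp (emb hF ε)) := hβ.comp (emb_injective hF ε)
    let θ : MulAut (SU 2 F 3) := ((MonoidHom.ofInjective hα').trans (MulEquiv.subgroupCongr hε)).trans (MonoidHom.ofInjective hβ').symm
    refine ⟨θ, fun b => ?_⟩
    have e1 : (MonoidHom.ofInjective hβ') (θ b) = (MulEquiv.subgroupCongr hε) ((MonoidHom.ofInjective hα') b) := by
      simp [θ]
    exact congrArg Subtype.val e1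
  obtain ⟨θ₁, hθ₁⟩ := mk _ h1
  obtain ⟨θ₂, hθ₂⟩ := mk _ h2
  have hm1 : (-1 : F) * (-1) ^ 3 = 1 := by ring
  set z := tor hF (-1) hm1 with hz
  have hz00 : mt z 0 0 = -1 := by rw [hz, mt_tor]; rfl
  have hz10 : mt z 1 0 = 0 := by rw [hz, mt_tor]; rfl
  have hzz : z * z = 1 := by
    apply SU2_ext hF
    · rw [SU2_mul00 hF, hz00, hz10, mt_one]; simp
    · rw [SU2_mul10 hF, hz00, hz10, mt_one]; simp
  have hz1 : z ≠ 1 := by
    intro h
    have := congrArg (fun s => mt s 0 0) h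
    simp only [hz00, mt_one] at this
    simp at this
    apply h2'
    linear_combination -this
  have hθz : ∀ θ : MulAut (SU 2 F 3), θ z = z := by
    intro θ
    obtain ⟨e0, e1⟩ := SU2_invol hF h2' (θ z) (by rw [← map_mul, hzz, map_one]) (by
      intro h
      apply hz1
      apply θ.injective
      rw [h, map_one])
    apply SU2_ext hF
    · rw [e0, hz00]
    · rw [e1, hz10]
  have hzhd : β (emb hF (hd (by omega : 2 ≤ 3)) z) = α (emb hF (hd (by omega : 2 ≤ 3)) z) := by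
    have := hθ₁ z
    rwa [hθz] at this
  have hztl : β (emb hF (tl 2) z) = α (emb hF (tl 2) z) := by
    have := hθ₂ z
    rwa [hθz] at this
  have mz01 : mt z 0 1 = 0 := by rw [SU2_01 hF, hz10]; simp
  have mz11 : mt z 1 1 = -1 := by rw [SU2_11 hF, hz00]; ring
  -- the tori are preserved
  have t1 : ∀ c hc, ∃ c' hc', θ₁ (tor hF c hc) = tor hF c' hc' := by
    intro c hc
    set s := θ₁ (tor hF c hc) with hs
    have hcom : α (emb hF (hd (by omega : 2 ≤ 3)) (tor hF c hc)) * α (emb hF (tl 2) z) =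
        α (emb hF (tl 2) z) * α (emb hF (hd (by omega : 2 ≤ 3)) (tor hF c hc)) := by
      rw [← map_mul, ← map_mul]
      congr 1
      apply mt_inj
      rw [mt_mul, mt_mul, mt_emb_hd_three, mt_emb_tl_three, hz00, hz10, mz01, mz11, mt_tor]
      ext i j
      rw [Matrix.mul_apply, Matrix.mul_apply, Fin.sum_univ_three, Fin.sum_univ_three]
      fin_cases i <;> fin_cases j <;> simp
    rw [← hθ₁, ← hztl, ← hs, ← map_mul, ← map_mul] at hcom
    have h5 := congrArg mt (hβ hcom)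
    rw [mt_mul, mt_mul, mt_emb_hd_three, mt_emb_tl_three, hz00, hz10, mz01, mz11] at h5
    have h6 := congrFun (congrFun h5 1) 0
    rw [Matrix.mul_apply, Matrix.mul_apply, Fin.sum_univ_three, Fin.sum_univ_three] at h6
    simp at h6
    have h10 : mt s 1 0 = 0 := by
      have h7 : 2 * mt s 1 0 = 0 := by linear_combination h6
      exact (mul_eq_zero.mp h7).resolve_left h2'
    have hcol := SU2_col hF s
    rw [h10] at hcol
    refine ⟨mt s 0 0, by linear_combination hcol, ?_⟩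
    apply SU2_ext hF
    · rw [mt_tor]; rfl
    · rw [mt_tor, h10]; rfl
  have t2 : ∀ c hc, ∃ c' hc', θ₂ (tor hF c hc) = tor hF c' hc' := by
    intro c hc
    set s := θ₂ (tor hF c hc) with hs
    have hcom : α (emb hF (tl 2) (tor hF c hc)) * α (emb hF (hd (by omega : 2 ≤ 3)) z) =
        α (emb hF (hd (by omega : 2 ≤ 3)) z) * α (emb hF (tl 2) (tor hF c hc)) := by
      rw [← map_mul, ← map_mul]
      congr 1
      apply mt_inj
      rw [mt_mul, mt_mul, mt_emb_hd_three, mt_emb_tl_three, hz00, hz10, mz01, mz11, mt_tor]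
      ext i j
      rw [Matrix.mul_apply, Matrix.mul_apply, Fin.sum_univ_three, Fin.sum_univ_three]
      fin_cases i <;> fin_cases j <;> simp
    rw [← hθ₂, ← hzhd, ← hs, ← map_mul, ← map_mul] at hcom
    have h5 := congrArg mt (hβ hcom)
    rw [mt_mul, mt_mul, mt_emb_hd_three, mt_emb_tl_three, hz00, hz10, mz01, mz11] at h5
    have h6 := congrFun (congrFun h5 2) 1
    rw [Matrix.mul_apply, Matrix.mul_apply, Fin.sum_univ_three, Fin.sum_univ_three] at h6
    simp at h6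
    have h10 : mt s 1 0 = 0 := by
      have h7 : 2 * mt s 1 0 = 0 := by linear_combination -h6
      exact (mul_eq_zero.mp h7).resolve_left h2'
    have hcol := SU2_col hF s
    rw [h10] at hcol
    refine ⟨mt s 0 0, by linear_combination hcol, ?_⟩
    apply SU2_ext hF
    · rw [mt_tor]; rfl
    · rw [mt_tor, h10]; rfl
  obtain ⟨μ₁, τ₁, hμ₁, hτ₁, e₁⟩ := aut_SU2_three hF θ₁ t1
  obtain ⟨μ₂, τ₂, hμ₂, hτ₂, e₂⟩ := aut_SU2_three hF θ₂ t2
  have hμ₁0 : μ₁ ≠ 0 := left_ne_zero_of_mul_eq_one hμ₁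
  have hμ₂0 : μ₂ ≠ 0 := left_ne_zero_of_mul_eq_one hμ₂
  -- equality of the field automorphisms
  have hττ : τ₁ ι = τ₂ ι := by
    set Y := wl (q := 3) hF with hY
    have hY00 : mt Y 0 0 = 0 := mt_wl00 hF
    have hY10 : mt Y 1 0 = 1 := mt_wl10 hF
    have hιn := iota_norm hι
    set Y' : SU 2 F 3 := su2 hF 0 ι (by linear_combination hιn) with hY'
    have hY'00 : mt Y' 0 0 = 0 := rfl
    have hY'10 : mt Y' 1 0 = ι := rfl
    have r1 := torus_conj' hF ι hιn Y Y' (by rw [hY00, hY'00]) (by rw [hY10, hY'10, mul_one])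
    have r2 := congrArg α r1
    rw [map_mul, map_mul, ← hθ₁, ← hθ₂, ← hθ₂, ← map_mul, ← map_mul] at r2
    have r3 := hβ r2
    have hτn : τ₁ ι * (τ₁ ι) ^ 3 = 1 := by rw [← map_pow, ← map_mul, hιn, map_one]
    have hθX : θ₁ (tor hF ι hιn) = tor hF (τ₁ ι) hτn := by
      apply SU2_ext hF
      · rw [(e₁ _).1, mt_tor, mt_tor]; rfl
      · rw [(e₁ _).2, mt_tor, mt_tor]; simp
    rw [hθX] at r3
    have hnn : (τ₁ ι * μ₂) * (τ₁ ι * μ₂) ^ 3 = 1 := by
      rw [mul_pow]
      linear_combination (μ₂ * μ₂ ^ 3) * hτn + hμ₂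
    set W : SU 2 F 3 := su2 hF 0 (τ₁ ι * μ₂) (by linear_combination hnn) with hW
    have r4 := torus_conj' hF (τ₁ ι) hτn (θ₂ Y) W (by rw [(e₂ Y).1, hY00, map_zero]; rfl) (by
      rw [(e₂ Y).2, hY10, map_one, mul_one]; rfl)
    rw [r4] at r3
    have r5 := emb_injective hF (tl 2) (mul_right_cancel r3)
    have r6 : mt (θ₂ Y') 1 0 = mt W 1 0 := by rw [r5]
    rw [(e₂ Y').2, hY'10] at r6
    have hW10 : mt W 1 0 = τ₁ ι * μ₂ := rfl
    rw [hW10] at r6
    apply mul_right_cancel₀ hμ₂0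
    rw [← r6, mul_comm]
  have hτeq : τ₁ = τ₂ := by
    have hne : (RingEquiv.refl F) ι ≠ (frobE hF) ι := by
      intro h
      rw [frobE_apply] at h
      have h5 : ι = ι ^ 3 := h
      have h6 : 2 * ι = 0 := by linear_combination h5 + ι * hι
      exact (mul_ne_zero h2' hι0) h6
    rcases hτ₁ with h | h <;> rcases hτ₂ with h' | h'
    · rw [h, h']
    · rw [h, h'] at hττ; exact absurd hττ hne
    · rw [h, h'] at hττ; exact absurd hττ.symm hne
    · rw [h, h']
  subst hτeq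
  have hμμ : (μ₁ * μ₂) * (μ₁ * μ₂) ^ 3 = 1 := by
    rw [mul_pow]
    linear_combination (μ₂ * μ₂ ^ 3) * hμ₁ + hμ₂
  have hD : ∀ i, (![1, μ₁, μ₁ * μ₂] : Fin 3 → F) i * (![1, μ₁, μ₁ * μ₂] : Fin 3 → F) i ^ 3 = 1 := by
    intro i
    fin_cases i
    · simp
    · exact hμ₁
    · exact hμμ
  refine ⟨μ₁, μ₂, τ₁, hD, hμ₁, hμ₂, ?_⟩
  have k1 : ∀ b, α (emb hF (hd (by omega : 2 ≤ 3)) b) = β (tW hF ![1, μ₁, μ₁ * μ₂] hD τ₁ (emb hF (hd (by omega : 2 ≤ 3)) b)) := by
    intro b
    rw [← hθ₁, tW_emb]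
    congr 2
    apply SU2_ext hF
    · rw [(e₁ b).1, mt_tW]
      simp [hd]
    · rw [(e₁ b).2, mt_tW]
      simp [hd]
  have k2 : ∀ b, α (emb hF (tl 2) b) = β (tW hF ![1, μ₁, μ₁ * μ₂] hD τ₁ (emb hF (tl 2) b)) := by
    intro b
    rw [← hθ₂, tW_emb]
    congr 2
    apply SU2_ext hF
    · rw [(e₂ b).1, mt_tW]
      simp [tl]
      linear_combination (-τ₁ (mt b 0 0)) * hμ₁
    · rw [(e₂ b).2, mt_tW]
      simp [tl]
      linear_combination (-μ₂ * τ₁ (mt b 1 0)) * hμ₁
  intro x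
  obtain ⟨a, a', a'', b, b', _, _, rfl⟩ := exists_fac_all hF (by omega) (n := 1) (by omega) x
  simp only [map_mul] at k1 k2 ⊢
  rw [k1, k1, k2, k2, k2]

end H60.Ph
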