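import Mathlib
import Cfsg.Agent.Lib.H60.PhR

/-!
Phan systems, part S: gluing maps of `SU 4`, nine elements.
-/

set_option autoImplicit false
set_option linter.unusedSectionVars false
set_option linter.unusedVariables false

namespace H60.Ph

open Matrix Cfsg H16.Herm

variable {F : Type*} [Field F] [Fintype F]

/-- the middle embedding of two in four -/
abbrev md : Fin 2 ↪ Fin 4 := (tl 2).trans (hd (by omega : 3 ≤ 4))

/-- the last embedding of two in four -/
abbrev tt : Fin 2 ↪ Fin 4 := (tl 2).trans (tl 3)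

theorem md_eq : (hd (by omega : 2 ≤ 3)).trans (tl 3) = md := by
  ext i
  rfl

theorem tW_congr {q n : ℕ} (hF : Fintype.card F = q ^ 2) {D D' : Fin n → F} (h : D = D') (hD : ∀ i, D i * D i ^ q = 1)
    (hD' : ∀ i, D' i * D' i ^ q = 1) (τ : F ≃+* F) (A : SU n F q) : tW hF D hD τ A = tW hF D' hD' τ A := by
  subst h
  rfl

theorem range_tw {q n m : ℕ} (hF : Fintype.card F = q ^ 2) {G : Type*} [Group G] (γ : SU n F q →* G) (D : Fin n → F)
    (hD : ∀ i, D i * D i ^ q = 1) (τ : F ≃+* F) (ε : Fin m ↪ Fin n) :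
    ((γ.comp (tW hF D hD τ)).comp (emb hF ε)).range = (γ.comp (emb hF ε)).range := by
  ext u
  constructor
  · rintro ⟨b, rfl⟩
    refine ⟨tW hF (D ∘ ε) (fun i => hD (ε i)) τ b, ?_⟩
    simp only [MonoidHom.comp_apply, tW_emb]
  · rintro ⟨b, rfl⟩
    obtain ⟨b', rfl⟩ := tW_surjective hF (D ∘ ε) (fun i => hD (ε i)) τ b
    refine ⟨b', ?_⟩
    simp only [MonoidHom.comp_apply, tW_emb]

variable (hF : Fintype.card F = 3 ^ 2)

/-- the hypotheses on the maps -/
structure PhanData4 {G : Type*} [Group G] (n : ℕ) (U : Fin (n + 3) → Subgroup G) (γ : Fin (n + 1) → (SU 4 F 3 →* G)) :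
    Prop where
  b0 : ∀ i, ((γ i).comp (emb hF (hd (by omega : 2 ≤ 4)))).range = U i.castSucc.castSucc
  b1 : ∀ i, ((γ i).comp (emb hF md)).range = U i.succ.castSucc
  b2 : ∀ i, ((γ i).comp (emb hF tt)).range = U i.succ.succ
  j1 : ∀ i, Function.Injective ((γ i).comp (emb hF (hd (by omega : 3 ≤ 4))))
  j2 : ∀ i, Function.Injective ((γ i).comp (emb hF (tl 3)))
  hc : ∀ i j : Fin (n + 3), (i : ℕ) + 2 ≤ j → ∀ x ∈ U i, ∀ y ∈ U j, x * y = y * x

theorem mem_of_blocks3 {G : Type*} [Group G] (K : Subgroup G) (φ : SU 3 F 3 →* G)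
    (h0 : ∀ b, φ (emb hF (hd (by omega : 2 ≤ 3)) b) ∈ K) (h1 : ∀ b, φ (emb hF (tl 2) b) ∈ K) (y : SU 3 F 3) : φ y ∈ K := by
  obtain ⟨a, a', a'', b, b', _, _, rfl⟩ := exists_fac_all hF (by omega) (n := 1) (by omega) y
  simp only [map_mul]
  exact mul_mem (mul_mem (mul_mem (mul_mem (h1 a) (h0 b)) (h1 a')) (h0 b')) (h1 a'')

theorem mem_of_blocks {G : Type*} [Group G] {n : ℕ} (hn : 1 ≤ n) (K : Subgroup G) (φ : SU (n + 2) F 3 →* G)
    (h0 : ∀ b, φ (emb hF (hd (by omega : 2 ≤ n + 2)) b) ∈ K) (h1 : ∀ b, φ (emb hF (tl (n + 1)) b) ∈ K) (y : SU (n + 2) F 3) :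
    φ y ∈ K := by
  obtain ⟨a, a', a'', b, b', _, _, rfl⟩ := exists_fac_all hF (by omega) hn y
  simp only [map_mul]
  exact mul_mem (mul_mem (mul_mem (mul_mem (h1 a) (h0 b)) (h1 a')) (h0 b')) (h1 a'')

theorem emb_hd_hd {q : ℕ} (hF : Fintype.card F = q ^ 2) {n : ℕ} (hn : 3 ≤ n) (b : SU 2 F q) :
    emb hF (hd hn) (emb hF (hd (by omega : 2 ≤ 3)) b) = emb hF (hd (by omega : 2 ≤ n)) b := by
  rw [emb_emb]
  rfl

theorem emb_tl_hd {q : ℕ} (hF : Fintype.card F = q ^ 2) (b : SU 2 F q) :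
    emb hF (tl 3) (emb hF (hd (by omega : 2 ≤ 3)) b) = emb hF md b := by
  rw [emb_emb, md_eq]

theorem emb_hd_tl {q : ℕ} (hF : Fintype.card F = q ^ 2) (b : SU 2 F q) :
    emb hF (hd (by omega : 3 ≤ 4)) (emb hF (tl 2) b) = emb hF md b := by
  rw [emb_emb]

theorem emb_tl_tl {q : ℕ} (hF : Fintype.card F = q ^ 2) (b : SU 2 F q) :
    emb hF (tl 3) (emb hF (tl 2) b) = emb hF tt b := by
  rw [emb_emb]

theorem exists_glued4 {G : Type*} [Group G] (n : ℕ) (U : Fin (n + 3) → Subgroup G)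
    (γ : Fin (n + 1) → (SU 4 F 3 →* G)) (H : PhanData4 hF n U γ) :
    ∃ f : SU (n + 4) F 3 →* G, (∀ y, f y ∈ ⨆ i, U i) ∧ (∀ i, U i ≤ f.range) ∧
      (∀ c : SU (n + 3) F 3, f (emb hF (tl (n + 3)) c) ∈ ⨆ i : Fin (n + 2), U i.succ) ∧
      Function.Injective (f.comp (emb hF (hd (by omega : 3 ≤ n + 4)))) ∧
      ((f.comp (emb hF (hd (by omega : 3 ≤ n + 4)))).comp (emb hF (hd (by omega : 2 ≤ 3)))).range = U 0 ∧
      ((f.comp (emb hF (hd (by omega : 3 ≤ n + 4)))).comp (emb hF (tl 2))).range = U 1 := by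
  induction n with
  | zero =>
    have e0 : ∀ b, γ 0 (emb hF (hd (by omega : 2 ≤ 4)) b) ∈ U 0 := by
      intro b
      have := H.b0 0
      rw [show (U 0) = U (0 : Fin 1).castSucc.castSucc from rfl, ← this]
      exact ⟨b, rfl⟩
    have e1 : ∀ b, γ 0 (emb hF md b) ∈ U 1 := by
      intro b
      have := H.b1 0
      rw [show (U 1) = U (0 : Fin 1).succ.castSucc from rfl, ← this]
      exact ⟨b, rfl⟩
    have e2 : ∀ b, γ 0 (emb hF tt b) ∈ U 2 := by
      intro b
      have := H.b2 0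
      rw [show (U 2) = U (0 : Fin 1).succ.succ from rfl, ← this]
      exact ⟨b, rfl⟩
    have k1 : ∀ c : SU 3 F 3, γ 0 (emb hF (tl 3) c) ∈ ⨆ i : Fin 2, U i.succ := by
      intro c
      refine mem_of_blocks3 hF _ ((γ 0).comp (emb hF (tl 3))) ?_ ?_ c
      · intro b
        rw [MonoidHom.comp_apply, emb_tl_hd]
        exact Subgroup.mem_iSup_of_mem 0 (e1 b)
      · intro b
        rw [MonoidHom.comp_apply, emb_tl_tl]
        exact Subgroup.mem_iSup_of_mem 1 (e2 b)
    have hle : (⨆ i : Fin 2, U i.succ) ≤ ⨆ i, U i := iSup_le fun i => le_iSup U i.succ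
    refine ⟨γ 0, ?_, ?_, k1, H.j1 0, ?_, ?_⟩
    · intro y
      refine mem_of_blocks hF (n := 2) (by omega) _ (γ 0) ?_ ?_ y
      · intro b
        exact Subgroup.mem_iSup_of_mem 0 (e0 b)
      · intro b
        exact hle (k1 b)
    · intro i
      fin_cases i
      · rw [show U ((fun i => i) ⟨0, by omega⟩) = U (0 : Fin 1).castSucc.castSucc from rfl, ← H.b0 0]
        rintro _ ⟨b, rfl⟩
        exact ⟨_, rfl⟩
      · rw [show U ((fun i => i) ⟨1, by omega⟩) = U (0 : Fin 1).succ.castSucc from rfl, ← H.b1 0]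
        rintro _ ⟨b, rfl⟩
        exact ⟨_, rfl⟩
      · rw [show U ((fun i => i) ⟨2, by omega⟩) = U (0 : Fin 1).succ.succ from rfl, ← H.b2 0]
        rintro _ ⟨b, rfl⟩
        exact ⟨_, rfl⟩
    · have : ((γ 0).comp (emb hF (hd (by omega : 3 ≤ 0 + 4)))).comp (emb hF (hd (by omega : 2 ≤ 3))) =
          (γ 0).comp (emb hF (hd (by omega : 2 ≤ 4))) := by
        ext b
        rw [MonoidHom.comp_apply, MonoidHom.comp_apply, MonoidHom.comp_apply, emb_hd_hd]
      rw [this]
      exact H.b0 0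
    · have : ((γ 0).comp (emb hF (hd (by omega : 3 ≤ 0 + 4)))).comp (emb hF (tl 2)) =
          (γ 0).comp (emb hF md) := by
        ext b
        rw [MonoidHom.comp_apply, MonoidHom.comp_apply, MonoidHom.comp_apply, ← emb_hd_tl]
      rw [this]
      exact H.b1 0
  | succ n ih =>
    have H' : PhanData4 hF n (fun i => U i.succ) (fun i => γ i.succ) :=
      { b0 := fun i => H.b0 i.succ
        b1 := fun i => H.b1 i.succ
        b2 := fun i => H.b2 i.succ
        j1 := fun i => H.j1 i.succ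
        j2 := fun i => H.j2 i.succ
        hc := fun i j hij => H.hc i.succ j.succ (by simp; omega) }
    obtain ⟨f, f1, f2, f3, f4, f5, f6⟩ := ih _ _ H'
    have hα1 : ((f.comp (emb hF (hd (by omega : 3 ≤ n + 4)))).comp (emb hF (hd (by omega : 2 ≤ 3)))).range =
        (((γ 0).comp (emb hF (tl 3))).comp (emb hF (hd (by omega : 2 ≤ 3)))).range := by
      have e : ((γ 0).comp (emb hF (tl 3))).comp (emb hF (hd (by omega : 2 ≤ 3))) = (γ 0).comp (emb hF md) := by
        ext b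
        rw [MonoidHom.comp_apply, MonoidHom.comp_apply, MonoidHom.comp_apply, emb_tl_hd]
      rw [f5, e]
      exact (H.b1 0).symm
    have hα2 : ((f.comp (emb hF (hd (by omega : 3 ≤ n + 4)))).comp (emb hF (tl 2))).range =
        (((γ 0).comp (emb hF (tl 3))).comp (emb hF (tl 2))).range := by
      have e : ((γ 0).comp (emb hF (tl 3))).comp (emb hF (tl 2)) = (γ 0).comp (emb hF tt) := by
        ext b
        rw [MonoidHom.comp_apply, MonoidHom.comp_apply, MonoidHom.comp_apply, emb_tl_tl]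
      rw [f6, e]
      exact (H.b2 0).symm
    obtain ⟨μ₁, μ₂, τ, hD, hμ₁, hμ₂, hov⟩ := exists_overlap hF _ _ f4 (H.j2 0) hα1 hα2
    have hD4 : ∀ i, (![1, 1, μ₁, μ₁ * μ₂] : Fin 4 → F) i * (![1, 1, μ₁, μ₁ * μ₂] : Fin 4 → F) i ^ 3 = 1 := by
      intro i
      fin_cases i
      · simp
      · simp
      · exact hμ₁
      · exact hD 2
    set g : SU 4 F 3 →* G := (γ 0).comp (tW hF ![1, 1, μ₁, μ₁ * μ₂] hD4 τ) with hg
    have hgtl : ∀ a : SU 3 F 3, g (emb hF (tl 3) a) = f (emb hF (hd (by omega : 3 ≤ n + 4)) a) := by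
      intro a
      have h1 := hov a
      rw [MonoidHom.comp_apply] at h1
      rw [h1, hg, MonoidHom.comp_apply, MonoidHom.comp_apply, tW_emb]
      congr 2
    have hg0 : (g.comp (emb hF (hd (by omega : 2 ≤ 4)))).range = U 0 := by
      rw [hg, range_tw]
      exact H.b0 0
    have hg1 : (g.comp (emb hF md)).range = U 1 := by
      rw [hg, range_tw]
      exact H.b1 0
    have hgU : ∀ b, g (emb hF (hd (by omega : 2 ≤ 4)) b) ∈ U 0 := by
      intro b
      rw [← hg0]
      exact ⟨b, rfl⟩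
    obtain ⟨h, hh1, hh2⟩ := exists_extension4 hF (by omega) (two_ne hF) (m := n + 3) (by omega) f g
      (fun a => (hgtl a).symm) (by
        intro b c
        have k1 := hgU b
        have k2 := f3 c
        have hcen : (⨆ i : Fin (n + 2), U i.succ.succ) ≤ Subgroup.centralizer ((U 0 : Subgroup G) : Set G) := by
          rw [iSup_le_iff]
          intro i y hy
          rw [Subgroup.mem_centralizer_iff]
          intro x hx
          exact H.hc 0 i.succ.succ (by simp) x hx y hy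
        exact Subgroup.mem_centralizer_iff.mp (hcen k2) _ k1)
    have hhd : ∀ b, h (emb hF (hd (by omega : 2 ≤ n + 1 + 4)) b) = g (emb hF (hd (by omega : 2 ≤ 4)) b) := by
      intro b
      rw [← hh2, emb_emb]
      rfl
    have hh3 : ∀ x : SU 3 F 3, h (emb hF (hd (by omega : 3 ≤ n + 1 + 4)) x) = g (emb hF (hd (by omega : 3 ≤ 4)) x) := by
      intro b
      rw [← hh2, emb_emb]
      rfl
    have hle : (⨆ i : Fin (n + 3), U i.succ) ≤ ⨆ i, U i := iSup_le fun i => le_iSup U i.succ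
    refine ⟨h, ?_, ?_, ?_, ?_, ?_, ?_⟩
    · intro y
      refine mem_of_blocks hF (n := n + 3) (by omega) _ h ?_ ?_ y
      · intro b
        rw [hhd]
        exact Subgroup.mem_iSup_of_mem 0 (hgU b)
      · intro b
        rw [hh1]
        exact hle (f1 b)
    · intro i
      refine Fin.cases ?_ (fun i => ?_) i
      · intro u hu
        rw [← hg0] at hu
        obtain ⟨b, hb⟩ := hu
        exact ⟨emb hF (hd (by omega : 2 ≤ n + 1 + 4)) b, by rw [hhd]; exact hb⟩
      · intro u hu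
        obtain ⟨y, hy⟩ := f2 i hu
        exact ⟨emb hF (tl (n + 4)) y, by rw [hh1]; exact hy⟩
    · intro c
      rw [hh1]
      exact f1 c
    · have e : h.comp (emb hF (hd (by omega : 3 ≤ n + 1 + 4))) = ((γ 0).comp (emb hF (hd (by omega : 3 ≤ 4)))).comp
          (tW hF (![1, 1, μ₁, μ₁ * μ₂] ∘ (hd (by omega : 3 ≤ 4))) (fun i => hD4 _) τ) := by
        ext x
        rw [MonoidHom.comp_apply, hh3, hg, MonoidHom.comp_apply, tW_emb]
        rfl
      rw [e]
      exact (H.j1 0).comp (tW_injective hF _ _ _)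
    · have e : (h.comp (emb hF (hd (by omega : 3 ≤ n + 1 + 4)))).comp (emb hF (hd (by omega : 2 ≤ 3))) =
          g.comp (emb hF (hd (by omega : 2 ≤ 4))) := by
        ext b
        show h (emb hF (hd (by omega : 3 ≤ n + 1 + 4)) (emb hF (hd (by omega : 2 ≤ 3)) b)) =
          g (emb hF (hd (by omega : 2 ≤ 4)) b)
        rw [hh3, emb_hd_hd]
      rw [e]
      exact hg0
    · have e : (h.comp (emb hF (hd (by omega : 3 ≤ n + 1 + 4)))).comp (emb hF (tl 2)) = g.comp (emb hF md) := by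
        ext b
        show h (emb hF (hd (by omega : 3 ≤ n + 1 + 4)) (emb hF (tl 2) b)) = g (emb hF md b)
        rw [hh3, emb_hd_tl]
      rw [e]
      exact hg1

end H60.Ph
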