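import Mathlib
import Cfsg.Agent.Lib.H60.PhS
import Cfsg.Agent.Lib.H6.SUGenC

/-!
Phan systems, part T: quotients of `SU 4` over the field with nine elements: kernels, lifts.
-/

set_option autoImplicit false
set_option linter.unusedSectionVars false
set_option linter.unusedVariables false

namespace H60.Ph

open Matrix Cfsg H16.Herm

section diagN
variable {F : Type*} [Field F] [Fintype F] {q n : ℕ}

/-- partial eigenbases -/
theorem exists_diagN (hF : Fintype.card F = q ^ 2) (M : Matrix (Fin n) (Fin n) F)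
    (hM : ∀ u v, hermForm n F q (M *ᵥ u) (M *ᵥ v) = hermForm n F q u v) (hM1 : M ^ (q + 1) = 1) (k : ℕ) (hk : k ≤ n) :
    ∃ (f : Fin k → (Fin n → F)) (c : Fin k → F), ON q f ∧ ∀ i, c i * c i ^ q = 1 ∧ M *ᵥ f i = c i • f i := by
  induction k with
  | zero => exact ⟨fun i => i.elim0, fun i => i.elim0, fun i => i.elim0, fun i => i.elim0⟩
  | succ k ih =>
    obtain ⟨f, c, hf, hc⟩ := ih (by omega)
    obtain ⟨w, hw, hw'⟩ := exists_unit_perp hF hf (by simp; omega)
    obtain ⟨d, v, hd, hv, hvv, hperp⟩ := exists_eigen hF M hM hM1 w (by rw [hw]; exact one_ne_zero)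
    have hvf : ∀ i, hermForm n F q v (f i) = 0 := fun i => hperp (f i) (c i) (hc i).1 (hc i).2 (hw' i)
    refine ⟨Fin.snoc (α := fun _ => Fin n → F) f v, Fin.snoc (α := fun _ => F) c d, ?_, ?_⟩
    · intro i j
      refine Fin.lastCases ?_ (fun i => ?_) i
      · refine Fin.lastCases ?_ (fun j => ?_) j
        · rw [Fin.snoc_last, if_pos rfl]
          exact hvv
        · rw [Fin.snoc_last, Fin.snoc_castSucc, if_neg (Fin.castSucc_lt_last j).ne']
          exact hvf j
      · refine Fin.lastCases ?_ (fun j => ?_) j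
        · rw [Fin.snoc_last, Fin.snoc_castSucc, if_neg (Fin.castSucc_lt_last i).ne]
          exact perp_symm hF (hvf i)
        · rw [Fin.snoc_castSucc, Fin.snoc_castSucc, hf]
          by_cases h : i = j
          · subst h; simp
          · rw [if_neg h, if_neg (fun h' => h (Fin.castSucc_injective _ h'))]
    · intro i
      refine Fin.lastCases ?_ (fun i => ?_) i
      · rw [Fin.snoc_last, Fin.snoc_last]
        exact ⟨hd, hv⟩
      · rw [Fin.snoc_castSucc, Fin.snoc_castSucc]
        exact hc i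

end diagN

variable {F : Type*} [Field F] [Fintype F] (hF : Fintype.card F = 3 ^ 2)

include hF

theorem ker_scalar {G : Type*} [Group G] (g : SU 4 F 3 →* G) (hna : ∃ a b, g a * g b ≠ g b * g a) (k : SU 4 F 3)
    (hk : g k = 1) : ∃ c : F, mt k = c • (1 : Matrix (Fin 4) (Fin 4) F) := by
  have hs : IsSimpleGroup (PSU 4 F 3) := H6.SUGenC.isSimpleGroup hF 4 (by omega) (by omega)
  let π : SU 4 F 3 →* PSU 4 F 3 := QuotientGroup.mk' (Subgroup.center (SU 4 F 3))
  have hn : (g.ker.map π).Normal := Subgroup.Normal.map inferInstance π (QuotientGroup.mk'_surjective _)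
  rcases hs.eq_bot_or_eq_top_of_normal _ hn with h | h
  · have hkc : k ∈ Subgroup.center (SU 4 F 3) := by
      have : π k ∈ g.ker.map π := ⟨k, hk, rfl⟩
      rw [h, Subgroup.mem_bot] at this
      exact (QuotientGroup.eq_one_iff k).mp this
    obtain ⟨c, hc⟩ := H7.UnitSU.center_scalar hF (by omega) hkc
    refine ⟨c, ?_⟩
    rw [Matrix.smul_one_eq_diagonal]
    exact hc
  · exfalso
    obtain ⟨a, b, hab⟩ := hna
    have : π a ∈ g.ker.map π := by rw [h]; exact Subgroup.mem_top _
    obtain ⟨n, hn, hna⟩ := this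
    have hz : n⁻¹ * a ∈ Subgroup.center (SU 4 F 3) := QuotientGroup.eq.mp hna
    have e1 : g a = g (n⁻¹ * a) := by
      rw [map_mul, map_inv, show g n = 1 from hn, inv_one, one_mul]
    apply hab
    rw [e1, ← map_mul, ← map_mul, (Subgroup.mem_center_iff.mp hz b)]

omit hF in
theorem scalar_norm (hF : Fintype.card F = 3 ^ 2) {n : ℕ} (hn : 1 ≤ n) {k : SU n F 3} {c : F}
    (h : mt k = c • (1 : Matrix (Fin n) (Fin n) F)) : c * c ^ 3 = 1 := by
  have h1 := mt_form k (Pi.single ⟨0, hn⟩ 1) (Pi.single ⟨0, hn⟩ 1)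
  rw [h, Matrix.smul_mulVec, Matrix.one_mulVec, hermForm_smul_left, hermForm_smul_right, hermForm_single_left] at h1
  simpa using h1

/-- elements with the same image -/
theorem same_image {G : Type*} [Group G] (g : SU 4 F 3 →* G) (hna : ∃ a b, g a * g b ≠ g b * g a) (a b : SU 4 F 3)
    (h : g a = g b) : ∃ c : F, c * c ^ 3 = 1 ∧ mt a = c • mt b := by
  obtain ⟨c, hc⟩ := ker_scalar hF g hna (a * b⁻¹) (by rw [map_mul, map_inv, h, mul_inv_cancel])
  refine ⟨c, scalar_norm hF (by omega) hc, ?_⟩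
  have : a = (a * b⁻¹) * b := by group
  rw [this, mt_mul, hc, Matrix.smul_mul, Matrix.one_mul]

/-- block embeddings stay injective -/
theorem inj_block {G : Type*} [Group G] (g : SU 4 F 3 →* G) (hna : ∃ a b, g a * g b ≠ g b * g a) {k : ℕ}
    (ε : Fin k ↪ Fin 4) (j : Fin 4) (hj : ∀ i, ε i ≠ j) : Function.Injective (g.comp (emb hF ε)) := by
  rw [injective_iff_map_eq_one]
  intro b hb
  obtain ⟨c, hc⟩ := ker_scalar hF g hna _ hb
  have h1 := congrFun (congrFun hc j) j
  rw [mt_emb, EM_apply_col ε _ hj, if_pos rfl, Matrix.smul_apply, Matrix.one_apply_eq, smul_eq_mul, mul_one] at h1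
  apply emb_injective hF ε
  rw [map_one]
  apply mt_inj
  rw [hc, ← h1, one_smul, mt_one]

omit hF [Fintype F] in
/-- the commutant of two anticommuting matrices -/
theorem anticomm_scalar (h2 : (2 : F) ≠ 0) (X Y M : Matrix (Fin 2) (Fin 2) F) (hXY : X * Y = -(Y * X)) (hne : X * Y ≠ 0)
    (hMX : M * X = X * M) (hMY : M * Y = Y * M) : ∃ c : F, M = c • (1 : Matrix (Fin 2) (Fin 2) F) := by
  have hnc : X * Y ≠ Y * X := by
    intro h
    apply hne
    have h3 : (2 : F) • (X * Y) = 0 := by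
      rw [two_smul]
      nth_rewrite 1 [hXY]
      rw [h]
      simp
    exact (smul_eq_zero.mp h3).resolve_left h2
  have x00 := congrFun (congrFun hMX 0) 0
  have x01 := congrFun (congrFun hMX 0) 1
  have x10 := congrFun (congrFun hMX 1) 0
  have y00 := congrFun (congrFun hMY 0) 0
  have y01 := congrFun (congrFun hMY 0) 1
  have y10 := congrFun (congrFun hMY 1) 0
  simp only [Matrix.mul_apply, Fin.sum_univ_two] at x00 x01 x10 y00 y01 y10
  have key : ∀ m : F, m = M 0 0 - M 1 1 ∨ m = M 0 1 ∨ m = M 1 0 → m = 0 := by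
    intro m hm
    by_contra hm0
    apply hnc
    have c1 : X 0 1 * Y 1 0 - X 1 0 * Y 0 1 = 0 := by
      apply mul_left_cancel₀ hm0
      rcases hm with h | h | h
      · rw [h]
        linear_combination Y 1 0 * x01 + Y 0 1 * x10 + (X 0 0 - X 1 1) * y00
      · rw [h]
        linear_combination X 0 1 * y00 - Y 0 1 * x00
      · rw [h]
        linear_combination (- Y 1 0) * x00 + X 1 0 * y00
    have c2 : (X 0 0 - X 1 1) * Y 0 1 - (Y 0 0 - Y 1 1) * X 0 1 = 0 := by
      apply mul_left_cancel₀ hm0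
      rcases hm with h | h | h
      · rw [h]
        linear_combination (X 0 0 - X 1 1) * y01 - (Y 0 0 - Y 1 1) * x01
      · rw [h]
        linear_combination X 0 1 * y01 - Y 0 1 * x01
      · rw [h]
        linear_combination (Y 0 1) * x10 - X 0 1 * y10 - (M 0 0 - M 1 1) * c1
    have c3 : X 1 0 * (Y 0 0 - Y 1 1) - Y 1 0 * (X 0 0 - X 1 1) = 0 := by
      apply mul_left_cancel₀ hm0
      rcases hm with h | h | h
      · rw [h]
        linear_combination (Y 0 0 - Y 1 1) * (-x10) + (X 0 0 - X 1 1) * y10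
      · rw [h]
        linear_combination Y 1 0 * x01 - X 1 0 * y01 - (M 0 0 - M 1 1) * c1
      · rw [h]
        linear_combination X 1 0 * y10 - Y 1 0 * x10
    ext i j
    rw [Matrix.mul_apply, Matrix.mul_apply, Fin.sum_univ_two, Fin.sum_univ_two]
    fin_cases i <;> fin_cases j
    · show X 0 0 * Y 0 0 + X 0 1 * Y 1 0 = Y 0 0 * X 0 0 + Y 0 1 * X 1 0
      linear_combination c1
    · show X 0 0 * Y 0 1 + X 0 1 * Y 1 1 = Y 0 0 * X 0 1 + Y 0 1 * X 1 1
      linear_combination c2
    · show X 1 0 * Y 0 0 + X 1 1 * Y 1 0 = Y 1 0 * X 0 0 + Y 1 1 * X 1 0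
      linear_combination c3
    · show X 1 0 * Y 0 1 + X 1 1 * Y 1 1 = Y 1 0 * X 0 1 + Y 1 1 * X 1 1
      linear_combination -c1
  have k1 := key _ (Or.inl rfl)
  have k2 := key _ (Or.inr (Or.inl rfl))
  have k3 := key _ (Or.inr (Or.inr rfl))
  refine ⟨M 0 0, ?_⟩
  ext i j
  fin_cases i <;> fin_cases j
  · simp
  · simpa using k2
  · simpa using k3
  · simp
    linear_combination -k1

end H60.Ph
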