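import Mathlib
import Cfsg.Agent.Lib.H60.PhO
import Cfsg.Agent.Lib.H60.PhJ

/-!
Phan systems over the field with four elements, part A: the extension step.
-/

set_option autoImplicit false
set_option linter.unusedSectionVars false
set_option linter.unusedVariables false

namespace H60.Ph

open Matrix Cfsg H16.Herm

variable {F : Type*} [Field F] [Fintype F] {q : ℕ}

/-- every element is a product of blocks, dimension at least four -/
theorem exists_fac_all' (hF : Fintype.card F = q ^ 2) {n : ℕ} (hn : 2 ≤ n) (y : SU (n + 2) F q) :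
    ∃ (a a' a'' : SU (n + 1) F q) (b b' : SU 2 F q), mt b 1 0 ≠ 0 ∧ mt b' 1 0 ≠ 0 ∧
      y = emb hF (tl (n + 1)) a * emb hF (hd (by omega : 2 ≤ n + 2)) b * emb hF (tl (n + 1)) a' *
        emb hF (hd (by omega : 2 ≤ n + 2)) b' * emb hF (tl (n + 1)) a'' := by
  set e : Fin (n + 2) → F := Pi.single 0 1 with he
  have hee : hermForm (n + 2) F q e e = 1 := by rw [he, hermForm_single_left]; simp
  obtain ⟨r, hr1, hr2, hr3'⟩ := exists_perp_two hF (by omega) hee (p := mt y *ᵥ e) (by rw [mt_form, hee])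
  have hr3 : hermForm (n + 2) F q r (mt y *ᵥ e) * hermForm (n + 2) F q r (mt y *ᵥ e) ^ q ≠ 1 := by
    rw [hr3', zero_mul]; exact zero_ne_one
  have hr0 : r 0 = 0 := by
    rw [← hermForm_single_right (q := q) r 0 hF]; exact hr2
  have hq0 := one_lt_q hF
  obtain ⟨a, b, hb, hab⟩ := exists_fac hF (by omega) r hr1 (by rw [hr0, zero_mul]; exact zero_ne_one)
  set g := emb hF (tl (n + 1)) a * emb hF (hd (by omega : 2 ≤ n + 2)) b with hg
  set u := mt (g⁻¹ * y) *ᵥ e with hu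
  have hgu : mt g *ᵥ u = mt y *ᵥ e := by
    rw [hu, Matrix.mulVec_mulVec, ← mt_mul, mul_inv_cancel_left]
  have hu1 : hermForm (n + 2) F q u u = 1 := by rw [hu, mt_form, hee]
  have hu0 : u 0 * u 0 ^ q ≠ 1 := by
    have h1 : hermForm (n + 2) F q r (mt y *ᵥ e) = u 0 ^ q := by
      rw [← hgu, ← hab, mt_form, hermForm_single_left]
    rw [h1, pow_q_pow_q hF] at hr3
    rwa [mul_comm]
  obtain ⟨a', b', hb', hab'⟩ := exists_fac hF (by omega) u hu1 hu0
  obtain ⟨a'', ha''⟩ := stab_e0 hF ((g * (emb hF (tl (n + 1)) a' * emb hF (hd (by omega : 2 ≤ n + 2)) b'))⁻¹ * y) (by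
    rw [mt_mul, ← Matrix.mulVec_mulVec, ← hgu, ← hab', Matrix.mulVec_mulVec, Matrix.mulVec_mulVec, ← mt_mul, ← mt_mul,
      mul_assoc, inv_mul_cancel, mt_one, Matrix.one_mulVec])
  refine ⟨a, a', a'', b, b', hb, hb', ?_⟩
  rw [ha'', hg]
  group

section four
variable (hF : Fintype.card F = 2 ^ 2)
include hF

theorem cube_one {x : F} (hx : x ≠ 0) : x * x ^ 2 = 1 := by
  have h := FiniteField.pow_card x
  rw [hF] at h
  apply mul_left_cancel₀ hx
  rw [mul_one]
  calc x * (x * x ^ 2) = x ^ (2 ^ 2) := by ring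
    _ = x := h

theorem perp_of_adj {n : ℕ} {u v : Fin n → F} (h : Adj 2 u v) : hermForm n F 2 u v = 0 := by
  by_contra h0
  exact h (cube_one hF h0)

theorem two_zero : (2 : F) = 0 := by
  exact_mod_cast cast_q hF

end four

namespace Amal4

/-- the quadrangle property -/
def QP {hF : Fintype.card F = q ^ 2} {m : ℕ} {hm : 3 ≤ m} {T : Type*} [Group T] (D : Amal4 hF m hm T) : Prop :=
  ∀ c₀ c₁ c₂ d₁ d₂ : D.E.Co, D.E.R c₀ c₁ → D.E.R c₁ c₂ → D.E.R c₀ d₁ → D.E.R d₁ d₂ → D.E.rho c₂ = D.E.rho d₂ → c₂ = d₂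

section
variable {hF : Fintype.card F = q ^ 2} {m : ℕ} {hm : 3 ≤ m} {T : Type*} [Group T] (D : Amal4 hF m hm T)

/-- a common neighbour of everything suffices -/
theorem key4 {c₀ u v u₂ v₂ z : D.E.Co} (hu : D.E.R c₀ u) (hu₂ : D.E.R u u₂) (hv : D.E.R c₀ v) (hv₂ : D.E.R v v₂)
    (huv : D.E.rho u₂ = D.E.rho v₂) (hz : D.E.R c₀ z) (hz1 : hermForm (m + 2) F q (D.E.rho z) (D.E.rho u) = 0)
    (hz2 : hermForm (m + 2) F q (D.E.rho z) (D.E.rho v) = 0) (hz3 : hermForm (m + 2) F q (D.E.rho z) (D.E.rho u₂) = 0) :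
    u₂ = v₂ := by
  have e1 : D.E.R z u := D.tri4 (D.E.R_symm hz) hu (adj_of_perp hF hz1)
  have e2 : D.E.R z u₂ := D.tri4 e1 hu₂ (adj_of_perp hF hz3)
  have e3 : D.E.R z v := D.tri4 (D.E.R_symm hz) hv (adj_of_perp hF hz2)
  have e4 : D.E.R z v₂ := D.tri4 e3 hv₂ (by rw [← huv]; exact adj_of_perp hF hz3)
  exact D.E.R_unique e2 e4 huv

theorem W_unique' (hQ : D.QP) {c : D.E.Co} {p : Fin (m + 2) → F} {x y : D.E.Co} (hx : D.W c p x) (hy : D.W c p y) :
    x = y := by
  obtain ⟨r, h1, h2', h3⟩ := hx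
  obtain ⟨r', h1', h2'', h3'⟩ := hy
  exact hQ _ _ _ _ _ h1 h2' h1' h2'' (by rw [h3, h3'])

theorem W_step' (hQ : D.QP) {c c' : D.E.Co} (h : D.E.R c c') {p : Fin (m + 2) → F}
    (hp : hermForm (m + 2) F q p p = 1) {x : D.E.Co} (hx : D.W c p x) : D.W c' p x := by
  obtain ⟨r, hr, hr0, hr1, hr2⟩ := exists_perp_three hF hm p (D.E.rho_unit c) (D.E.rho_unit c') (D.E.R_adj h)
  obtain ⟨d, hd, rfl⟩ := D.E.R_exists c r hr ((adj_of_perp hF hr0).symm' hF)
  have e1 : D.E.R c' d := D.tri4 (D.E.R_symm h) hd ((adj_of_perp hF hr1).symm' hF)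
  obtain ⟨y, hy, hyp⟩ := D.E.R_exists d p hp (adj_of_perp hF hr2)
  have : x = y := D.W_unique' hQ hx ⟨d, hd, hy, hyp⟩
  subst this
  exact ⟨d, e1, hy, hyp⟩

theorem eq_of_conn' (hQ : D.QP) {c c' : D.E.Co} (h : Relation.ReflTransGen D.E.R c c')
    (hρ : D.E.rho c = D.E.rho c') : c = c' := by
  have key : ∀ c', Relation.ReflTransGen D.E.R c c' → D.W c' (D.E.rho c) c := by
    intro c' h
    induction h with
    | refl => exact D.W_self c
    | tail _ h1 ih => exact D.W_step' hQ h1 (D.E.rho_unit c) ih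
  have h1 := key c' h
  have h3 := D.W_self c'
  rw [← hρ] at h3
  exact D.W_unique' hQ h1 h3

theorem conn_of_mem' {x : T} (hx : x ∈ Subgroup.closure ((D.at'.range : Set T) ∪ (D.bt.range : Set T))) :
    Relation.ReflTransGen D.E.R (QuotientGroup.mk 1) (QuotientGroup.mk x) := by
  have mkat : ∀ (t : T) (a : SU (m + 1) F q), (QuotientGroup.mk (t * D.at' a) : D.E.Co) = QuotientGroup.mk t := D.E.mk_at
  have mkat1 : ∀ (a : SU (m + 1) F q), (QuotientGroup.mk (D.at' a) : D.E.Co) = QuotientGroup.mk 1 := by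
    intro a
    have := mkat 1 a
    rwa [one_mul] at this
  induction hx using Subgroup.closure_induction with
  | mem x hx =>
    rcases hx with ⟨a, rfl⟩ | ⟨y, rfl⟩
    · rw [mkat1]
    · obtain ⟨a, a', a'', b, b', hb, hb', rfl⟩ := exists_fac_all' hF (n := 2) (by omega) y
      have ov' : ∀ a : SU 3 F q, D.bt (emb hF (tl 3) a) = D.at' (emb hF (hd (by omega : 3 ≤ m + 1)) a) := fun a => (D.ov a).symm
      rw [map_mul, ov', mkat]
      refine (Relation.ReflTransGen.single (b := (QuotientGroup.mk (D.bt (emb hF (tl 3) a * emb hF (hd (by omega : 2 ≤ 4)) b)) : D.E.Co)) ?_).tail ?_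
      · refine ⟨D.bt (emb hF (tl 3) a), b, hb, ?_, ?_⟩
        · rw [ov', mkat1]
        · rw [map_mul, D.E_lm]
      · refine ⟨D.bt (emb hF (tl 3) a * emb hF (hd (by omega : 2 ≤ 4)) b * emb hF (tl 3) a'), b', hb', ?_, ?_⟩
        · rw [map_mul D.bt (_ * _), ov', mkat]
        · rw [map_mul D.bt (_ * _), D.E_lm]
  | one => exact Relation.ReflTransGen.refl
  | mul x y _ _ hx hy =>
    have := D.E.conn_smul x hy
    rw [mul_one] at this
    exact hx.trans this
  | inv x _ hx =>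
    have := D.E.conn_smul x⁻¹ hx
    rw [mul_one, inv_mul_cancel] at this
    exact D.E.conn_symm this

theorem ker_trivial' (hQ : D.QP) {x : T}
    (hx : x ∈ Subgroup.closure ((D.at'.range : Set T) ∪ (D.bt.range : Set T))) (hp : D.p x = 1) : x = 1 := by
  have h := D.eq_of_conn' hQ (D.conn_of_mem' hx) (by
    rw [D.E.rho_mk, D.E.rho_mk]
    unfold Amal.vec
    rw [E_p, hp, map_one])
  obtain ⟨a, ha⟩ := D.E.exists_of_mk h
  rw [one_mul] at ha
  rw [ha, E_at, D.p_at] at hp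
  have : a = 1 := emb_injective hF (tl (m + 1)) (by rw [hp, map_one])
  rw [ha, this, map_one]

end

/-! ### The quadrangle property over the field with four elements -/

section quad
variable {hF : Fintype.card F = 2 ^ 2} {k : ℕ} {hm : 3 ≤ k + 1} {T : Type*} [Group T] (D : Amal4 hF (k + 1) hm T)

/-- the tail embedding behind the first three coordinates -/
abbrev t3 (k : ℕ) : Fin k ↪ Fin (k + 1 + 2) := ((tl k).trans (tl (k + 1))).trans (tl (k + 2))

theorem t3_val (k : ℕ) (i : Fin k) : ((t3 k i : Fin (k + 1 + 2)) : ℕ) = (i : ℕ) + 3 := by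
  simp [t3, tl]

theorem mk_smul {a b : T} (t : T) (h : (QuotientGroup.mk a : D.E.Co) = QuotientGroup.mk b) :
    (QuotientGroup.mk (t * a) : D.E.Co) = QuotientGroup.mk (t * b) := by
  rw [QuotientGroup.eq] at h ⊢
  rw [_root_.mul_inv_rev, mul_assoc, inv_mul_cancel_left]
  exact h

/-- vertices over the tail are fixed by the three-dimensional head -/
theorem fixS (hk : 1 ≤ k) (hk2 : 2 ≤ k)
    (cm3 : ∀ (b : SU 3 F 2) (c : SU k F 2), D.bt (emb hF (hd (by omega : 3 ≤ 4)) b) * D.at' (emb hF (tl (k + 1)) (emb hF (tl k) c)) =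
      D.at' (emb hF (tl (k + 1)) (emb hF (tl k) c)) * D.bt (emb hF (hd (by omega : 3 ≤ 4)) b))
    (v : Fin k → F) (hv : hermForm k F 2 v v = 1) :
    ∃ r : T, D.E.R (QuotientGroup.mk 1) (QuotientGroup.mk r) ∧ D.E.vec r = ext (t3 k) v ∧
      ∀ σ : SU 3 F 2, (QuotientGroup.mk (D.bt (emb hF (hd (by omega : 3 ≤ 4)) σ) * r) : D.E.Co) = QuotientGroup.mk r := by
  have mkat : ∀ (t : T) (a : SU (k + 1 + 1) F 2), (QuotientGroup.mk (t * D.at' a) : D.E.Co) = QuotientGroup.mk t := D.E.mk_at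
  have mkat1 : ∀ (a : SU (k + 1 + 1) F 2), (QuotientGroup.mk (D.at' a) : D.E.Co) = QuotientGroup.mk 1 := by
    intro a
    have := mkat 1 a
    rwa [one_mul] at this
  obtain ⟨τ, hτ⟩ := exists_SU_unit hF hk2 ⟨0, hk⟩ v hv
  have h33 : hermForm 4 F 2 (Pi.single 3 1) (Pi.single 3 1) = 1 := by rw [hermForm_single_left]; simp
  obtain ⟨a, b, hb, hab⟩ := exists_fac hF (n := 2) (by omega) (Pi.single 3 1) h33 (by simp)
  set w := emb hF (tl 3) a * emb hF (hd (by omega : 2 ≤ 4)) b with hw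
  set X := D.at' (emb hF (tl (k + 1)) (emb hF (tl k) τ)) with hX
  have hR1 : D.E.R (QuotientGroup.mk 1) (QuotientGroup.mk (D.bt w)) := by
    refine ⟨D.bt (emb hF (tl 3) a), b, hb, ?_, ?_⟩
    · rw [← D.ov, mkat1]
    · rw [hw, map_mul, D.E_lm]
  refine ⟨X * D.bt w, ?_, ?_, ?_⟩
  · have := D.E.R_smul X hR1
    rwa [mul_one, hX, mkat1] at this
  · rw [D.E.vec_mul, D.vec_bt4, hab, hX, E_p, D.p_at, ext_single, emb_emb, emb_emb, mt_emb]
    have e : (Pi.single ((hd (by omega : 4 ≤ k + 1 + 2)) 3) 1 : Fin (k + 1 + 2) → F) = ext (t3 k) (Pi.single ⟨0, hk⟩ 1) := by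
      rw [ext_single]
      congr 1
    rw [e, ← hτ]
    exact EM_mulVec_ext _ _ _
  · intro σ
    have hfix : mt (w⁻¹ * emb hF (hd (by omega : 3 ≤ 4)) σ * w) *ᵥ (Pi.single 0 1) = Pi.single 0 1 := by
      rw [mt_mul, mt_mul, ← Matrix.mulVec_mulVec, ← Matrix.mulVec_mulVec]
      have h1 : mt w *ᵥ (Pi.single 0 1) = Pi.single 3 1 := hab
      rw [h1, mt_emb, EM_mulVec_of_zero]
      · rw [← h1, Matrix.mulVec_mulVec, mt_inv_mul, Matrix.one_mulVec]
      · ext i
        rw [Function.comp_apply, Pi.single_eq_of_ne]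
        · rfl
        · intro h
          have := congrArg Fin.val h
          have h3 : (i : ℕ) < 3 := i.2
          simp at this
          omega
    obtain ⟨a₃, ha₃⟩ := stab_e0 hF (n := 3) _ hfix
    have e : D.bt (emb hF (hd (by omega : 3 ≤ 4)) σ) * (X * D.bt w) =
        X * D.bt w * D.at' (emb hF (hd (by omega : 3 ≤ k + 1 + 1)) a₃) := by
      have e1 : emb hF (hd (by omega : 3 ≤ 4)) σ * w = w * emb hF (tl 3) a₃ := by rw [ha₃]; group
      rw [D.ov, ← mul_assoc, cm3, mul_assoc X, mul_assoc X, ← map_mul, ← map_mul, e1]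
    rw [e, mkat]

theorem quad2 (hk2 : 2 ≤ k)
    (cm3 : ∀ (b : SU 3 F 2) (c : SU k F 2), D.bt (emb hF (hd (by omega : 3 ≤ 4)) b) * D.at' (emb hF (tl (k + 1)) (emb hF (tl k) c)) =
      D.at' (emb hF (tl (k + 1)) (emb hF (tl k) c)) * D.bt (emb hF (hd (by omega : 3 ≤ 4)) b)) : D.QP := by
  intro c₀ c₁ c₂ d₁ d₂ h01 h12 k01 k12 hcd
  have h2 := two_zero hF
  set a := D.E.rho c₀ with ha
  set x := D.E.rho c₁ with hx
  set c := D.E.rho c₂ with hc
  set y := D.E.rho d₁ with hy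
  have uaa : hermForm (k + 1 + 2) F 2 a a = 1 := D.E.rho_unit c₀
  have uxx : hermForm (k + 1 + 2) F 2 x x = 1 := D.E.rho_unit c₁
  have ucc : hermForm (k + 1 + 2) F 2 c c = 1 := D.E.rho_unit c₂
  have uyy : hermForm (k + 1 + 2) F 2 y y = 1 := D.E.rho_unit d₁
  have hax : hermForm (k + 1 + 2) F 2 a x = 0 := perp_of_adj hF (D.E.R_adj h01)
  have hxc : hermForm (k + 1 + 2) F 2 x c = 0 := perp_of_adj hF (D.E.R_adj h12)
  have hay : hermForm (k + 1 + 2) F 2 a y = 0 := perp_of_adj hF (D.E.R_adj k01)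
  have hyc : hermForm (k + 1 + 2) F 2 y c = 0 := by
    have := perp_of_adj hF (D.E.R_adj k12)
    rw [← hcd] at this
    exact this
  have hxa := perp_symm hF hax
  have hya := perp_symm hF hay
  by_cases hac : hermForm (k + 1 + 2) F 2 a c = 0
  · have e1 : D.E.R c₀ c₂ := D.tri4 h01 h12 (adj_of_perp hF hac)
    have e2 : D.E.R c₀ d₂ := D.tri4 k01 k12 (by rw [← hcd]; exact adj_of_perp hF hac)
    exact D.E.R_unique e1 e2 hcd
  have hca : hermForm (k + 1 + 2) F 2 c a ≠ 0 := fun h => hac (perp_symm hF h)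
  have hcaN : hermForm (k + 1 + 2) F 2 c a * hermForm (k + 1 + 2) F 2 c a ^ 2 = 1 := cube_one hF hca
  obtain ⟨u, hu⟩ : ∃ u, u = c - hermForm (k + 1 + 2) F 2 c a • a := ⟨_, rfl⟩
  have hua : hermForm (k + 1 + 2) F 2 u a = 0 := by rw [hu, hermForm_sub_left, hermForm_smul_left, uaa, mul_one, sub_self]
  have hux : hermForm (k + 1 + 2) F 2 u x = 0 := by
    rw [hu, hermForm_sub_left, hermForm_smul_left, hax, perp_symm hF hxc, mul_zero, sub_zero]
  have huy : hermForm (k + 1 + 2) F 2 u y = 0 := by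
    rw [hu, hermForm_sub_left, hermForm_smul_left, hay, perp_symm hF hyc, mul_zero, sub_zero]
  have hce : c = hermForm (k + 1 + 2) F 2 c a • a + u := by rw [hu]; abel
  by_cases hu0 : u = 0
  · obtain ⟨r, hr, hra, hrx, hry⟩ := exists_perp_three hF hm y uaa uxx (adj_of_perp hF hax)
    obtain ⟨z, hz, hzr⟩ := D.E.R_exists c₀ r hr ((adj_of_perp hF hra).symm' hF)
    refine D.key4 h01 h12 k01 k12 hcd hz (by rw [hzr]; exact hrx) (by rw [hzr]; exact hry) ?_
    rw [hzr, ← hc, hce, hu0, add_zero, hermForm_smul_right, hra, mul_zero]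
  -- the three-space
  obtain ⟨g, l, α, β, hgg, hll, hlg, hga, hgx, hla, hlx, hue⟩ := exists_pair hF (by omega) uaa uxx hxa hua hux
  have hgl := perp_symm hF hlg
  have hag := perp_symm hF hga
  have hal := perp_symm hF hla
  have huu : hermForm (k + 1 + 2) F 2 u u = 0 := by
    have h1 : hermForm (k + 1 + 2) F 2 u u = hermForm (k + 1 + 2) F 2 u c := by
      conv_lhs => rw [hu]
      rw [hermForm_sub_right hF, hermForm_smul_right, ← hu, hua, mul_zero, sub_zero]
    rw [h1, hu, hermForm_sub_left, hermForm_smul_left, ucc, ← hermForm_swap hF c a]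
    linear_combination -hcaN
  have hαβ : α * α ^ 2 + β * β ^ 2 = 0 := by
    have := huu
    rw [hue] at this
    simp only [hermForm_add_left, hermForm_add_right hF, hermForm_smul_left, hermForm_smul_right, hgg, hll, hgl, hlg] at this
    linear_combination this
  have hα0 : α ≠ 0 := by
    rintro rfl
    have hβ : β = 0 := by
      by_contra hβ
      have := cube_one hF hβ
      rw [this] at hαβ
      simp at hαβ
    apply hu0
    rw [hue, hβ, zero_smul, zero_smul, add_zero]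
  have hβ0 : β ≠ 0 := by
    rintro rfl
    have := cube_one hF hα0
    rw [this] at hαβ
    simp at hαβ
  have hON : ON 2 (![a, g, l] : Fin 3 → (Fin (k + 1 + 2) → F)) := by
    intro i j
    fin_cases i <;> fin_cases j <;> simp [uaa, hgg, hll, hag, hga, hal, hla, hgl, hlg]
  -- the projection of `y`
  obtain ⟨y₀, hy₀⟩ : ∃ y₀, y₀ = y - hermForm (k + 1 + 2) F 2 y g • g - hermForm (k + 1 + 2) F 2 y l • l := ⟨_, rfl⟩
  have hyN : hermForm (k + 1 + 2) F 2 y g * hermForm (k + 1 + 2) F 2 y g ^ 2 =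
      hermForm (k + 1 + 2) F 2 y l * hermForm (k + 1 + 2) F 2 y l ^ 2 := by
    have h3 := perp_symm hF huy
    rw [hue, hermForm_add_right hF, hermForm_smul_right, hermForm_smul_right] at h3
    by_cases hg0 : hermForm (k + 1 + 2) F 2 y g = 0
    · have hl0 : hermForm (k + 1 + 2) F 2 y l = 0 := by
        rw [hg0, mul_zero, zero_add] at h3
        exact (mul_eq_zero.mp h3).resolve_left (pow_ne_zero _ hβ0)
      rw [hg0, hl0]
    · have hl0 : hermForm (k + 1 + 2) F 2 y l ≠ 0 := by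
        intro h4
        rw [h4, mul_zero, add_zero] at h3
        exact hg0 ((mul_eq_zero.mp h3).resolve_left (pow_ne_zero _ hα0))
      rw [cube_one hF hg0, cube_one hF hl0]
  have hy₀g : hermForm (k + 1 + 2) F 2 y₀ g = 0 := by
    rw [hy₀, hermForm_sub_left, hermForm_sub_left, hermForm_smul_left, hermForm_smul_left, hgg, hlg]
    ring
  have hy₀l : hermForm (k + 1 + 2) F 2 y₀ l = 0 := by
    rw [hy₀, hermForm_sub_left, hermForm_sub_left, hermForm_smul_left, hermForm_smul_left, hll, hgl]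
    ring
  have hy₀a : hermForm (k + 1 + 2) F 2 y₀ a = 0 := by
    rw [hy₀, hermForm_sub_left, hermForm_sub_left, hermForm_smul_left, hermForm_smul_left, hya, hga, hla]
    ring
  have hy₀y₀ : hermForm (k + 1 + 2) F 2 y₀ y₀ = 1 := by
    have h1 : hermForm (k + 1 + 2) F 2 y₀ y₀ = hermForm (k + 1 + 2) F 2 y₀ y := by
      conv_lhs => rw [hy₀]
      rw [hermForm_sub_right hF, hermForm_sub_right hF, hermForm_smul_right, hermForm_smul_right, ← hy₀, hy₀g, hy₀l]
      ring
    rw [h1, hy₀, hermForm_sub_left, hermForm_sub_left, hermForm_smul_left, hermForm_smul_left, uyy,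
      ← hermForm_swap hF y g, ← hermForm_swap hF y l]
    linear_combination -hyN - (hermForm (k + 1 + 2) F 2 y l * hermForm (k + 1 + 2) F 2 y l ^ 2) * h2
  have hye : y = y₀ + hermForm (k + 1 + 2) F 2 y g • g + hermForm (k + 1 + 2) F 2 y l • l := by rw [hy₀]; abel
  have hperpc : ∀ r : Fin (k + 1 + 2) → F, hermForm (k + 1 + 2) F 2 r a = 0 → hermForm (k + 1 + 2) F 2 r g = 0 →
      hermForm (k + 1 + 2) F 2 r l = 0 → hermForm (k + 1 + 2) F 2 r c = 0 := by
    intro r h3 h4 h5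
    rw [hce, hue, hermForm_add_right hF, hermForm_add_right hF, hermForm_smul_right, hermForm_smul_right, hermForm_smul_right,
      h3, h4, h5]
    ring
  have hy₀c := hperpc y₀ hy₀a hy₀g hy₀l
  -- lift `y₀`
  obtain ⟨e₁, he₁, he₁y⟩ := D.E.R_exists c₀ y₀ hy₀y₀ ((adj_of_perp hF hy₀a).symm' hF)
  obtain ⟨e₂, he₂, he₂c⟩ := D.E.R_exists e₁ c ucc (by rw [he₁y]; exact adj_of_perp hF hy₀c)
  have hde : d₂ = e₂ := by
    have hON4 : ON 2 (![a, g, l, y₀] : Fin 4 → (Fin (k + 1 + 2) → F)) := by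
      intro i j
      fin_cases i <;> fin_cases j <;> simp [uaa, hgg, hll, hag, hga, hal, hla, hgl, hlg, hy₀y₀, hy₀a, hy₀g, hy₀l,
        perp_symm hF hy₀a, perp_symm hF hy₀g, perp_symm hF hy₀l]
    obtain ⟨r, hr, hr'⟩ := exists_unit_perp hF hON4 (by simp; omega)
    have hra : hermForm (k + 1 + 2) F 2 r a = 0 := hr' 0
    have hrg : hermForm (k + 1 + 2) F 2 r g = 0 := hr' 1
    have hrl : hermForm (k + 1 + 2) F 2 r l = 0 := hr' 2
    have hry₀ : hermForm (k + 1 + 2) F 2 r y₀ = 0 := hr' 3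
    obtain ⟨z, hz, hzr⟩ := D.E.R_exists c₀ r hr ((adj_of_perp hF hra).symm' hF)
    refine D.key4 k01 k12 he₁ he₂ (by rw [← hcd, he₂c]) hz ?_ (by rw [hzr, he₁y]; exact hry₀) ?_
    · rw [hzr, ← hy, hye, hermForm_add_right hF, hermForm_add_right hF, hermForm_smul_right, hermForm_smul_right, hry₀,
        hrg, hrl]
      ring
    · rw [hzr, ← hcd]
      exact hperpc r hra hrg hrl
  -- the frame
  obtain ⟨s, hs⟩ := exists_SU_hd hF (by omega : 3 < k + 1 + 2) _ hON
  have hs0 : mt s *ᵥ (Pi.single 0 1) = a := by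
    have h0 : (Pi.single 0 1 : Fin (k + 1 + 2) → F) = ext (hd (by omega : 3 ≤ k + 1 + 2)) (Pi.single 0 1) := by
      rw [ext_single]; rfl
    rw [h0, hs]
    simp
  obtain ⟨t', ht'⟩ := QuotientGroup.mk_surjective c₀
  obtain ⟨a₀, ha₀⟩ := stab_e0 hF ((D.p t')⁻¹ * s) (by
    rw [mt_mul, ← Matrix.mulVec_mulVec, hs0, ha, ← ht', D.E.rho_mk]
    unfold Amal.vec
    rw [E_p, Matrix.mulVec_mulVec, mt_inv_mul, Matrix.one_mulVec])
  obtain ⟨t, ht⟩ : ∃ t, t = t' * D.at' a₀ := ⟨_, rfl⟩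
  have hpt : D.p t = s := by rw [ht, map_mul, D.p_at, ha₀, mul_inv_cancel_left]
  have hct : c₀ = QuotientGroup.mk t := by
    rw [← ht', ht]
    exact (D.E.mk_at t' a₀).symm
  -- the vector of `c`
  obtain ⟨c', hc'⟩ : ∃ c' : Fin 3 → F, c' = ![hermForm (k + 1 + 2) F 2 c a, α, β] := ⟨_, rfl⟩
  have hsc : mt s *ᵥ ext (hd (by omega : 3 ≤ k + 1 + 2)) c' = c := by
    rw [hs, hc']
    simp only [Fin.sum_univ_three, Matrix.cons_val_zero, Matrix.cons_val_one, Matrix.cons_val]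
    have h9 : c = hermForm (k + 1 + 2) F 2 c a • a + (α • g + β • l) := by rw [← hue]; exact hce
    exact ((add_assoc _ _ _).trans h9.symm)
  have hc'1 : hermForm 3 F 2 c' c' = 1 := by
    rw [← form_ext_ext (hd (by omega : 3 ≤ k + 1 + 2)), ← mt_form s, hsc, ucc]
  obtain ⟨σ, hσ⟩ := exists_SU_unit hF (by omega) 0 c' hc'1
  obtain ⟨S, hS⟩ : ∃ S, S = D.bt (emb hF (hd (by omega : 3 ≤ 4)) σ) := ⟨_, rfl⟩
  have hvS : D.E.vec S = ext (hd (by omega : 3 ≤ k + 1 + 2)) c' := by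
    rw [hS, D.vec_bt4, mt_emb]
    have : (Pi.single 0 1 : Fin 4 → F) = ext (hd (by omega : 3 ≤ 4)) (Pi.single 0 1) := by
      rw [ext_single]; rfl
    rw [this, EM_mulVec_ext, hσ]
    unfold ext
    rw [Matrix.mulVec_mulVec, PM_comp]
    rfl
  have hvt : D.E.rho (QuotientGroup.mk (t * S)) = c := by
    rw [D.E.rho_mk, D.E.vec_mul, hvS, E_p, hpt, hsc]
  -- every lift through the complement is the same
  have fin : ∀ (v : Fin (k + 1 + 2) → F) (e f : D.E.Co), hermForm (k + 1 + 2) F 2 v v = 1 → hermForm (k + 1 + 2) F 2 v a = 0 →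
      hermForm (k + 1 + 2) F 2 v g = 0 → hermForm (k + 1 + 2) F 2 v l = 0 → D.E.R c₀ e → D.E.rho e = v → D.E.R e f →
      D.E.rho f = c → f = QuotientGroup.mk (t * S) := by
    intro v e f hv hva hvg hvl hce' hev hef hfc
    set v' := mt s⁻¹ *ᵥ v with hv'
    have hsv : mt s *ᵥ v' = v := by rw [hv', Matrix.mulVec_mulVec, mt_mul_inv, Matrix.one_mulVec]
    have hv0 : ∀ i : Fin 3, v' (hd (by omega : 3 ≤ k + 1 + 2) i) = 0 := by
      intro i
      rw [← hermForm_single_right (q := 2) v' _ hF, ← ext_single, ← mt_form s, hsv, hs]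
      have : (∑ j, (Pi.single i 1 : Fin 3 → F) j • (![a, g, l] : Fin 3 → (Fin (k + 1 + 2) → F)) j) =
          (![a, g, l] : Fin 3 → (Fin (k + 1 + 2) → F)) i := by
        rw [Finset.sum_eq_single i]
        · simp
        · intro b _ hb
          simp [Pi.single_eq_of_ne hb]
        · simp
      rw [this]
      fin_cases i
      · exact hva
      · exact hvg
      · exact hvl
    have hve : v' = ext (t3 k) (v' ∘ t3 k) := by
      ext i
      by_cases hi : (i : ℕ) < 3
      · have hi' : i = hd (by omega : 3 ≤ k + 1 + 2) ⟨i, hi⟩ := by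
          apply Fin.ext
          rfl
        rw [ext_apply']
        · rw [hi', hv0]
        · intro j h
          have h3 := congrArg Fin.val h
          rw [t3_val] at h3
          omega
      · obtain ⟨j, hj⟩ : ∃ j : Fin k, (t3 k j : Fin (k + 1 + 2)) = i := by
          refine ⟨⟨i - 3, by omega⟩, ?_⟩
          apply Fin.ext
          rw [t3_val]
          simp only
          omega
        rw [← hj, ext_apply]
        rfl
    have hvu : hermForm k F 2 (v' ∘ t3 k) (v' ∘ t3 k) = 1 := by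
      rw [← form_ext_ext (t3 k), ← hve, ← mt_form s, hsv, hv]
    obtain ⟨r, hr1, hr2, hr3⟩ := D.fixS (by omega) hk2 cm3 (v' ∘ t3 k) hvu
    rw [← hve] at hr2
    have hRt := D.E.R_smul t hr1
    rw [mul_one, ← hct] at hRt
    have he : e = QuotientGroup.mk (t * r) := by
      apply D.E.R_unique hce' hRt
      rw [hev, D.E.rho_mk, D.E.vec_mul, hr2, E_p, hpt, hsv]
    have hRS := D.E.R_smul (t * S) hr1
    have hfx := hr3 σ
    rw [← hS] at hfx
    have hfx2 := D.mk_smul t hfx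
    rw [mul_one, mul_assoc, hfx2, ← he] at hRS
    apply D.E.R_unique hef (D.E.R_symm hRS)
    rw [hfc, hvt]
  rw [hde, fin x c₁ c₂ uxx hxa (perp_symm hF hgx) (perp_symm hF hlx) h01 rfl h12 rfl,
    fin y₀ e₁ e₂ hy₀y₀ hy₀a hy₀g hy₀l he₁ he₁y he₂ he₂c]

end quad

end Amal4

/-- the extension step over the field with four elements -/
theorem exists_extension2 (hF : Fintype.card F = 2 ^ 2) {k : ℕ} (hk : 2 ≤ k)
    {G : Type*} [Group G] (f : SU (k + 2) F 2 →* G) (g : SU 4 F 2 →* G)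
    (hov : ∀ a : SU 3 F 2, f (emb hF (hd (by omega : 3 ≤ k + 2)) a) = g (emb hF (tl 3) a))
    (hcm : ∀ (b : SU 2 F 2) (c : SU (k + 1) F 2), g (emb hF (hd (by omega : 2 ≤ 4)) b) * f (emb hF (tl (k + 1)) c) =
      f (emb hF (tl (k + 1)) c) * g (emb hF (hd (by omega : 2 ≤ 4)) b))
    (hcm3 : ∀ (b : SU 3 F 2) (c : SU k F 2), g (emb hF (hd (by omega : 3 ≤ 4)) b) * f (emb hF (tl (k + 1)) (emb hF (tl k) c)) =
      f (emb hF (tl (k + 1)) (emb hF (tl k) c)) * g (emb hF (hd (by omega : 3 ≤ 4)) b)) :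
    ∃ h : SU (k + 3) F 2 →* G, (∀ a, h (emb hF (tl (k + 2)) a) = f a) ∧
      (∀ b, h (emb hF (hd (by omega : 4 ≤ k + 3)) b) = g b) := by
  let D : Amal4 hF (k + 1) (by omega) (SU (k + 3) F 2 × G) :=
    { p := MonoidHom.fst _ _
      at' := (emb hF (tl (k + 2))).prod f
      bt := (emb hF (hd (by omega : 4 ≤ k + 3))).prod g
      p_at := fun a => rfl
      p_bt := fun b => rfl
      ov := by
        intro a
        apply Prod.ext
        · show emb hF (tl (k + 2)) (emb hF (hd _) a) = emb hF (hd _) (emb hF (tl 3) a)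
          rw [emb_emb, emb_emb]
          rfl
        · exact hov a
      cm := by
        intro b c
        apply Prod.ext
        · show emb hF (hd _) (emb hF (hd _) b) * emb hF (tl (k + 2)) (emb hF (tl (k + 1)) c) =
            emb hF (tl (k + 2)) (emb hF (tl (k + 1)) c) * emb hF (hd _) (emb hF (hd _) b)
          rw [emb_emb, emb_emb]
          apply emb_commute
          intro i j h
          have h' := congrArg Fin.val h
          have h1 : (i : ℕ) < 2 := i.2
          simp [tl, hd] at h'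
          omega
        · exact hcm b c }
  have hcm3' : ∀ (b : SU 3 F 2) (c : SU k F 2), D.bt (emb hF (hd (by omega : 3 ≤ 4)) b) * D.at' (emb hF (tl (k + 1)) (emb hF (tl k) c)) =
      D.at' (emb hF (tl (k + 1)) (emb hF (tl k) c)) * D.bt (emb hF (hd (by omega : 3 ≤ 4)) b) := by
    intro b c
    apply Prod.ext
    · show emb hF (hd _) (emb hF (hd _) b) * emb hF (tl (k + 2)) (emb hF (tl (k + 1)) (emb hF (tl k) c)) =
        emb hF (tl (k + 2)) (emb hF (tl (k + 1)) (emb hF (tl k) c)) * emb hF (hd _) (emb hF (hd _) b)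
      rw [emb_emb, emb_emb, emb_emb]
      apply emb_commute
      intro i j h
      have h' := congrArg Fin.val h
      have h1 : (i : ℕ) < 3 := i.2
      simp [tl, hd] at h'
      omega
    · exact hcm3 b c
  have hQ : D.QP := D.quad2 hk hcm3'
  set X := Subgroup.closure ((D.at'.range : Set (SU (k + 3) F 2 × G)) ∪ (D.bt.range : Set (SU (k + 3) F 2 × G))) with hX
  let π : X →* SU (k + 3) F 2 := D.p.comp X.subtype
  have hinj : Function.Injective π := by
    rw [injective_iff_map_eq_one]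
    intro x hx
    exact Subtype.ext (D.ker_trivial' hQ x.2 hx)
  have hat : ∀ a, D.at' a ∈ X := fun a => Subgroup.subset_closure (Or.inl ⟨a, rfl⟩)
  have hbt : ∀ a, D.bt a ∈ X := fun a => Subgroup.subset_closure (Or.inr ⟨a, rfl⟩)
  have hsurj : Function.Surjective π := by
    intro y
    obtain ⟨a, a', a'', b, b', _, _, rfl⟩ := exists_fac_all' hF (n := k + 1) (by omega) y
    have hlm : ∀ b : SU 2 F 2, D.bt (emb hF (hd (by omega : 2 ≤ 4)) b) ∈ X := fun b => hbt _
    refine ⟨⟨D.at' a, hat a⟩ * ⟨D.bt (emb hF (hd (by omega : 2 ≤ 4)) b), hlm b⟩ * ⟨D.at' a', hat a'⟩ *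
      ⟨D.bt (emb hF (hd (by omega : 2 ≤ 4)) b'), hlm b'⟩ * ⟨D.at' a'', hat a''⟩, ?_⟩
    simp only [π, MonoidHom.comp_apply, map_mul, Subgroup.subtype_apply, D.p_at, D.p_bt, emb_emb, hd_trans]
  let E := MulEquiv.ofBijective π ⟨hinj, hsurj⟩
  refine ⟨(MonoidHom.snd _ _).comp (X.subtype.comp E.symm.toMonoidHom), fun a => ?_, fun b => ?_⟩
  · have : E.symm (emb hF (tl (k + 2)) a) = ⟨D.at' a, hat a⟩ := by
      rw [MulEquiv.symm_apply_eq]
      rfl
    simp only [MonoidHom.comp_apply, MulEquiv.toMonoidHom_eq_coe, MonoidHom.coe_coe, this]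
    rfl
  · have : E.symm (emb hF (hd (by omega : 4 ≤ k + 3)) b) = ⟨D.bt b, hbt b⟩ := by
      rw [MulEquiv.symm_apply_eq]
      rfl
    simp only [MonoidHom.comp_apply, MulEquiv.toMonoidHom_eq_coe, MonoidHom.coe_coe, this]
    rfl

end H60.Ph
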