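import Mathlib
import Cfsg.Agent.Lib.H60.PhTwoA
import Cfsg.Agent.Lib.H60.PhS
import Cfsg.Agent.Lib.H60.PhL

/-!
Phan systems over the field with four elements, part B: generation of `SU 3`, characters, rigidity.
-/

set_option autoImplicit false
set_option linter.unusedSectionVars false
set_option linter.unusedVariables false

namespace H60.Ph.Two

open Matrix Cfsg H16.Herm H60.Ph

section basic
variable {F : Type*} [Field F] [Fintype F] (hF : Fintype.card F = 2 ^ 2)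
include hF

theorem neg_self (x : F) : -x = x := by linear_combination (-x) * two_zero hF

theorem exists_om : ∃ ω : F, ω ^ 2 + ω + 1 = 0 ∧ ω ≠ 1 ∧ ω ≠ 0 := by
  obtain ⟨g, hg, -⟩ := H7.QuadExt.exists_gen_norm_one hF
  have h3 : (g : F) ^ 3 = 1 := by
    rw [← Units.val_pow_eq_pow_val, ← Units.val_one]
    congr 1
    have := pow_orderOf_eq_one g
    rwa [hg] at this
  have h1 : (g : F) ≠ 1 := by
    intro h
    have : g = 1 := Units.ext h
    rw [this, orderOf_one] at hg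
    omega
  refine ⟨g, ?_, h1, g.ne_zero⟩
  have h4 : ((g : F) - 1) * ((g : F) ^ 2 + g + 1) = 0 := by linear_combination h3
  exact (mul_eq_zero.mp h4).resolve_left (sub_ne_zero.mpr h1)

theorem om_cases {ω : F} (hω : ω ^ 2 + ω + 1 = 0) {x : F} (hx : x ≠ 0) : x = 1 ∨ x = ω ∨ x = ω ^ 2 := by
  have h3 : x * x ^ 2 = 1 := cube_one hF hx
  have h : (x - 1) * ((x - ω) * (x - ω ^ 2)) = 0 := by
    linear_combination h3 + (-x ^ 2 + ω * x - (ω - 1)) * hω
  rcases mul_eq_zero.mp h with h1 | h1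
  · exact Or.inl (sub_eq_zero.mp h1)
  · rcases mul_eq_zero.mp h1 with h2 | h2
    · exact Or.inr (Or.inl (sub_eq_zero.mp h2))
    · exact Or.inr (Or.inr (sub_eq_zero.mp h2))

theorem SU2_cases (b : SU 2 F 2) : (mt b 1 0 = 0 ∧ mt b 0 0 ≠ 0) ∨ (mt b 0 0 = 0 ∧ mt b 1 0 ≠ 0) := by
  have h := SU2_col hF b
  by_cases h0 : mt b 0 0 = 0
  · right
    refine ⟨h0, ?_⟩
    intro h1
    rw [h0, h1] at h
    simp at h
  · left
    refine ⟨?_, h0⟩
    by_contra h1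
    rw [cube_one hF h0, cube_one hF h1] at h
    simp at h

/-- reflections -/
def rf (hF : Fintype.card F = 2 ^ 2) (c : F) (hc : c * c ^ 2 = 1) : SU 2 F 2 := su2 hF 0 c (by linear_combination hc)

omit hF in
theorem rf00 (hF : Fintype.card F = 2 ^ 2) (c : F) (hc : c * c ^ 2 = 1) : mt (rf hF c hc) 0 0 = 0 := rfl

omit hF in
theorem rf10 (hF : Fintype.card F = 2 ^ 2) (c : F) (hc : c * c ^ 2 = 1) : mt (rf hF c hc) 1 0 = c := rfl

theorem rf_sq (c : F) (hc : c * c ^ 2 = 1) : rf hF c hc * rf hF c hc = 1 := by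
  have h2 := two_zero hF
  apply SU2_ext hF
  · rw [SU2_mul00 hF, rf00, rf10, mt_one]
    simp only [Matrix.one_apply_eq]
    linear_combination (-1 : F) * hc - h2
  · rw [SU2_mul10 hF, rf00, rf10, mt_one]
    simp

theorem tor_eq_rf (c : F) (hc : c * c ^ 2 = 1) : tor hF c hc = rf hF 1 (by ring) * rf hF c hc := by
  apply SU2_ext hF
  · rw [SU2_mul00 hF, rf00, rf10, rf00, rf10, mt_tor]
    simp [neg_self hF]
  · rw [SU2_mul10 hF, rf00, rf10, rf00, rf10, mt_tor]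
    simp

/-- `SU 2` is generated by reflections -/
theorem SU2_ind_rf (P : SU 2 F 2 → Prop) (h1 : ∀ c hc, P (rf hF c hc)) (hmul : ∀ x y, P x → P y → P (x * y)) (x : SU 2 F 2) :
    P x := by
  rcases SU2_cases hF x with ⟨h, h0⟩ | ⟨h, h0⟩
  · have hc := cube_one hF h0
    have : x = tor hF (mt x 0 0) hc := by
      apply SU2_ext hF
      · rw [mt_tor]; rfl
      · rw [mt_tor, h]; rfl
    rw [this, tor_eq_rf hF]
    exact hmul _ _ (h1 _ _) (h1 _ _)
  · have hc := cube_one hF h0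
    have : x = rf hF (mt x 1 0) hc := by
      apply SU2_ext hF
      · rw [rf00, h]
      · rw [rf10]
    rw [this]
    exact h1 _ _

/-- unit vectors in dimension three -/
theorem unit3_cases (v : Fin 3 → F) (hv : hermForm 3 F 2 v v = 1) : (v 0 ≠ 0 ∧ v 1 ≠ 0 ∧ v 2 ≠ 0) ∨
    (v 0 ≠ 0 ∧ v 1 = 0 ∧ v 2 = 0) ∨ (v 0 = 0 ∧ v 1 ≠ 0 ∧ v 2 = 0) ∨ (v 0 = 0 ∧ v 1 = 0 ∧ v 2 ≠ 0) := by
  have h2 := two_zero hF
  have hn : ∀ x : F, x ≠ 0 → x * x ^ 2 = 1 := fun x hx => cube_one hF hx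
  simp only [hermForm, Fin.sum_univ_three] at hv
  have hne : (1 : F) ≠ 0 := one_ne_zero
  by_cases h0 : v 0 = 0 <;> by_cases h1 : v 1 = 0 <;> by_cases h3 : v 2 = 0
  · rw [h0, h1, h3] at hv
    simp at hv
  · exact Or.inr (Or.inr (Or.inr ⟨h0, h1, h3⟩))
  · exact Or.inr (Or.inr (Or.inl ⟨h0, h1, h3⟩))
  · rw [hn _ h1, hn _ h3, h0] at hv
    exfalso
    apply hne
    linear_combination -hv + h2
  · exact Or.inr (Or.inl ⟨h0, h1, h3⟩)
  · rw [hn _ h0, hn _ h3, h1] at hv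
    exfalso
    apply hne
    linear_combination -hv + h2
  · rw [hn _ h0, hn _ h1, h3] at hv
    exfalso
    apply hne
    linear_combination -hv + h2
  · exact Or.inl ⟨h0, h1, h3⟩

/-- the Fourier matrix -/
def yy (hF : Fintype.card F = 2 ^ 2) (ω : F) (hω : ω ^ 2 + ω + 1 = 0) : SU 3 F 2 :=
  ofMt !![1, 1, 1; 1, ω, ω ^ 2; 1, ω ^ 2, ω] (by
    have h2 := two_zero hF
    rw [Matrix.det_fin_three]
    simp
    linear_combination (-ω ^ 2 + ω + 3) * hω - (3 * ω + 2) * h2) (by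
    intro u v
    have h2 := two_zero hF
    simp only [hermForm, Matrix.mulVec, dotProduct, Fin.sum_univ_three, Matrix.of_apply, Matrix.cons_val_zero,
      Matrix.cons_val_one, Matrix.cons_val]
    simp only [add_pow_q hF, mul_pow]
    linear_combination (u 0 * v 1 ^ 2 * (ω ^ 2 - ω + 1) + u 0 * v 2 ^ 2 * (ω ^ 2 - ω + 1) + u 1 * v 0 ^ 2 +
      u 1 * v 1 ^ 2 * ((ω - 1) * (ω ^ 3 + 2)) + u 1 * v 2 ^ 2 * (ω ^ 3 - ω + 1) + u 2 * v 0 ^ 2 +
      u 2 * v 1 ^ 2 * (ω ^ 3 - ω + 1) + u 2 * v 2 ^ 2 * ((ω - 1) * (ω ^ 3 + 2))) * hω +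
      (u 0 * v 0 ^ 2 + u 1 * v 1 ^ 2 + u 2 * v 2 ^ 2) * h2)

omit hF in
theorem mt_yy (hF : Fintype.card F = 2 ^ 2) (ω : F) (hω : ω ^ 2 + ω + 1 = 0) :
    mt (yy hF ω hω) = !![1, 1, 1; 1, ω, ω ^ 2; 1, ω ^ 2, ω] := rfl

end basic

end H60.Ph.Two
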