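import Mathlib
import Cfsg.Agent.Lib.H60.PhTwoB

/-!
Phan systems over the field with four elements, part C: relations in `SU 3`, characters, rigidity.
-/

set_option autoImplicit false
set_option linter.unusedSectionVars false
set_option linter.unusedVariables false

namespace H60.Ph.Two

open Matrix Cfsg H16.Herm H60.Ph

section basic
variable {F : Type*} [Field F] [Fintype F] (hF : Fintype.card F = 2 ^ 2)
include hF

omit [Fintype F] hF in
theorem om3 {ω : F} (hω : ω ^ 2 + ω + 1 = 0) : ω * ω ^ 2 = 1 := by linear_combination (ω - 1) * hω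

omit hF in
/-- the diagonal element -/
def dd (hF : Fintype.card F = 2 ^ 2) (ω : F) (hω : ω ^ 2 + ω + 1 = 0) : SU 3 F 2 := emb hF (tl 2) (tor hF ω (om3 hω))

omit hF in
/-- the cyclic permutation -/
def pp (hF : Fintype.card F = 2 ^ 2) : SU 3 F 2 := emb hF (hd (by omega : 2 ≤ 3)) (wl hF) * emb hF (tl 2) (wl hF)

omit hF in
theorem mt_dd (hF : Fintype.card F = 2 ^ 2) (ω : F) (hω : ω ^ 2 + ω + 1 = 0) :
    mt (dd hF ω hω) = !![1, 0, 0; 0, ω, 0; 0, 0, ω ^ 2] := by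
  unfold dd
  rw [mt_emb_tl_three, mt_tor]
  ext i j
  fin_cases i <;> fin_cases j <;> simp

omit hF in
theorem mt_pp (hF : Fintype.card F = 2 ^ 2) : mt (pp hF) = !![0, 0, 1; 1, 0, 0; 0, 1, 0] := by
  unfold pp
  rw [mt_mul, mt_emb_hd_three, mt_emb_tl_three, mt_wl]
  ext i j
  rw [Matrix.mul_apply, Fin.sum_univ_three]
  fin_cases i <;> fin_cases j <;> simp

theorem rel1 (ω : F) (hω : ω ^ 2 + ω + 1 = 0) : pp hF * (yy hF ω hω * dd hF ω hω) = yy hF ω hω := by
  have h3 := om3 hω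
  apply mt_inj
  rw [mt_mul, mt_mul, mt_pp, mt_yy, mt_dd, Matrix.mul_fin_three, Matrix.mul_fin_three]
  ext i j
  fin_cases i <;> fin_cases j <;> simp
  all_goals first | linear_combination h3 | linear_combination ω * h3 | ring

theorem rel2 (ω : F) (hω : ω ^ 2 + ω + 1 = 0) : yy hF ω hω * pp hF = dd hF ω hω * yy hF ω hω := by
  have h3 := om3 hω
  apply mt_inj
  rw [mt_mul, mt_mul, mt_pp, mt_yy, mt_dd, Matrix.mul_fin_three, Matrix.mul_fin_three]
  ext i j
  fin_cases i <;> fin_cases j <;> simp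
  · ring
  · linear_combination -h3
  · linear_combination (-ω) * h3
  · linear_combination -h3

theorem rel3 (ω : F) (hω : ω ^ 2 + ω + 1 = 0) : yy hF ω hω * yy hF ω hω = emb hF (tl 2) (wl hF) := by
  have h3 := om3 hω
  have h2 := two_zero hF
  apply mt_inj
  rw [mt_mul, mt_yy, mt_emb_tl_three, mt_wl, Matrix.mul_fin_three]
  ext i j
  fin_cases i <;> fin_cases j <;> simp
  · linear_combination h2
  · linear_combination hω
  · linear_combination hω
  · linear_combination hω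
  · linear_combination ω * h3 + hω
  · linear_combination 2 * h3 + 2 * h2
  · linear_combination hω
  · linear_combination 2 * h3 + h2
  · linear_combination ω * h3 + hω

theorem wl_sq : wl hF * wl hF = (1 : SU 2 F 2) := by
  have h := rf_sq hF 1 (by ring)
  exact h

theorem yy_four (ω : F) (hω : ω ^ 2 + ω + 1 = 0) : yy hF ω hω * yy hF ω hω * (yy hF ω hω * yy hF ω hω) = 1 := by
  rw [rel3, ← map_mul, wl_sq, map_one]

theorem nD (c : F) (hc : c * c ^ 2 = 1) : ∀ i, (![1, 1, c] : Fin 3 → F) i * (![1, 1, c] : Fin 3 → F) i ^ 2 = 1 := by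
  intro i
  fin_cases i
  · simp
  · simp
  · exact hc

omit hF in
/-- the twists -/
def tt3 (hF : Fintype.card F = 2 ^ 2) (c : F) (hc : c * c ^ 2 = 1) : SU 3 F 2 →* SU 3 F 2 :=
  tW hF ![1, 1, c] (nD hF c hc) (RingEquiv.refl F)

theorem mt_tt3 (c : F) (hc : c * c ^ 2 = 1) (A : SU 3 F 2) (i j : Fin 3) :
    mt (tt3 hF c hc A) i j = (![1, 1, c] : Fin 3 → F) i * mt A i j * (![1, 1, c] : Fin 3 → F) j ^ 2 := by
  unfold tt3
  rw [mt_tW]
  rfl

theorem tt3_emb (c : F) (hc : c * c ^ 2 = 1) (ε : Fin 2 ↪ Fin 3) (b : SU 2 F 2) :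
    ∃ b', tt3 hF c hc (emb hF ε b) = emb hF ε b' := by
  unfold tt3
  rw [tW_emb]
  exact ⟨_, rfl⟩

theorem tt3_inv (c c' : F) (hc : c * c ^ 2 = 1) (hc' : c' * c' ^ 2 = 1) (h : c * c' = 1) (A : SU 3 F 2) :
    tt3 hF c hc (tt3 hF c' hc' A) = A := by
  apply mt_inj
  ext i j
  rw [mt_tt3, mt_tt3]
  have e1 : (![1, 1, c] : Fin 3 → F) i * (![1, 1, c'] : Fin 3 → F) i = 1 := by
    fin_cases i
    · simp
    · simp
    · exact h
  have e2 : (![1, 1, c] : Fin 3 → F) j * (![1, 1, c'] : Fin 3 → F) j = 1 := by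
    fin_cases j
    · simp
    · simp
    · exact h
  calc (![1, 1, c] : Fin 3 → F) i * ((![1, 1, c'] : Fin 3 → F) i * mt A i j * (![1, 1, c'] : Fin 3 → F) j ^ 2) * (![1, 1, c] : Fin 3 → F) j ^ 2
      = ((![1, 1, c] : Fin 3 → F) i * (![1, 1, c'] : Fin 3 → F) i) * mt A i j *
        ((![1, 1, c] : Fin 3 → F) j * (![1, 1, c'] : Fin 3 → F) j) ^ 2 := by ring
    _ = mt A i j := by rw [e1, e2]; ring

theorem yc_four (ω : F) (hω : ω ^ 2 + ω + 1 = 0) (c : F) (hc : c * c ^ 2 = 1) :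
    tt3 hF c hc (yy hF ω hω) * tt3 hF c hc (yy hF ω hω) * (tt3 hF c hc (yy hF ω hω) * tt3 hF c hc (yy hF ω hω)) = 1 := by
  rw [← map_mul, ← map_mul, yy_four, map_one]

/-- generation of `SU 3` -/
theorem SU3_ind (ω : F) (hω : ω ^ 2 + ω + 1 = 0) (P : SU 3 F 2 → Prop)
    (h1 : ∀ b, P (emb hF (hd (by omega : 2 ≤ 3)) b)) (h2 : ∀ b, P (emb hF (tl 2) b))
    (h3 : ∀ c hc, P (tt3 hF c hc (yy hF ω hω))) (hmul : ∀ x y, P x → P y → P (x * y)) (s : SU 3 F 2) : P s := by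
  have fin : ∀ m : SU 3 F 2, P m → mt s *ᵥ (Pi.single 0 1) = mt m *ᵥ (Pi.single 0 1) → P s := by
    intro m hm h
    obtain ⟨a, ha⟩ := stab_e0 hF (n := 2) (m⁻¹ * s) (by
      rw [mt_mul, ← Matrix.mulVec_mulVec, h, Matrix.mulVec_mulVec, mt_inv_mul, Matrix.one_mulVec])
    have : s = m * emb hF (tl 2) a := by rw [ha]; group
    rw [this]
    exact hmul _ _ hm (h2 a)
  obtain ⟨v, hv⟩ : ∃ v, v = mt s *ᵥ (Pi.single 0 1) := ⟨_, rfl⟩
  have hv1 : hermForm 3 F 2 v v = 1 := by rw [hv, mt_form, hermForm_single_left]; simp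
  rw [← hv] at fin
  have hcol0 : ∀ b : SU 2 F 2, mt (emb hF (hd (by omega : 2 ≤ 3)) b) *ᵥ (Pi.single 0 1) = ![mt b 0 0, mt b 1 0, 0] := by
    intro b
    rw [mt_emb_hd_three, col_single]
    ext i
    fin_cases i <;> rfl
  have htl : ∀ (b : SU 2 F 2) (x y z : F), mt (emb hF (tl 2) b) *ᵥ ![x, y, z] =
      ![x, mt b 0 0 * y + mt b 0 1 * z, mt b 1 0 * y + mt b 1 1 * z] := by
    intro b x y z
    rw [mt_emb_tl_three]
    ext i
    fin_cases i <;> simp [Matrix.mulVec, dotProduct, Fin.sum_univ_three]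
  have hhd : ∀ (b : SU 2 F 2) (x y z : F), mt (emb hF (hd (by omega : 2 ≤ 3)) b) *ᵥ ![x, y, z] =
      ![mt b 0 0 * x + mt b 0 1 * y, mt b 1 0 * x + mt b 1 1 * y, z] := by
    intro b x y z
    rw [mt_emb_hd_three]
    ext i
    fin_cases i <;> simp [Matrix.mulVec, dotProduct, Fin.sum_univ_three]
  rcases unit3_cases hF v hv1 with ⟨k0, k1, k2⟩ | ⟨k0, k1, k2⟩ | ⟨k0, k1, k2⟩ | ⟨k0, k1, k2⟩
  · have n0 := cube_one hF k0
    have n1 := cube_one hF k1
    have n2 := cube_one hF k2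
    have n01 : (v 0 * v 1) * (v 0 * v 1) ^ 2 = 1 := cube_one hF (mul_ne_zero k0 k1)
    have nc : (v 0 * v 1 * v 2) * (v 0 * v 1 * v 2) ^ 2 = 1 := cube_one hF (mul_ne_zero (mul_ne_zero k0 k1) k2)
    apply fin (emb hF (hd (by omega : 2 ≤ 3)) (tor hF (v 0) n0) * emb hF (tl 2) (tor hF (v 0 * v 1) n01) *
      tt3 hF (v 0 * v 1 * v 2) nc (yy hF ω hω)) (hmul _ _ (hmul _ _ (h1 _) (h2 _)) (h3 _ _))
    have hy : mt (tt3 hF (v 0 * v 1 * v 2) nc (yy hF ω hω)) *ᵥ (Pi.single 0 1) = ![1, 1, v 0 * v 1 * v 2] := by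
      rw [col_single]
      ext i
      show mt (tt3 hF (v 0 * v 1 * v 2) nc (yy hF ω hω)) i 0 = _
      rw [mt_tt3, mt_yy]
      fin_cases i <;> simp
    rw [mt_mul, mt_mul, ← Matrix.mulVec_mulVec, hy, ← Matrix.mulVec_mulVec, htl, hhd, mt_tor, mt_tor]
    ext i
    fin_cases i
    · simp
    · simp
      linear_combination (-v 1) * n0
    · simp
      linear_combination (-v 2) * n01
  · apply fin (emb hF (hd (by omega : 2 ≤ 3)) (tor hF (v 0) (cube_one hF k0))) (h1 _)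
    rw [hcol0, mt_tor]
    ext i
    fin_cases i
    · simp
    · simpa using k1
    · simpa using k2
  · apply fin (emb hF (hd (by omega : 2 ≤ 3)) (rf hF (v 1) (cube_one hF k1))) (h1 _)
    rw [hcol0, rf00, rf10]
    ext i
    fin_cases i
    · simpa using k0
    · simp
    · simpa using k2
  · apply fin (emb hF (tl 2) (rf hF (v 2) (cube_one hF k2)) * emb hF (hd (by omega : 2 ≤ 3)) (rf hF 1 (by ring)))
      (hmul _ _ (h2 _) (h1 _))
    rw [mt_mul, ← Matrix.mulVec_mulVec, hcol0, rf00, rf10, htl, rf00, rf10]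
    ext i
    fin_cases i
    · simpa using k0
    · simpa using k1
    · simp

/-- characters of order three are trivial -/
theorem char_trivial (χ : SU 3 F 2 →* F) (h : ∀ x, χ x * χ x ^ 2 = 1) (x : SU 3 F 2) : χ x = 1 := by
  obtain ⟨ω, hω, hω1, hω0⟩ := exists_om hF
  have key : ∀ y : SU 3 F 2, y * y * (y * y) = 1 → χ y = 1 := by
    intro y hy
    have h1 := congrArg χ hy
    rw [map_mul, map_mul, map_one] at h1
    have h2 := h y
    linear_combination h1 - χ y * h2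
  have k2 : ∀ (ε : Fin 2 ↪ Fin 3) (b : SU 2 F 2), χ (emb hF ε b) = 1 := by
    intro ε b
    refine SU2_ind_rf hF (fun b => χ (emb hF ε b) = 1) ?_ ?_ b
    · intro c hc
      apply key
      rw [← map_mul, rf_sq, map_one, one_mul]
    · intro x y hx hy
      rw [map_mul, map_mul, hx, hy, one_mul]
  refine SU3_ind hF ω hω (fun x => χ x = 1) (k2 _) (k2 _) ?_ ?_ x
  · intro c hc
    exact key _ (yc_four hF ω hω c hc)
  · intro x y hx hy
    rw [map_mul, hx, hy, one_mul]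

/-- commuting with the torus and the cycle -/
theorem scalar_of_comm (ω : F) (hω : ω ^ 2 + ω + 1 = 0) (hω1 : ω ≠ 1) (w : SU 3 F 2)
    (h1 : w * dd hF ω hω = dd hF ω hω * w) (h2 : w * pp hF = pp hF * w) :
    ∃ c : F, c * c ^ 2 = 1 ∧ mt w = c • (1 : Matrix (Fin 3) (Fin 3) F) := by
  have h3 := om3 hω
  have e1 : mt w * mt (dd hF ω hω) = mt (dd hF ω hω) * mt w := by rw [← mt_mul, h1, mt_mul]
  have e2 : mt w * mt (pp hF) = mt (pp hF) * mt w := by rw [← mt_mul, h2, mt_mul]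
  rw [mt_dd] at e1
  rw [mt_pp] at e2
  have a1 : ω - 1 ≠ 0 := sub_ne_zero.mpr hω1
  have hω0 : ω ≠ 0 := by
    rintro rfl
    simp at h3
  have ent : ∀ i j, mt w i j * mt (dd hF ω hω) j j = mt (dd hF ω hω) i i * mt w i j := by
    intro i j
    have := congrFun (congrFun e1 i) j
    rw [Matrix.mul_apply, Matrix.mul_apply, Fin.sum_univ_three, Fin.sum_univ_three] at this
    rw [mt_dd]
    fin_cases i <;> fin_cases j <;> simpa using this
  rw [mt_dd] at ent
  have f01 : mt w 0 1 * ω = 1 * mt w 0 1 := ent 0 1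
  have f02 : mt w 0 2 * ω ^ 2 = 1 * mt w 0 2 := ent 0 2
  have f10 : mt w 1 0 * 1 = ω * mt w 1 0 := ent 1 0
  have f12 : mt w 1 2 * ω ^ 2 = ω * mt w 1 2 := ent 1 2
  have f20 : mt w 2 0 * 1 = ω ^ 2 * mt w 2 0 := ent 2 0
  have f21 : mt w 2 1 * ω = ω ^ 2 * mt w 2 1 := ent 2 1
  have kill : ∀ m : F, (ω - 1) * m = 0 → m = 0 := fun m h => (mul_eq_zero.mp h).resolve_left a1
  have m01 : mt w 0 1 = 0 := kill _ (by linear_combination f01)
  have m02 : mt w 0 2 = 0 := kill _ (by linear_combination (-ω) * f02 + mt w 0 2 * h3)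
  have m10 : mt w 1 0 = 0 := kill _ (by linear_combination -f10)
  have m12 : mt w 1 2 = 0 := kill _ (by linear_combination ω ^ 2 * f12 + (mt w 1 2 - ω * mt w 1 2) * h3)
  have m20 : mt w 2 0 = 0 := kill _ (by linear_combination ω * f20 + mt w 2 0 * h3)
  have m21 : mt w 2 1 = 0 := kill _ (by linear_combination (-ω ^ 2) * f21 + (mt w 2 1 - ω * mt w 2 1) * h3)
  have g10 : mt w 1 1 = mt w 0 0 := by
    have := congrFun (congrFun e2 1) 0
    rw [Matrix.mul_apply, Matrix.mul_apply, Fin.sum_univ_three, Fin.sum_univ_three] at this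
    simpa using this
  have g21 : mt w 2 2 = mt w 1 1 := by
    have := congrFun (congrFun e2 2) 1
    rw [Matrix.mul_apply, Matrix.mul_apply, Fin.sum_univ_three, Fin.sum_univ_three] at this
    simpa using this
  have hsc : mt w = mt w 0 0 • (1 : Matrix (Fin 3) (Fin 3) F) := by
    ext i j
    fin_cases i <;> fin_cases j
    · simp
    · simpa using m01
    · simpa using m02
    · simpa using m10
    · simpa using g10
    · simpa using m12
    · simpa using m20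
    · simpa using m21
    · simp
      rw [g21, g10]
  refine ⟨mt w 0 0, ?_, hsc⟩
  have h4 := mt_form w (Pi.single 0 1) (Pi.single 0 1)
  rw [hsc, Matrix.smul_mulVec, Matrix.one_mulVec, hermForm_smul_left, hermForm_smul_right, hermForm_single_left] at h4
  simpa using h4

/-- rigidity on the Fourier element -/
theorem fix_yy (θ : SU 3 F 2 →* SU 3 F 2) (h1 : ∀ b, θ (emb hF (hd (by omega : 2 ≤ 3)) b) = emb hF (hd (by omega : 2 ≤ 3)) b)
    (h2 : ∀ b, θ (emb hF (tl 2) b) = emb hF (tl 2) b) (ω : F) (hω : ω ^ 2 + ω + 1 = 0) (hω1 : ω ≠ 1) :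
    θ (yy hF ω hω) = yy hF ω hω := by
  have tp : θ (pp hF) = pp hF := by
    unfold pp
    rw [map_mul, h1, h2]
  have td : θ (dd hF ω hω) = dd hF ω hω := by
    unfold dd
    rw [h2]
  have r1 := rel1 hF ω hω
  have r2 := rel2 hF ω hω
  have r3 := rel3 hF ω hω
  have s1 := congrArg θ r1
  have s2 := congrArg θ r2
  have s3 := congrArg θ r3
  rw [map_mul, map_mul, tp, td] at s1
  rw [map_mul, map_mul, tp, td] at s2
  rw [map_mul, h2, ← r3] at s3
  obtain ⟨y, hy⟩ : ∃ y, y = yy hF ω hω := ⟨_, rfl⟩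
  obtain ⟨y', hy'⟩ : ∃ y', y' = θ (yy hF ω hω) := ⟨_, rfl⟩
  obtain ⟨p, hp⟩ : ∃ p, p = pp hF := ⟨_, rfl⟩
  obtain ⟨d, hd'⟩ : ∃ d, d = dd hF ω hω := ⟨_, rfl⟩
  rw [← hy, ← hd', ← hp] at r1 r2
  rw [← hy', ← hd', ← hp] at s1 s2
  rw [← hy', ← hy] at s3
  rw [← hy', ← hy]
  have e1 : y * d = p⁻¹ * y := eq_inv_mul_of_mul_eq r1
  have e1' : y' * d = p⁻¹ * y' := eq_inv_mul_of_mul_eq s1
  have c1 : (y⁻¹ * y') * d = d * (y⁻¹ * y') := by
    calc (y⁻¹ * y') * d = y⁻¹ * (y' * d) := by group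
      _ = y⁻¹ * p⁻¹ * y' := by rw [e1']; group
      _ = (y⁻¹ * (p⁻¹ * y)) * (y⁻¹ * y') := by group
      _ = (y⁻¹ * (y * d)) * (y⁻¹ * y') := by rw [e1]
      _ = d * (y⁻¹ * y') := by group
  have c2 : (y⁻¹ * y') * p = p * (y⁻¹ * y') := by
    calc (y⁻¹ * y') * p = y⁻¹ * (y' * p) := by group
      _ = y⁻¹ * d * y' := by rw [s2]; group
      _ = (y⁻¹ * (d * y)) * (y⁻¹ * y') := by group
      _ = (y⁻¹ * (y * p)) * (y⁻¹ * y') := by rw [r2]
      _ = p * (y⁻¹ * y') := by group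
  obtain ⟨c, hc, hcs⟩ := scalar_of_comm hF ω hω hω1 (y⁻¹ * y') (by rw [← hd']; exact c1) (by rw [← hp]; exact c2)
  have e : mt y' = c • mt y := by
    have : y' = y * (y⁻¹ * y') := by group
    rw [this, mt_mul, hcs, Matrix.mul_smul, Matrix.mul_one]
  have e3 : mt y' * mt y' = mt y * mt y := by rw [← mt_mul, s3, mt_mul]
  rw [e, Matrix.smul_mul, Matrix.mul_smul, smul_smul] at e3
  have e4 : (c * c) • (1 : Matrix (Fin 3) (Fin 3) F) = 1 := by
    have := congrArg (fun M => M * mt (y * y)⁻¹) e3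
    simp only [Matrix.smul_mul, ← mt_mul, mul_inv_cancel, mt_one] at this
    exact this
  have e5 : c * c = 1 := by
    have := congrFun (congrFun e4 0) 0
    simpa using this
  have e6 : c = 1 := by linear_combination hc - c * e5
  apply mt_inj
  rw [e, e6, one_smul]

/-- **Rigidity.** -/
theorem rigid (θ : SU 3 F 2 →* SU 3 F 2) (h1 : ∀ b, θ (emb hF (hd (by omega : 2 ≤ 3)) b) = emb hF (hd (by omega : 2 ≤ 3)) b)
    (h2 : ∀ b, θ (emb hF (tl 2) b) = emb hF (tl 2) b) (x : SU 3 F 2) : θ x = x := by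
  obtain ⟨ω, hω, hω1, hω0⟩ := exists_om hF
  refine SU3_ind hF ω hω (fun x => θ x = x) h1 h2 ?_ ?_ x
  · intro c hc
    have hc' : c ^ 2 * (c ^ 2) ^ 2 = 1 := by linear_combination (c * c ^ 2 + 1) * hc
    have hcc : c * c ^ 2 = 1 := hc
    have hcc' : c ^ 2 * c = 1 := by linear_combination hc
    have k := fix_yy hF ((tt3 hF (c ^ 2) hc').comp (θ.comp (tt3 hF c hc))) (by
      intro b
      obtain ⟨b', hb'⟩ := tt3_emb hF c hc (hd (by omega : 2 ≤ 3)) b
      rw [MonoidHom.comp_apply, MonoidHom.comp_apply, hb', h1, ← hb', tt3_inv hF _ _ _ _ hcc']) (by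
      intro b
      obtain ⟨b', hb'⟩ := tt3_emb hF c hc (tl 2) b
      rw [MonoidHom.comp_apply, MonoidHom.comp_apply, hb', h2, ← hb', tt3_inv hF _ _ _ _ hcc']) ω hω hω1
    rw [MonoidHom.comp_apply, MonoidHom.comp_apply] at k
    have k2 := congrArg (tt3 hF c hc) k
    rwa [tt3_inv hF _ _ _ _ hcc] at k2
  · intro x y hx hy
    rw [map_mul, hx, hy]

theorem eq_of_blocks (ρ T : SU 3 F 2 →* SU 3 F 2) (hT : Function.Injective T)
    (h1 : ∀ b, ρ (emb hF (hd (by omega : 2 ≤ 3)) b) = T (emb hF (hd (by omega : 2 ≤ 3)) b))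
    (h2 : ∀ b, ρ (emb hF (tl 2) b) = T (emb hF (tl 2) b)) (x : SU 3 F 2) : ρ x = T x := by
  let E : SU 3 F 2 ≃* SU 3 F 2 := MulEquiv.ofBijective T (Finite.injective_iff_bijective.mp hT)
  have hE : ∀ x, E x = T x := fun x => rfl
  have := rigid hF (E.symm.toMonoidHom.comp ρ) (by
    intro b
    show E.symm (ρ _) = _
    rw [h1, ← hE, E.symm_apply_apply]) (by
    intro b
    show E.symm (ρ _) = _
    rw [h2, ← hE, E.symm_apply_apply]) x
  have h3 : E.symm (ρ x) = x := this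
  rw [← hE, ← h3, E.apply_symm_apply]
  rw [h3]

end basic

end H60.Ph.Two
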