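import Mathlib
import Cfsg.Agent.Lib.H60.PhTwoC

/-!
Phan systems over the field with four elements, part D: the overlap.
-/

set_option autoImplicit false
set_option linter.unusedSectionVars false
set_option linter.unusedVariables false

namespace H60.Ph.Two

open Matrix Cfsg H16.Herm H60.Ph

section basic
variable {F : Type*} [Field F] [Fintype F] (hF : Fintype.card F = 2 ^ 2)
include hF

theorem tor_mul (c d : F) (hc : c * c ^ 2 = 1) (hd : d * d ^ 2 = 1) (hcd : (c * d) * (c * d) ^ 2 = 1) :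
    tor hF c hc * tor hF d hd = tor hF (c * d) hcd := by
  apply SU2_ext hF
  · rw [SU2_mul00 hF, mt_tor, mt_tor, mt_tor]
    simp
  · rw [SU2_mul10 hF, mt_tor, mt_tor, mt_tor]
    simp

theorem tor_one (h : (1 : F) * 1 ^ 2 = 1) : tor hF 1 h = 1 := by
  apply SU2_ext hF
  · rw [mt_tor, mt_one]; simp
  · rw [mt_tor, mt_one]; simp

theorem tor_mul_rf (c d : F) (hc : c * c ^ 2 = 1) (hd : d * d ^ 2 = 1) (hcd : (c ^ 2 * d) * (c ^ 2 * d) ^ 2 = 1) :
    tor hF c hc * rf hF d hd = rf hF (c ^ 2 * d) hcd := by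
  apply SU2_ext hF
  · rw [SU2_mul00 hF, mt_tor, rf00, rf10, rf00]
    simp
  · rw [SU2_mul10 hF, mt_tor, rf00, rf10, rf10]
    simp

theorem aut_SU2_two (θ : MulAut (SU 2 F 2)) : ∃ (μ : F) (τ : F ≃+* F), μ * μ ^ 2 = 1 ∧ (τ = RingEquiv.refl F ∨ τ = frobE hF) ∧
    (∀ c hc hc', θ (tor hF c hc) = tor hF (τ c) hc') ∧
    ∀ b, mt (θ b) 0 0 = τ (mt b 0 0) ∧ mt (θ b) 1 0 = μ * τ (mt b 1 0) := by
  obtain ⟨ω, hω, hω1, hω0⟩ := exists_om hF
  have h3 := om3 hω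
  have h11 : (1 : F) * 1 ^ 2 = 1 := by ring
  -- image of the torus generator
  obtain ⟨T, hT⟩ : ∃ T, T = tor hF ω h3 := ⟨_, rfl⟩
  have hT3 : T * T * T = 1 := by
    rw [hT, tor_mul hF ω ω h3 h3 (cube_one hF (mul_ne_zero hω0 hω0)), tor_mul hF _ ω _ h3 (cube_one hF (mul_ne_zero (mul_ne_zero hω0 hω0) hω0))]
    have : ω * ω * ω = 1 := by linear_combination h3
    simp only [this]
    exact tor_one hF _
  have hT1 : T ≠ 1 := by
    intro h
    have h4 : mt T 0 0 = 1 := by rw [h, mt_one]; rfl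
    rw [hT, mt_tor] at h4
    exact hω1 h4
  have hθT : mt (θ T) 1 0 = 0 ∧ mt (θ T) 0 0 ≠ 0 := by
    rcases SU2_cases hF (θ T) with h | ⟨h, h0⟩
    · exact h
    · exfalso
      apply hT1
      have hc := cube_one hF h0
      have e : θ T = rf hF (mt (θ T) 1 0) hc := by
        apply SU2_ext hF
        · rw [rf00, h]
        · rw [rf10]
      have e2 : θ (T * T) = θ 1 := by
        rw [map_mul, map_one, e, rf_sq]
      have e3 := θ.injective e2
      rw [e3, one_mul] at hT3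
      exact hT3
  obtain ⟨x, hx⟩ : ∃ x, x = mt (θ T) 0 0 := ⟨_, rfl⟩
  have hx0 : x ≠ 0 := by rw [hx]; exact hθT.2
  have hxn := cube_one hF hx0
  have eT : θ T = tor hF x hxn := by
    apply SU2_ext hF
    · rw [mt_tor, hx]; rfl
    · rw [mt_tor, hθT.1]; rfl
  have hx1 : x ≠ 1 := by
    intro h
    apply hT1
    apply θ.injective
    rw [eT, map_one]
    simp only [h]
    exact tor_one hF _
  obtain ⟨τ, hτ, hτx⟩ : ∃ τ : F ≃+* F, (τ = RingEquiv.refl F ∨ τ = frobE hF) ∧ τ ω = x := by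
    rcases om_cases hF hω hx0 with h | h | h
    · exact absurd h hx1
    · exact ⟨RingEquiv.refl F, Or.inl rfl, h.symm⟩
    · exact ⟨frobE hF, Or.inr rfl, by rw [frobE_apply, h]⟩
  have hτn : ∀ c : F, c * c ^ 2 = 1 → τ c * τ c ^ 2 = 1 := by
    intro c hc
    rw [← map_pow, ← map_mul, hc, map_one]
  -- all of the torus
  have htor : ∀ c hc hc', θ (tor hF c hc) = tor hF (τ c) hc' := by
    intro c hc hc'
    have hc0 : c ≠ 0 := left_ne_zero_of_mul_eq_one hc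
    rcases om_cases hF hω hc0 with h | h | h
    · subst h
      simp only [map_one]
      rw [tor_one, map_one]
    · subst h
      rw [← hT, eT]
      simp only [hτx]
    · subst h
      have e1 : tor hF (ω ^ 2) hc = T * T := by
        rw [hT, tor_mul hF ω ω h3 h3 (cube_one hF (mul_ne_zero hω0 hω0))]
        congr 1
        ring
      rw [e1, map_mul, eT, tor_mul hF x x hxn hxn (cube_one hF (mul_ne_zero hx0 hx0))]
      congr 1
      rw [map_pow, hτx]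
      ring
  -- image of the reflection
  obtain ⟨R, hR⟩ : ∃ R, R = rf hF 1 h11 := ⟨_, rfl⟩
  have hRR : R * R = 1 := by rw [hR, rf_sq]
  have hR1 : R ≠ 1 := by
    intro h
    have h4 : mt R 1 0 = 0 := by rw [h, mt_one]; rfl
    rw [hR, rf10] at h4
    exact one_ne_zero h4
  have hθR : mt (θ R) 0 0 = 0 ∧ mt (θ R) 1 0 ≠ 0 := by
    rcases SU2_cases hF (θ R) with ⟨h, h0⟩ | h
    · exfalso
      apply hR1
      apply θ.injective
      have hc := cube_one hF h0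
      have e2 : mt (θ R * θ R) 0 0 = 1 := by rw [← map_mul, hRR, map_one, mt_one]; rfl
      rw [SU2_mul00 hF, h, mul_zero, sub_zero] at e2
      have e3 : mt (θ R) 0 0 = 1 := by linear_combination hc - mt (θ R) 0 0 * e2
      apply SU2_ext hF
      · rw [e3, map_one, mt_one]; rfl
      · rw [h, map_one, mt_one]; rfl
    · exact h
  obtain ⟨μ, hμ⟩ : ∃ μ, μ = mt (θ R) 1 0 := ⟨_, rfl⟩
  have hμ0 : μ ≠ 0 := by rw [hμ]; exact hθR.2
  have hμn := cube_one hF hμ0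
  have eR : θ R = rf hF μ hμn := by
    apply SU2_ext hF
    · rw [rf00, hθR.1]
    · rw [rf10, hμ]
  refine ⟨μ, τ, hμn, hτ, htor, fun b => ?_⟩
  rcases SU2_cases hF b with ⟨h, h0⟩ | ⟨h, h0⟩
  · have hc := cube_one hF h0
    have e : b = tor hF (mt b 0 0) hc := by
      apply SU2_ext hF
      · rw [mt_tor]; rfl
      · rw [mt_tor, h]; rfl
    rw [h, map_zero, mul_zero]
    have e2 : θ b = tor hF (τ (mt b 0 0)) (hτn _ hc) := by
      conv_lhs => rw [e]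
      exact htor _ _ _
    rw [e2, mt_tor]
    exact ⟨rfl, rfl⟩
  · have hc := cube_one hF h0
    obtain ⟨c, hcd⟩ : ∃ c, c = mt b 1 0 := ⟨_, rfl⟩
    rw [← hcd] at hc h0
    have hc2 : c ^ 2 * (c ^ 2) ^ 2 = 1 := by linear_combination (c * c ^ 2 + 1) * hc
    have e : b = tor hF (c ^ 2) hc2 * R := by
      have hcc : ((c ^ 2) ^ 2 * 1) * ((c ^ 2) ^ 2 * 1) ^ 2 = 1 := cube_one hF (mul_ne_zero (pow_ne_zero _ (pow_ne_zero _ h0)) one_ne_zero)
      rw [hR, tor_mul_rf hF _ _ _ _ hcc]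
      apply SU2_ext hF
      · rw [rf00, h]
      · rw [rf10, ← hcd]
        linear_combination (-c) * hc
    have e2 : θ b = tor hF (τ (c ^ 2)) (hτn _ hc2) * rf hF μ hμn := by
      conv_lhs => rw [e]
      rw [map_mul, htor _ _ (hτn _ hc2), eR]
    have hd0 : τ (c ^ 2) ≠ 0 := left_ne_zero_of_mul_eq_one (hτn _ hc2)
    rw [tor_mul_rf hF _ _ _ _ (cube_one hF (mul_ne_zero (pow_ne_zero _ hd0) hμ0))] at e2
    rw [e2, rf00, rf10, h, map_zero, ← hcd]
    refine ⟨rfl, ?_⟩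
    rw [map_pow]
    linear_combination (μ * τ c) * hτn _ hc

omit [Fintype F] hF in
theorem exists_lift {H K G : Type*} [Group H] [Group K] [Group G] (g : K →* G) (hg : Function.Injective g) (φ : H →* G)
    (h : ∀ y, ∃ a, g a = φ y) : ∃ ρ : H →* K, ∀ y, g (ρ y) = φ y := by
  choose r hr using h
  refine ⟨{ toFun := r, map_one' := ?_, map_mul' := ?_ }, hr⟩
  · apply hg
    rw [hr, map_one, map_one]
  · intro x y
    apply hg
    rw [hr, map_mul, map_mul, hr, hr]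

/-- **Overlap.** -/
theorem exists_overlap2 {G : Type*} [Group G] (α β : SU 3 F 2 →* G) (hα : Function.Injective α)
    (hβ : Function.Injective β) (hr : ∀ x, ∃ y, β y = α x)
    (h1 : (α.comp (emb hF (hd (by omega : 2 ≤ 3)))).range = (β.comp (emb hF (hd (by omega : 2 ≤ 3)))).range)
    (h2 : (α.comp (emb hF (tl 2))).range = (β.comp (emb hF (tl 2))).range) :
    ∃ (μ₁ μ₂ : F) (τ : F ≃+* F) (hD : ∀ i, (![1, μ₁, μ₁ * μ₂] : Fin 3 → F) i * (![1, μ₁, μ₁ * μ₂] : Fin 3 → F) i ^ 2 = 1),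
      μ₁ * μ₁ ^ 2 = 1 ∧ μ₂ * μ₂ ^ 2 = 1 ∧ ∀ x, α x = β (tW hF ![1, μ₁, μ₁ * μ₂] hD τ x) := by
  obtain ⟨ω, hω, hω1, hω0⟩ := exists_om hF
  have hωn := om3 hω
  have mk : ∀ (ε : Fin 2 ↪ Fin 3), (α.comp (emb hF ε)).range = (β.comp (emb hF ε)).range →
      ∃ θ : MulAut (SU 2 F 2), ∀ b, β (emb hF ε (θ b)) = α (emb hF ε b) := by
    intro ε hε
    have hα' : Function.Injective (α.comp (emb hF ε)) := hα.comp (emb_injective hF ε)
    have hβ' : Function.Injective (β.comp (emb hF ε)) := hβ.comp (emb_injective hF ε)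
    let θ : MulAut (SU 2 F 2) := ((MonoidHom.ofInjective hα').trans (MulEquiv.subgroupCongr hε)).trans (MonoidHom.ofInjective hβ').symm
    refine ⟨θ, fun b => ?_⟩
    have e1 : (MonoidHom.ofInjective hβ') (θ b) = (MulEquiv.subgroupCongr hε) ((MonoidHom.ofInjective hα') b) := by
      simp [θ]
    exact congrArg Subtype.val e1
  obtain ⟨θ₁, hθ₁⟩ := mk _ h1
  obtain ⟨θ₂, hθ₂⟩ := mk _ h2
  obtain ⟨μ₁, τ₁, hμ₁, hτ₁, et₁, e₁⟩ := aut_SU2_two hF θ₁
  obtain ⟨μ₂, τ₂, hμ₂, hτ₂, et₂, e₂⟩ := aut_SU2_two hF θ₂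
  have hμ₁0 : μ₁ ≠ 0 := left_ne_zero_of_mul_eq_one hμ₁
  have hμ₂0 : μ₂ ≠ 0 := left_ne_zero_of_mul_eq_one hμ₂
  -- equality of the field automorphisms
  have hττ : τ₁ ω = τ₂ ω := by
    obtain ⟨Y, hY⟩ : ∃ Y, Y = rf hF (1 : F) (by ring) := ⟨_, rfl⟩
    have hY00 : mt Y 0 0 = 0 := by rw [hY, rf00]
    have hY10 : mt Y 1 0 = 1 := by rw [hY, rf10]
    obtain ⟨Y', hY'⟩ : ∃ Y', Y' = rf hF ω hωn := ⟨_, rfl⟩
    have hY'00 : mt Y' 0 0 = 0 := by rw [hY', rf00]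
    have hY'10 : mt Y' 1 0 = ω := by rw [hY', rf10]
    have r1 := torus_conj' hF ω hωn Y Y' (by rw [hY00, hY'00]) (by rw [hY10, hY'10, mul_one])
    have r2 := congrArg α r1
    rw [map_mul, map_mul, ← hθ₁, ← hθ₂, ← hθ₂, ← map_mul, ← map_mul] at r2
    have r3 := hβ r2
    have hτn : τ₁ ω * (τ₁ ω) ^ 2 = 1 := by rw [← map_pow, ← map_mul, hωn, map_one]
    rw [et₁ ω hωn hτn] at r3
    have hnn : (τ₁ ω * μ₂) * (τ₁ ω * μ₂) ^ 2 = 1 := by
      rw [mul_pow]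
      linear_combination (μ₂ * μ₂ ^ 2) * hτn + hμ₂
    obtain ⟨W, hW⟩ : ∃ W, W = rf hF (τ₁ ω * μ₂) hnn := ⟨_, rfl⟩
    have r4 := torus_conj' hF (τ₁ ω) hτn (θ₂ Y) W (by rw [(e₂ Y).1, hY00, map_zero, hW, rf00]) (by
      rw [(e₂ Y).2, hY10, map_one, mul_one, hW, rf10])
    rw [r4] at r3
    have r5 := emb_injective hF (tl 2) (mul_right_cancel r3)
    have r6 : mt (θ₂ Y') 1 0 = mt W 1 0 := by rw [r5]
    rw [(e₂ Y').2, hY'10] at r6
    have hW10 : mt W 1 0 = τ₁ ω * μ₂ := by rw [hW, rf10]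
    rw [hW10] at r6
    apply mul_right_cancel₀ hμ₂0
    rw [← r6, mul_comm]
  have hτeq : τ₁ = τ₂ := by
    have hne : (RingEquiv.refl F) ω ≠ (frobE hF) ω := by
      intro h
      rw [frobE_apply] at h
      have h5 : ω = ω ^ 2 := h
      apply hω1
      apply mul_left_cancel₀ hω0
      linear_combination -h5
    rcases hτ₁ with h | h <;> rcases hτ₂ with h' | h'
    · rw [h, h']
    · rw [h, h'] at hττ; exact absurd hττ hne
    · rw [h, h'] at hττ; exact absurd hττ.symm hne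
    · rw [h, h']
  subst hτeq
  have hμμ : (μ₁ * μ₂) * (μ₁ * μ₂) ^ 2 = 1 := by
    rw [mul_pow]
    linear_combination (μ₂ * μ₂ ^ 2) * hμ₁ + hμ₂
  have hD : ∀ i, (![1, μ₁, μ₁ * μ₂] : Fin 3 → F) i * (![1, μ₁, μ₁ * μ₂] : Fin 3 → F) i ^ 2 = 1 := by
    intro i
    fin_cases i
    · simp
    · exact hμ₁
    · exact hμμ
  refine ⟨μ₁, μ₂, τ₁, hD, hμ₁, hμ₂, ?_⟩
  have k1 : ∀ b, α (emb hF (hd (by omega : 2 ≤ 3)) b) = β (tW hF ![1, μ₁, μ₁ * μ₂] hD τ₁ (emb hF (hd (by omega : 2 ≤ 3)) b)) := by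
    intro b
    rw [← hθ₁, tW_emb]
    congr 2
    apply SU2_ext hF
    · rw [(e₁ b).1, mt_tW]
      simp [hd]
    · rw [(e₁ b).2, mt_tW]
      simp [hd]
  have k2 : ∀ b, α (emb hF (tl 2) b) = β (tW hF ![1, μ₁, μ₁ * μ₂] hD τ₁ (emb hF (tl 2) b)) := by
    intro b
    rw [← hθ₂, tW_emb]
    congr 2
    apply SU2_ext hF
    · rw [(e₂ b).1, mt_tW]
      simp [tl]
      linear_combination (-τ₁ (mt b 0 0)) * hμ₁
    · rw [(e₂ b).2, mt_tW]
      simp [tl]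
      linear_combination (-μ₂ * τ₁ (mt b 1 0)) * hμ₁
  obtain ⟨ρ, hρ⟩ := exists_lift β hβ α hr
  intro x
  rw [← hρ]
  congr 1
  apply eq_of_blocks hF ρ (tW hF ![1, μ₁, μ₁ * μ₂] hD τ₁) (tW_injective hF _ _ _)
  · intro b
    apply hβ
    rw [hρ, k1]
  · intro b
    apply hβ
    rw [hρ, k2]

end basic

end H60.Ph.Two
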