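import Mathlib
import Cfsg.Agent.Lib.H60.PhTwoD

/-!
Phan systems over the field with four elements, part E: gluing maps of `SU 4`.
-/

set_option autoImplicit false
set_option linter.unusedSectionVars false
set_option linter.unusedVariables false

namespace H60.Ph.Two

open Matrix Cfsg H16.Herm H60.Ph

/-- everything from the node `k` on -/
def WW {G : Type*} [Group G] {a b : ℕ} (U : Fin a → Subgroup G) (V : Fin b → Subgroup G) (k : ℕ) : Subgroup G :=
  (⨆ (i : Fin a) (_ : k ≤ (i : ℕ)), U i) ⊔ (⨆ (i : Fin b) (_ : k ≤ (i : ℕ)), V i)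

section WW
variable {G : Type*} [Group G] {a b : ℕ} (U : Fin a → Subgroup G) (V : Fin b → Subgroup G)

theorem U_le_WW {k : ℕ} {i : Fin a} (h : k ≤ (i : ℕ)) : U i ≤ WW U V k :=
  (le_iSup₂ (f := fun (i : Fin a) (_ : k ≤ (i : ℕ)) => U i) i h).trans le_sup_left

theorem V_le_WW {k : ℕ} {i : Fin b} (h : k ≤ (i : ℕ)) : V i ≤ WW U V k :=
  (le_iSup₂ (f := fun (i : Fin b) (_ : k ≤ (i : ℕ)) => V i) i h).trans le_sup_right

theorem WW_le {k : ℕ} {H : Subgroup G} (h1 : ∀ i : Fin a, k ≤ (i : ℕ) → U i ≤ H) (h2 : ∀ i : Fin b, k ≤ (i : ℕ) → V i ≤ H) :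
    WW U V k ≤ H := sup_le (iSup₂_le h1) (iSup₂_le h2)

theorem WW_anti {k l : ℕ} (h : k ≤ l) : WW U V l ≤ WW U V k :=
  WW_le U V (fun i hi => U_le_WW U V (h.trans hi)) (fun i hi => V_le_WW U V (h.trans hi))

theorem WW_shift {a b : ℕ} (U : Fin (a + 1) → Subgroup G) (V : Fin (b + 1) → Subgroup G) (k : ℕ) :
    WW (fun i : Fin a => U i.succ) (fun i : Fin b => V i.succ) k ≤ WW U V (k + 1) :=
  WW_le _ _ (fun i hi => U_le_WW U V (by simp; omega)) (fun i hi => V_le_WW U V (by simp; omega))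

end WW

variable {F : Type*} [Field F] [Fintype F] (hF : Fintype.card F = 2 ^ 2)

/-- the hypotheses on the maps -/
structure PhanData2 {G : Type*} [Group G] (n : ℕ) (U : Fin (n + 3) → Subgroup G) (V : Fin (n + 2) → Subgroup G)
    (γ : Fin (n + 1) → (SU 4 F 2 →* G)) : Prop where
  b0 : ∀ i, ((γ i).comp (emb hF (hd (by omega : 2 ≤ 4)))).range = U i.castSucc.castSucc
  b1 : ∀ i, ((γ i).comp (emb hF md)).range = U i.succ.castSucc
  b2 : ∀ i, ((γ i).comp (emb hF tt)).range = U i.succ.succ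
  v0 : ∀ i, ((γ i).comp (emb hF (hd (by omega : 3 ≤ 4)))).range = V i.castSucc
  v1 : ∀ i, ((γ i).comp (emb hF (tl 3))).range = V i.succ
  inj : ∀ i, Function.Injective (γ i)
  hc : ∀ i j : Fin (n + 3), (i : ℕ) + 2 ≤ j → ∀ x ∈ U i, ∀ y ∈ U j, x * y = y * x
  h5 : ∀ (i : Fin (n + 3)) (j : Fin (n + 2)), (i : ℕ) + 2 ≤ j → ∀ x ∈ U i, ∀ y ∈ V j, x * y = y * x
  h5' : ∀ (i : Fin (n + 3)) (j : Fin (n + 2)), (j : ℕ) + 3 ≤ i → ∀ x ∈ U i, ∀ y ∈ V j, x * y = y * x
  h6 : ∀ i j : Fin (n + 2), (i : ℕ) + 3 ≤ j → ∀ x ∈ V i, ∀ y ∈ V j, x * y = y * x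

theorem mem_of_blocks2 {G : Type*} [Group G] {n : ℕ} (hn : 2 ≤ n) (K : Subgroup G) (φ : SU (n + 2) F 2 →* G)
    (h0 : ∀ b, φ (emb hF (hd (by omega : 2 ≤ n + 2)) b) ∈ K) (h1 : ∀ b, φ (emb hF (tl (n + 1)) b) ∈ K) (y : SU (n + 2) F 2) :
    φ y ∈ K := by
  obtain ⟨a, a', a'', b, b', _, _, rfl⟩ := exists_fac_all' hF hn y
  simp only [map_mul]
  exact mul_mem (mul_mem (mul_mem (mul_mem (h1 a) (h0 b)) (h1 a')) (h0 b')) (h1 a'')

theorem exists_glued2 {G : Type*} [Group G] (n : ℕ) (U : Fin (n + 3) → Subgroup G) (V : Fin (n + 2) → Subgroup G)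
    (γ : Fin (n + 1) → (SU 4 F 2 →* G)) (H : PhanData2 hF n U V γ) :
    ∃ f : SU (n + 4) F 2 →* G, (∀ y, f y ∈ WW U V 0) ∧ (∀ c, f (emb hF (tl (n + 3)) c) ∈ WW U V 1) ∧
      (∀ c, f (emb hF (tl (n + 3)) (emb hF (tl (n + 2)) c)) ∈ WW U V 2) ∧ (∀ i, U i ≤ f.range) ∧ (∀ i, V i ≤ f.range) ∧
      Function.Injective (f.comp (emb hF (hd (by omega : 3 ≤ n + 4)))) ∧
      (f.comp (emb hF (hd (by omega : 3 ≤ n + 4)))).range = V 0 ∧
      ((f.comp (emb hF (hd (by omega : 3 ≤ n + 4)))).comp (emb hF (hd (by omega : 2 ≤ 3)))).range = U 0 ∧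
      ((f.comp (emb hF (hd (by omega : 3 ≤ n + 4)))).comp (emb hF (tl 2))).range = U 1 := by
  induction n with
  | zero =>
    have e0 : ∀ b, γ 0 (emb hF (hd (by omega : 2 ≤ 4)) b) ∈ U 0 := by
      intro b
      have := H.b0 0
      rw [show (U 0) = U (0 : Fin 1).castSucc.castSucc from rfl, ← this]
      exact ⟨b, rfl⟩
    have e2 : ∀ b, γ 0 (emb hF tt b) ∈ U 2 := by
      intro b
      have := H.b2 0
      rw [show (U 2) = U (0 : Fin 1).succ.succ from rfl, ← this]
      exact ⟨b, rfl⟩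
    have e3 : ∀ b, γ 0 (emb hF (tl 3) b) ∈ V 1 := by
      intro b
      have := H.v1 0
      rw [show (V 1) = V (0 : Fin 1).succ from rfl, ← this]
      exact ⟨b, rfl⟩
    refine ⟨γ 0, ?_, ?_, ?_, ?_, ?_, ?_, ?_, ?_, ?_⟩
    · intro y
      refine mem_of_blocks2 hF (n := 2) (by omega) _ (γ 0) ?_ ?_ y
      · intro b
        exact U_le_WW U V (Nat.zero_le _) (e0 b)
      · intro b
        exact V_le_WW U V (Nat.zero_le _) (e3 b)
    · intro c
      exact V_le_WW U V (k := 1) (i := 1) (by simp) (e3 c)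
    · intro c
      have h := e2 c
      rw [← emb_tl_tl] at h
      exact U_le_WW U V (k := 2) (i := 2) (by simp) h
    · intro i
      fin_cases i
      · rw [show U ((fun i => i) ⟨0, by omega⟩) = U (0 : Fin 1).castSucc.castSucc from rfl, ← H.b0 0]
        rintro _ ⟨b, rfl⟩
        exact ⟨_, rfl⟩
      · rw [show U ((fun i => i) ⟨1, by omega⟩) = U (0 : Fin 1).succ.castSucc from rfl, ← H.b1 0]
        rintro _ ⟨b, rfl⟩
        exact ⟨_, rfl⟩
      · rw [show U ((fun i => i) ⟨2, by omega⟩) = U (0 : Fin 1).succ.succ from rfl, ← H.b2 0]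
        rintro _ ⟨b, rfl⟩
        exact ⟨_, rfl⟩
    · intro i
      fin_cases i
      · rw [show V ((fun i => i) ⟨0, by omega⟩) = V (0 : Fin 1).castSucc from rfl, ← H.v0 0]
        rintro _ ⟨b, rfl⟩
        exact ⟨_, rfl⟩
      · rw [show V ((fun i => i) ⟨1, by omega⟩) = V (0 : Fin 1).succ from rfl, ← H.v1 0]
        rintro _ ⟨b, rfl⟩
        exact ⟨_, rfl⟩
    · exact (H.inj 0).comp (emb_injective hF _)
    · exact H.v0 0
    · have : ((γ 0).comp (emb hF (hd (by omega : 3 ≤ 0 + 4)))).comp (emb hF (hd (by omega : 2 ≤ 3))) =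
          (γ 0).comp (emb hF (hd (by omega : 2 ≤ 4))) := by
        ext b
        rw [MonoidHom.comp_apply, MonoidHom.comp_apply, MonoidHom.comp_apply, emb_hd_hd]
      rw [this]
      exact H.b0 0
    · have : ((γ 0).comp (emb hF (hd (by omega : 3 ≤ 0 + 4)))).comp (emb hF (tl 2)) =
          (γ 0).comp (emb hF md) := by
        ext b
        rw [MonoidHom.comp_apply, MonoidHom.comp_apply, MonoidHom.comp_apply, ← emb_hd_tl]
      rw [this]
      exact H.b1 0
  | succ n ih =>
    have H' : PhanData2 hF n (fun i => U i.succ) (fun i => V i.succ) (fun i => γ i.succ) :=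
      { b0 := fun i => H.b0 i.succ
        b1 := fun i => H.b1 i.succ
        b2 := fun i => H.b2 i.succ
        v0 := fun i => H.v0 i.succ
        v1 := fun i => H.v1 i.succ
        inj := fun i => H.inj i.succ
        hc := fun i j hij => H.hc i.succ j.succ (by simp; omega)
        h5 := fun i j hij => H.h5 i.succ j.succ (by simp; omega)
        h5' := fun i j hij => H.h5' i.succ j.succ (by simp; omega)
        h6 := fun i j hij => H.h6 i.succ j.succ (by simp; omega) }
    obtain ⟨f, f1, f2, f3, fU, fV, fi, fv, f5, f6⟩ := ih _ _ _ H'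
    have hα1 : ((f.comp (emb hF (hd (by omega : 3 ≤ n + 4)))).comp (emb hF (hd (by omega : 2 ≤ 3)))).range =
        (((γ 0).comp (emb hF (tl 3))).comp (emb hF (hd (by omega : 2 ≤ 3)))).range := by
      have e : ((γ 0).comp (emb hF (tl 3))).comp (emb hF (hd (by omega : 2 ≤ 3))) = (γ 0).comp (emb hF md) := by
        ext b
        rw [MonoidHom.comp_apply, MonoidHom.comp_apply, MonoidHom.comp_apply, emb_tl_hd]
      rw [f5, e]
      exact (H.b1 0).symm
    have hα2 : ((f.comp (emb hF (hd (by omega : 3 ≤ n + 4)))).comp (emb hF (tl 2))).range =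
        (((γ 0).comp (emb hF (tl 3))).comp (emb hF (tl 2))).range := by
      have e : ((γ 0).comp (emb hF (tl 3))).comp (emb hF (tl 2)) = (γ 0).comp (emb hF tt) := by
        ext b
        rw [MonoidHom.comp_apply, MonoidHom.comp_apply, MonoidHom.comp_apply, emb_tl_tl]
      rw [f6, e]
      exact (H.b2 0).symm
    have hβ : Function.Injective ((γ 0).comp (emb hF (tl 3))) := (H.inj 0).comp (emb_injective hF _)
    have hrr : ∀ x, ∃ y, ((γ 0).comp (emb hF (tl 3))) y = (f.comp (emb hF (hd (by omega : 3 ≤ n + 4)))) x := by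
      intro x
      have h1 : (f.comp (emb hF (hd (by omega : 3 ≤ n + 4)))) x ∈ ((γ 0).comp (emb hF (tl 3))).range := by
        rw [H.v1 0]
        have h2 : (f.comp (emb hF (hd (by omega : 3 ≤ n + 4)))) x ∈ (f.comp (emb hF (hd (by omega : 3 ≤ n + 4)))).range := ⟨x, rfl⟩
        rw [fv] at h2
        exact h2
      exact h1
    obtain ⟨μ₁, μ₂, τ, hD, hμ₁, hμ₂, hov⟩ := exists_overlap2 hF _ _ fi hβ hrr hα1 hα2
    have hD4 : ∀ i, (![1, 1, μ₁, μ₁ * μ₂] : Fin 4 → F) i * (![1, 1, μ₁, μ₁ * μ₂] : Fin 4 → F) i ^ 2 = 1 := by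
      intro i
      fin_cases i
      · simp
      · simp
      · exact hμ₁
      · exact hD 2
    obtain ⟨g, hg⟩ : ∃ g : SU 4 F 2 →* G, g = (γ 0).comp (tW hF ![1, 1, μ₁, μ₁ * μ₂] hD4 τ) := ⟨_, rfl⟩
    have hginj : Function.Injective g := by
      rw [hg]
      exact (H.inj 0).comp (tW_injective hF _ _ _)
    have hgtl : ∀ a : SU 3 F 2, g (emb hF (tl 3) a) = f (emb hF (hd (by omega : 3 ≤ n + 4)) a) := by
      intro a
      have h1 := hov a
      rw [MonoidHom.comp_apply] at h1
      rw [h1, hg, MonoidHom.comp_apply, MonoidHom.comp_apply, tW_emb]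
      congr 2
    have hg0 : (g.comp (emb hF (hd (by omega : 2 ≤ 4)))).range = U 0 := by
      rw [hg, range_tw]
      exact H.b0 0
    have hg1 : (g.comp (emb hF md)).range = U 1 := by
      rw [hg, range_tw]
      exact H.b1 0
    have hgv : (g.comp (emb hF (hd (by omega : 3 ≤ 4)))).range = V 0 := by
      rw [hg, range_tw]
      exact H.v0 0
    have hgU : ∀ b, g (emb hF (hd (by omega : 2 ≤ 4)) b) ∈ U 0 := by
      intro b
      rw [← hg0]
      exact ⟨b, rfl⟩
    have hgV : ∀ b, g (emb hF (hd (by omega : 3 ≤ 4)) b) ∈ V 0 := by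
      intro b
      rw [← hgv]
      exact ⟨b, rfl⟩
    obtain ⟨h, hh1, hh2⟩ := exists_extension2 hF (k := n + 2) (by omega) f g (fun a => (hgtl a).symm) (by
        intro b c
        have k1 := hgU b
        have k2 := WW_shift U V 1 (f2 c)
        have hcen : WW U V 2 ≤ Subgroup.centralizer ((U 0 : Subgroup G) : Set G) := by
          apply WW_le
          · intro i hi y hy
            rw [Subgroup.mem_centralizer_iff]
            intro x hx
            exact H.hc 0 i (by simpa using hi) x hx y hy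
          · intro i hi y hy
            rw [Subgroup.mem_centralizer_iff]
            intro x hx
            exact H.h5 0 i (by simpa using hi) x hx y hy
        exact Subgroup.mem_centralizer_iff.mp (hcen k2) _ k1) (by
        intro b c
        have k1 := hgV b
        have k2 := WW_shift U V 2 (f3 c)
        have hcen : WW U V 3 ≤ Subgroup.centralizer ((V 0 : Subgroup G) : Set G) := by
          apply WW_le
          · intro i hi y hy
            rw [Subgroup.mem_centralizer_iff]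
            intro x hx
            exact (H.h5' i 0 (by simpa using hi) y hy x hx).symm
          · intro i hi y hy
            rw [Subgroup.mem_centralizer_iff]
            intro x hx
            exact H.h6 0 i (by simpa using hi) x hx y hy
        exact Subgroup.mem_centralizer_iff.mp (hcen k2) _ k1)
    have hhd : ∀ b, h (emb hF (hd (by omega : 2 ≤ n + 1 + 4)) b) = g (emb hF (hd (by omega : 2 ≤ 4)) b) := by
      intro b
      rw [← hh2, emb_emb]
      rfl
    have hh3 : ∀ x : SU 3 F 2, h (emb hF (hd (by omega : 3 ≤ n + 1 + 4)) x) = g (emb hF (hd (by omega : 3 ≤ 4)) x) := by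
      intro b
      rw [← hh2, emb_emb]
      rfl
    have e3 : h.comp (emb hF (hd (by omega : 3 ≤ n + 1 + 4))) = g.comp (emb hF (hd (by omega : 3 ≤ 4))) := by
      ext x
      rw [MonoidHom.comp_apply, MonoidHom.comp_apply, hh3]
    refine ⟨h, ?_, ?_, ?_, ?_, ?_, ?_, ?_, ?_, ?_⟩
    · intro y
      refine mem_of_blocks2 hF (n := n + 3) (by omega) _ h ?_ ?_ y
      · intro b
        rw [hhd]
        exact U_le_WW U V (Nat.zero_le _) (hgU b)
      · intro b
        have := hh1 b
        rw [show h (emb hF (tl (n + 3 + 1)) b) = f b from this]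
        exact WW_anti U V (Nat.zero_le 1) (WW_shift U V 0 (f1 b))
    · intro c
      rw [show h (emb hF (tl (n + 1 + 3)) c) = f c from hh1 c]
      exact WW_shift U V 0 (f1 c)
    · intro c
      rw [show h (emb hF (tl (n + 1 + 3)) (emb hF (tl (n + 1 + 2)) c)) = f (emb hF (tl (n + 3)) c) from hh1 _]
      exact WW_shift U V 1 (f2 c)
    · intro i
      refine Fin.cases ?_ (fun i => ?_) i
      · intro u hu
        rw [← hg0] at hu
        obtain ⟨b, hb⟩ := hu
        exact ⟨emb hF (hd (by omega : 2 ≤ n + 1 + 4)) b, by rw [hhd]; exact hb⟩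
      · intro u hu
        obtain ⟨y, hy⟩ := fU i hu
        exact ⟨emb hF (tl (n + 4)) y, by rw [← hy]; exact hh1 y⟩
    · intro i
      refine Fin.cases ?_ (fun i => ?_) i
      · intro u hu
        rw [← hgv] at hu
        obtain ⟨b, hb⟩ := hu
        exact ⟨emb hF (hd (by omega : 3 ≤ n + 1 + 4)) b, by rw [hh3]; exact hb⟩
      · intro u hu
        obtain ⟨y, hy⟩ := fV i hu
        exact ⟨emb hF (tl (n + 4)) y, by rw [← hy]; exact hh1 y⟩
    · rw [e3]
      exact hginj.comp (emb_injective hF _)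
    · rw [e3]
      exact hgv
    · have e : (h.comp (emb hF (hd (by omega : 3 ≤ n + 1 + 4)))).comp (emb hF (hd (by omega : 2 ≤ 3))) =
          g.comp (emb hF (hd (by omega : 2 ≤ 4))) := by
        ext b
        show h (emb hF (hd (by omega : 3 ≤ n + 1 + 4)) (emb hF (hd (by omega : 2 ≤ 3)) b)) =
          g (emb hF (hd (by omega : 2 ≤ 4)) b)
        rw [hh3, emb_hd_hd]
      rw [e]
      exact hg0
    · have e : (h.comp (emb hF (hd (by omega : 3 ≤ n + 1 + 4)))).comp (emb hF (tl 2)) = g.comp (emb hF md) := by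
        ext b
        show h (emb hF (hd (by omega : 3 ≤ n + 1 + 4)) (emb hF (tl 2) b)) = g (emb hF md b)
        rw [hh3, emb_hd_tl]
      rw [e]
      exact hg1

end H60.Ph.Two
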