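import Mathlib
import Cfsg.Agent.Lib.H60.PhTwoE
import Cfsg.Agent.Lib.H60.PhT

/-!
Phan systems over the field with four elements, part F: fixed vectors.
-/

set_option autoImplicit false
set_option linter.unusedSectionVars false
set_option linter.unusedVariables false

namespace H60.Ph.Two

open Matrix Cfsg H16.Herm H60.Ph

section ON
variable {F : Type*} [Field F] [Fintype F] {q n : ℕ}

theorem ON_total (hF : Fintype.card F = q ^ 2) {f : Fin n → (Fin n → F)} (hf : ON q f) {y : Fin n → F}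
    (hy : ∀ i, hermForm n F q y (f i) = 0) : y = 0 := by
  let φ : (Fin n → F) →ₗ[F] (Fin n → F) :=
    { toFun := fun w i => hermForm n F q w (f i)
      map_add' := fun a b => by ext i; exact hermForm_add_left _ _ _
      map_smul' := fun c a => by ext i; exact hermForm_smul_left _ _ _ }
  have hsurj : Function.Surjective φ := by
    intro c
    refine ⟨∑ i, c i • f i, ?_⟩
    ext j
    show hermForm n F q (∑ i, c i • f i) (f j) = c j
    rw [form_sum_left, Finset.sum_eq_single j]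
    · rw [hf, if_pos rfl, mul_one]
    · intro b _ hb
      rw [hf, if_neg hb, mul_zero]
    · intro h
      exact absurd (Finset.mem_univ j) h
  have hinj := LinearMap.injective_iff_surjective.mpr hsurj
  apply hinj
  rw [map_zero]
  ext i
  exact hy i

theorem no_five (hF : Fintype.card F = q ^ 2) (f : Fin 5 → (Fin 4 → F)) (hf : ON q f) : False := by
  have h4 : ON q (fun i : Fin 4 => f i.castSucc) := by
    intro i j
    rw [hf]
    by_cases h : i = j
    · subst h; simp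
    · rw [if_neg h, if_neg (fun h' => h (Fin.castSucc_injective _ h'))]
  have h0 : f (Fin.last 4) = 0 := by
    apply ON_total hF h4
    intro i
    rw [hf, if_neg (Fin.castSucc_lt_last i).ne']
  have h1 := hf (Fin.last 4) (Fin.last 4)
  rw [h0, hermForm_zero_left, if_pos rfl] at h1
  exact zero_ne_one h1

theorem perp_of_eig (A : SU n F q) {x y : Fin n → F} {c d : F} (hd : d * d ^ q = 1) (hx : mt A *ᵥ x = c • x)
    (hy : mt A *ᵥ y = d • y) (hcd : c ≠ d) : hermForm n F q x y = 0 := by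
  have h1 := mt_form A x y
  rw [hx, hy, hermForm_smul_left, hermForm_smul_right] at h1
  have h2 : (c * d ^ q - 1) * hermForm n F q x y = 0 := by linear_combination h1
  rcases mul_eq_zero.mp h2 with h3 | h3
  · exfalso
    apply hcd
    have hd0 : d ^ q ≠ 0 := right_ne_zero_of_mul_eq_one hd
    apply mul_right_cancel₀ hd0
    rw [hd]
    linear_combination h3
  · exact h3

end ON

section basic
variable {F : Type*} [Field F] [Fintype F] (hF : Fintype.card F = 2 ^ 2)
include hF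

/-- an element of order three moves some unit eigenvector -/
theorem exists_eig_ne {n : ℕ} (A : SU n F 2) (hA : A * A * A = 1) (hA1 : A ≠ 1) :
    ∃ (u : Fin n → F) (c : F), hermForm n F 2 u u = 1 ∧ c * c ^ 2 = 1 ∧ c ≠ 1 ∧ mt A *ᵥ u = c • u := by
  obtain ⟨f, c, hf, hc⟩ := exists_diagN hF (mt A) (mt_form A) (by
    rw [pow_succ, pow_two, ← mt_mul, ← mt_mul, hA, mt_one]) n le_rfl
  by_contra hcon
  push Not at hcon
  apply hA1
  apply eq_one_of_fix
  intro x
  have hfix : ∀ i, mt A *ᵥ f i = f i := by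
    intro i
    by_cases h1 : c i = 1
    · rw [(hc i).2, h1, one_smul]
    · exact absurd (hc i).2 (hcon (f i) (c i) (by rw [hf, if_pos rfl]) (hc i).1 h1)
  have h0 : mt A *ᵥ x - x = 0 := by
    apply ON_total hF hf
    intro i
    rw [hermForm_sub_left]
    conv_lhs => rw [← hfix i]
    rw [mt_form, hfix, sub_self]
  exact sub_eq_zero.mp h0

/-- simultaneous eigenvectors -/
theorem exists_eig_comm {n : ℕ} (A B : SU n F 2) (hAB : A * B = B * A) (hB : B * B * B = 1) (u : Fin n → F)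
    (hu : hermForm n F 2 u u = 1) (c : F) (hA : mt A *ᵥ u = c • u) :
    ∃ (f : Fin n → F) (d : F), hermForm n F 2 f f = 1 ∧ d * d ^ 2 = 1 ∧ mt A *ᵥ f = c • f ∧ mt B *ᵥ f = d • f := by
  obtain ⟨ω, hω, hω1, hω0⟩ := exists_om hF
  have h3 := om3 hω
  have h2 := two_zero hF
  obtain ⟨u1, hu1⟩ : ∃ u1, u1 = mt B *ᵥ u := ⟨_, rfl⟩
  obtain ⟨u2, hu2⟩ : ∃ u2, u2 = mt B *ᵥ u1 := ⟨_, rfl⟩
  have hu3 : mt B *ᵥ u2 = u := by
    rw [hu2, hu1, Matrix.mulVec_mulVec, Matrix.mulVec_mulVec, ← mt_mul, ← mt_mul, hB, mt_one, Matrix.one_mulVec]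
  have hcomm : ∀ w, mt A *ᵥ (mt B *ᵥ w) = mt B *ᵥ (mt A *ᵥ w) := by
    intro w
    rw [Matrix.mulVec_mulVec, Matrix.mulVec_mulVec, ← mt_mul, ← mt_mul, hAB]
  have hA1 : mt A *ᵥ u1 = c • u1 := by rw [hu1, hcomm, hA, Matrix.mulVec_smul]
  have hA2 : mt A *ᵥ u2 = c • u2 := by rw [hu2, hcomm, hA1, Matrix.mulVec_smul]
  -- the projections
  have E : ∀ d : F, d * d ^ 2 = 1 → mt B *ᵥ (u + d ^ 2 • u1 + d • u2) = d • (u + d ^ 2 • u1 + d • u2) ∧
      mt A *ᵥ (u + d ^ 2 • u1 + d • u2) = c • (u + d ^ 2 • u1 + d • u2) := by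
    intro d hd
    constructor
    · rw [Matrix.mulVec_add, Matrix.mulVec_add, Matrix.mulVec_smul, Matrix.mulVec_smul, ← hu1, ← hu2, hu3]
      rw [smul_add, smul_add, smul_smul, smul_smul, hd, one_smul, ← pow_two]
      abel
    · rw [Matrix.mulVec_add, Matrix.mulVec_add, Matrix.mulVec_smul, Matrix.mulVec_smul, hA, hA1, hA2]
      rw [smul_add, smul_add, smul_comm c, smul_comm c]
  by_contra hcon
  push Not at hcon
  have Z : ∀ d : F, d * d ^ 2 = 1 → hermForm n F 2 (u + d ^ 2 • u1 + d • u2) (u + d ^ 2 • u1 + d • u2) = 0 := by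
    intro d hd
    by_contra hne
    obtain ⟨e, he0, he⟩ := exists_unit_smul hF hne
    refine hcon _ d he hd ?_ ?_
    · rw [Matrix.mulVec_smul, (E d hd).2, smul_comm]
    · rw [Matrix.mulVec_smul, (E d hd).1, smul_comm]
  have w1 : hermForm n F 2 u1 u1 = 1 := by rw [hu1, mt_form, hu]
  have w2 : hermForm n F 2 u2 u2 = 1 := by rw [hu2, mt_form, w1]
  have S : ∀ d : F, d * d ^ 2 = 1 → 3 + d * (hermForm n F 2 u u1 + hermForm n F 2 u1 u2 + hermForm n F 2 u2 u) +
      d ^ 2 * (hermForm n F 2 u u2 + hermForm n F 2 u1 u + hermForm n F 2 u2 u1) = 0 := by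
    intro d hd
    have := Z d hd
    simp only [hermForm_add_left, hermForm_add_right hF, hermForm_smul_left, hermForm_smul_right, hu, w1, w2] at this
    linear_combination this - (hermForm n F 2 u u1 * d + (d ^ 3 + 1) + hermForm n F 2 u1 u2 * d + hermForm n F 2 u2 u1 * d ^ 2 + 1) * hd
  have Z1 := S 1 (by ring)
  have Zω := S ω h3
  have Zω2 := S (ω ^ 2) (by linear_combination (ω * ω ^ 2 + 1) * h3)
  have : (1 : F) = 0 := by
    linear_combination Z1 + Zω + Zω2 - (hermForm n F 2 u u1 + hermForm n F 2 u1 u2 + hermForm n F 2 u2 u) * hω -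
      (hermForm n F 2 u u2 + hermForm n F 2 u1 u + hermForm n F 2 u2 u1) * (ω ^ 2 - ω + 1) * hω - 4 * h2
  exact one_ne_zero this

/-- injective images of `SU 2` in `SU 3` fix a unit vector -/
theorem exists_fixed_two (e : SU 2 F 2 →* SU 3 F 2) (he : Function.Injective e) :
    ∃ v, hermForm 3 F 2 v v = 1 ∧ ∀ a, mt (e a) *ᵥ v = v := by
  obtain ⟨ω, hω, hω1, hω0⟩ := exists_om hF
  have h3 := om3 hω
  have h2 := two_zero hF
  have h11 : (1 : F) * 1 ^ 2 = 1 := by ring
  obtain ⟨X, hX⟩ : ∃ X, X = rf hF (1 : F) h11 := ⟨_, rfl⟩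
  obtain ⟨Y, hY⟩ : ∃ Y, Y = rf hF ω h3 := ⟨_, rfl⟩
  have hXX : X * X = 1 := by rw [hX, rf_sq]
  have hYY : Y * Y = 1 := by rw [hY, rf_sq]
  have hX1 : X ≠ 1 := by
    intro h
    have h4 : mt X 1 0 = 0 := by rw [h, mt_one]; rfl
    rw [hX, rf10] at h4
    exact one_ne_zero h4
  have hY1 : Y ≠ 1 := by
    intro h
    have h4 : mt Y 1 0 = 0 := by rw [h, mt_one]; rfl
    rw [hY, rf10] at h4
    exact hω0 h4
  have hXY : X * Y ≠ Y * X := by
    intro h
    have h4 : mt (X * Y) 0 0 = mt (Y * X) 0 0 := by rw [h]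
    rw [SU2_mul00 hF, SU2_mul00 hF, hX, hY, rf00, rf00, rf10, rf10] at h4
    apply hω1
    apply mul_left_cancel₀ hω0
    linear_combination h4
  have e1 : ∀ Z, Z * Z = 1 → e Z * e Z = 1 := fun Z hZ => by rw [← map_mul, hZ, map_one]
  have e2 : ∀ Z, Z ≠ 1 → e Z ≠ 1 := fun Z hZ h => hZ (he (by rw [h, map_one]))
  obtain ⟨u, hu0, huu, hu⟩ := inv_struct hF h2 (e1 X hXX) (e2 X hX1)
  obtain ⟨u', hu'0, huu', hu'⟩ := inv_struct hF h2 (e1 Y hYY) (e2 Y hY1)
  obtain ⟨v, hv0, hv⟩ := exists_perp hF (![u, u'] : Fin 2 → (Fin 3 → F)) (by simp)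
  have hvu : hermForm 3 F 2 v u = 0 := hv 0
  have hvu' : hermForm 3 F 2 v u' = 0 := hv 1
  have fX : mt (e X) *ᵥ v = v := fix_of_perp hF hu hvu
  have fY : mt (e Y) *ᵥ v = v := fix_of_perp hF hu' hvu'
  have fmul : ∀ a b, mt (e a) *ᵥ v = v → mt (e b) *ᵥ v = v → mt (e (a * b)) *ᵥ v = v := by
    intro a b ha hb
    rw [map_mul, mt_mul, ← Matrix.mulVec_mulVec, hb, ha]
  have hfix : ∀ a, mt (e a) *ᵥ v = v := by
    intro a
    refine SU2_ind_rf hF (fun a => mt (e a) *ᵥ v = v) ?_ fmul a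
    intro c hc
    have hc0 : c ≠ 0 := left_ne_zero_of_mul_eq_one hc
    rcases om_cases hF hω hc0 with h | h | h
    · subst h
      rw [hX] at fX
      exact fX
    · subst h
      rw [hY] at fY
      exact fY
    · have : rf hF c hc = X * Y * X := by
        rw [hX, hY, ← tor_eq_rf, tor_mul_rf hF ω 1 h3 h11 (by rw [mul_one, ← h]; exact hc)]
        congr 1
        rw [h, mul_one]
      show mt (e (rf hF c hc)) *ᵥ v = v
      rw [this]
      exact fmul _ _ (fmul _ _ fX fY) fX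
  have hvv : hermForm 3 F 2 v v ≠ 0 := by
    intro h
    obtain ⟨c, hc⟩ := isotropic_dep hF hu0 huu h (perp_symm hF hvu)
    obtain ⟨c', hc'⟩ := isotropic_dep hF hu'0 huu' h (perp_symm hF hvu')
    have hc0 : c ≠ 0 := by
      rintro rfl
      rw [zero_smul] at hc
      exact hv0 hc
    have huu'' : u = (c⁻¹ * c') • u' := by
      rw [← smul_smul, ← hc', hc, smul_smul, inv_mul_cancel₀ hc0, one_smul]
    have hu'u : hermForm 3 F 2 u u' = 0 := by
      rw [huu'', hermForm_smul_left, huu', mul_zero]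
    have hfu2 : mt (e Y) *ᵥ u = u := fix_of_perp hF hu' hu'u
    have hfu3 : mt (e X) *ᵥ u' = u' := fix_of_perp hF hu (perp_symm hF hu'u)
    apply hXY
    apply he
    apply mt_inj
    apply Matrix.ext_of_mulVec_single
    intro i
    rw [map_mul, map_mul, mt_mul, mt_mul, ← Matrix.mulVec_mulVec, ← Matrix.mulVec_mulVec]
    obtain ⟨a, ha⟩ := hu (Pi.single i 1)
    obtain ⟨b, hb⟩ := hu' (Pi.single i 1)
    rw [hb, ha, Matrix.mulVec_add, Matrix.mulVec_add, ha, hb, Matrix.mulVec_smul, Matrix.mulVec_smul, hfu3, hfu2]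
    abel
  obtain ⟨c, hc0, hc⟩ := exists_unit_smul hF hvv
  refine ⟨c • v, hc, fun a => ?_⟩
  rw [Matrix.mulVec_smul, hfix]

/-- lines are fixed -/
theorem fix_of_char {n : ℕ} (ρ : SU 3 F 2 →* SU n F 2) (v : Fin n → F) (hv : hermForm n F 2 v v = 1)
    (h : ∀ x, ∃ c : F, mt (ρ x) *ᵥ v = c • v) (x : SU 3 F 2) : mt (ρ x) *ᵥ v = v := by
  choose χ hχ using h
  have hval : ∀ x, hermForm n F 2 (mt (ρ x) *ᵥ v) v = χ x := by
    intro x
    rw [hχ, hermForm_smul_left, hv, mul_one]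
  let χ' : SU 3 F 2 →* F :=
    { toFun := χ
      map_one' := by rw [← hval, map_one, mt_one, Matrix.one_mulVec, hv]
      map_mul' := by
        intro x y
        rw [← hval, map_mul, mt_mul, ← Matrix.mulVec_mulVec, hχ y, Matrix.mulVec_smul, hχ x, smul_smul,
          hermForm_smul_left, hv]
        ring }
  have := char_trivial hF χ' (by
    intro x
    show χ x * χ x ^ 2 = 1
    have h1 := mt_form (ρ x) v v
    rw [hχ, hermForm_smul_left, hermForm_smul_right, hv] at h1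
    simpa using h1) x
  rw [hχ]
  rw [show χ x = 1 from this, one_smul]

end basic

end H60.Ph.Two
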