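import Mathlib
import Cfsg.Agent.Lib.H60.PhTwoF

/-!
Phan systems over the field with four elements, part G: images of `SU 3` in `SU 4` fix a unit vector.
-/

set_option autoImplicit false
set_option linter.unusedSectionVars false
set_option linter.unusedVariables false

namespace H60.Ph.Two

open Matrix Cfsg H16.Herm H60.Ph

section basic
variable {F : Type*} [Field F] [Fintype F] (hF : Fintype.card F = 2 ^ 2)
include hF

omit hF in
/-- the central element -/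
def zt (hF : Fintype.card F = 2 ^ 2) (ω : F) (hω : ω ^ 2 + ω + 1 = 0) : SU 3 F 2 :=
  dd hF ω hω * pp hF * (pp hF * dd hF ω hω)⁻¹

theorem mt_zt (ω : F) (hω : ω ^ 2 + ω + 1 = 0) : mt (zt hF ω hω) = ω • (1 : Matrix (Fin 3) (Fin 3) F) := by
  have h3 := om3 hω
  have e : mt (dd hF ω hω * pp hF) = ω • mt (pp hF * dd hF ω hω) := by
    rw [mt_mul, mt_mul, mt_dd, mt_pp, Matrix.mul_fin_three, Matrix.mul_fin_three]
    ext i j
    fin_cases i <;> fin_cases j <;> simp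
    all_goals first | linear_combination h3 | linear_combination -h3 | ring
  unfold zt
  rw [mt_mul, e, Matrix.smul_mul, mt_mul_inv]

theorem zt_comm (ω : F) (hω : ω ^ 2 + ω + 1 = 0) (x : SU 3 F 2) : zt hF ω hω * x = x * zt hF ω hω := by
  apply mt_inj
  rw [mt_mul, mt_mul, mt_zt, Matrix.smul_mul, Matrix.mul_smul, Matrix.one_mul, Matrix.mul_one]

theorem rel0 (ω : F) (hω : ω ^ 2 + ω + 1 = 0) :
    dd hF ω hω * pp hF = zt hF ω hω * (pp hF * dd hF ω hω) := by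
  unfold zt
  group

theorem rel_t (ω : F) (hω : ω ^ 2 + ω + 1 = 0) : tt3 hF ω (om3 hω) (pp hF) = pp hF * dd hF ω hω := by
  have h3 := om3 hω
  apply mt_inj
  ext i j
  rw [mt_tt3, mt_mul, mt_pp, mt_dd, Matrix.mul_fin_three]
  fin_cases i <;> fin_cases j <;> simp

theorem rel_t' (ω : F) (hω : ω ^ 2 + ω + 1 = 0) : tt3 hF ω (om3 hω) (dd hF ω hω) = dd hF ω hω := by
  have h3 := om3 hω
  apply mt_inj
  ext i j
  rw [mt_tt3, mt_dd]
  fin_cases i <;> fin_cases j <;> simp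
  linear_combination ω ^ 2 * h3

theorem dd_cube (ω : F) (hω : ω ^ 2 + ω + 1 = 0) : dd hF ω hω * dd hF ω hω * dd hF ω hω = 1 := by
  have h3 := om3 hω
  apply mt_inj
  rw [mt_mul, mt_mul, mt_dd, mt_one, Matrix.mul_fin_three, Matrix.mul_fin_three]
  ext i j
  fin_cases i <;> fin_cases j <;> simp
  · linear_combination h3
  · linear_combination (ω * ω ^ 2 + 1) * h3

theorem pp_cube : pp hF * pp hF * pp hF = 1 := by
  apply mt_inj
  rw [mt_mul, mt_mul, mt_pp, mt_one, Matrix.mul_fin_three, Matrix.mul_fin_three]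
  ext i j
  fin_cases i <;> fin_cases j <;> simp

theorem dd_not_center (ω : F) (hω : ω ^ 2 + ω + 1 = 0) (hω1 : ω ≠ 1) : dd hF ω hω ∉ Subgroup.center (SU 3 F 2) := by
  intro h
  obtain ⟨c, hc⟩ := center_scalar hF h
  rw [mt_dd] at hc
  have h0 := congrFun (congrFun hc 0) 0
  have h1 := congrFun (congrFun hc 1) 1
  simp at h0 h1
  exact hω1 (by rw [h1, ← h0])

omit [Fintype F] hF in
/-- powers of the root of unity -/
def ee (ω : F) (k : ZMod 3) : F := ω ^ k.val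

omit [Fintype F] hF in
theorem ee_add {ω : F} (h3 : ω ^ 3 = 1) (i j : ZMod 3) : ee ω (i + j) = ee ω i * ee ω j := by
  unfold ee
  rw [ZMod.val_add, ← pow_eq_pow_mod _ h3, pow_add]

omit [Fintype F] hF in
theorem ee_zero (ω : F) : ee ω 0 = 1 := by
  unfold ee
  simp

omit [Fintype F] hF in
theorem ee_neg {ω : F} (h3 : ω ^ 3 = 1) (i : ZMod 3) : ee ω i * ee ω (-i) = 1 := by
  rw [← ee_add h3, add_neg_cancel, ee_zero]

omit [Fintype F] hF in
theorem ee_norm {ω : F} (h3 : ω ^ 3 = 1) (i : ZMod 3) : ee ω i * ee ω i ^ 2 = 1 := by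
  unfold ee
  rw [← pow_succ', ← pow_mul, mul_comm, pow_mul, h3, one_pow]

omit [Fintype F] hF in
theorem ee_eq_one {ω : F} (h3 : ω ^ 3 = 1) (h1 : ω ≠ 1) {i : ZMod 3} (h : ee ω i = 1) : i = 0 := by
  fin_cases i
  · rfl
  · exfalso
    have : ω ^ 1 = 1 := h
    rw [pow_one] at this
    exact h1 this
  · exfalso
    have : ω ^ 2 = 1 := h
    apply h1
    linear_combination h3 - ω * this

omit [Fintype F] hF in
theorem ee_inj {ω : F} (h3 : ω ^ 3 = 1) (h1 : ω ≠ 1) {i j : ZMod 3} (h : ee ω i = ee ω j) : i = j := by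
  have h4 : ee ω (i + -j) = 1 := by rw [ee_add h3, h, ee_neg h3]
  have := ee_eq_one h3 h1 h4
  rwa [← sub_eq_add_neg, sub_eq_zero] at this

theorem ee_surj {ω : F} (hω : ω ^ 2 + ω + 1 = 0) {x : F} (hx : x * x ^ 2 = 1) : ∃ i, ee ω i = x := by
  rcases om_cases hF hω (left_ne_zero_of_mul_eq_one hx) with h | h | h
  · exact ⟨0, by rw [ee_zero, h]⟩
  · exact ⟨1, by rw [h]; exact pow_one ω⟩
  · exact ⟨2, by rw [h]; rfl⟩

omit [Fintype F] hF in
/-- simultaneous eigenvectors -/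
def IsE (ω : F) (a b : SU 4 F 2) (w : Fin 4 → F) (x y : ZMod 3) : Prop :=
  hermForm 4 F 2 w w = 1 ∧ mt a *ᵥ w = ee ω x • w ∧ mt b *ᵥ w = ee ω y • w

omit hF in
theorem IsE.step {ω : F} (h3 : ω ^ 3 = 1) {a b Y : SU 4 F 2} (r1 : b * (Y * a) = Y) (r2 : Y * b = a * Y)
    {w : Fin 4 → F} {x y : ZMod 3} (h : IsE ω a b w x y) : IsE ω a b (mt Y *ᵥ w) y (-x) := by
  refine ⟨by rw [mt_form, h.1], ?_, ?_⟩
  · rw [Matrix.mulVec_mulVec, ← mt_mul, ← r2, mt_mul, ← Matrix.mulVec_mulVec, h.2.2, Matrix.mulVec_smul]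
  · have h4 : mt (b * (Y * a)) *ᵥ w = mt Y *ᵥ w := by rw [r1]
    rw [mt_mul, mt_mul, ← Matrix.mulVec_mulVec, ← Matrix.mulVec_mulVec, h.2.1, Matrix.mulVec_smul, Matrix.mulVec_smul] at h4
    calc mt b *ᵥ (mt Y *ᵥ w) = (ee ω (-x) * ee ω x) • (mt b *ᵥ (mt Y *ᵥ w)) := by
          rw [mul_comm, ee_neg h3, one_smul]
      _ = ee ω (-x) • (mt Y *ᵥ w) := by rw [← smul_smul, h4]

omit hF in
theorem IsE.step' {ω : F} (h3 : ω ^ 3 = 1) {a b Y : SU 4 F 2} (r1 : (b * a) * (Y * a) = Y) (r2 : Y * (b * a) = a * Y)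
    {w : Fin 4 → F} {x y : ZMod 3} (h : IsE ω a b w x y) : IsE ω a b (mt Y *ᵥ w) (x + y) (x - y) := by
  have e1 : mt a *ᵥ (mt Y *ᵥ w) = ee ω (x + y) • (mt Y *ᵥ w) := by
    rw [Matrix.mulVec_mulVec, ← mt_mul, ← r2, mt_mul, mt_mul, ← Matrix.mulVec_mulVec, ← Matrix.mulVec_mulVec, h.2.1,
      Matrix.mulVec_smul, h.2.2, smul_smul, ← ee_add h3, Matrix.mulVec_smul]
  refine ⟨by rw [mt_form, h.1], e1, ?_⟩
  have h4 : mt ((b * a) * (Y * a)) *ᵥ w = mt Y *ᵥ w := by rw [r1]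
  rw [mt_mul, mt_mul, mt_mul, ← Matrix.mulVec_mulVec, ← Matrix.mulVec_mulVec, ← Matrix.mulVec_mulVec, h.2.1,
    Matrix.mulVec_smul, Matrix.mulVec_smul, e1, Matrix.mulVec_smul, Matrix.mulVec_smul, smul_smul, ← ee_add h3] at h4
  have h5 : x - y = -(x + (x + y)) := by
    have : ∀ x y : ZMod 3, x - y = -(x + (x + y)) := by decide
    exact this x y
  rw [h5]
  calc mt b *ᵥ (mt Y *ᵥ w) = (ee ω (-(x + (x + y))) * ee ω (x + (x + y))) • (mt b *ᵥ (mt Y *ᵥ w)) := by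
        rw [mul_comm, ee_neg h3, one_smul]
    _ = ee ω (-(x + (x + y))) • (mt Y *ᵥ w) := by rw [← smul_smul, h4]

theorem no_abelian (ρ : SU 3 F 2 →* SU 4 F 2) (hρ : ρ.ker ≤ Subgroup.center (SU 3 F 2)) (ω : F)
    (hω : ω ^ 2 + ω + 1 = 0) (hω1 : ω ≠ 1) (hz : ρ (zt hF ω hω) = 1) : False := by
  have h3 := om3 hω
  have h3' : ω ^ 3 = 1 := by linear_combination h3
  obtain ⟨a, ha⟩ : ∃ a, a = ρ (dd hF ω hω) := ⟨_, rfl⟩
  obtain ⟨b, hb⟩ : ∃ b, b = ρ (pp hF) := ⟨_, rfl⟩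
  obtain ⟨Y, hY⟩ : ∃ Y, Y = ρ (yy hF ω hω) := ⟨_, rfl⟩
  obtain ⟨Y', hY'⟩ : ∃ Y', Y' = ρ (tt3 hF ω h3 (yy hF ω hω)) := ⟨_, rfl⟩
  have hab : a * b = b * a := by
    rw [ha, hb, ← map_mul, rel0, map_mul, hz, one_mul, map_mul]
  have haaa : a * a * a = 1 := by rw [ha, ← map_mul, ← map_mul, dd_cube, map_one]
  have hbbb : b * b * b = 1 := by rw [hb, ← map_mul, ← map_mul, pp_cube, map_one]
  have ha1 : a ≠ 1 := by
    intro h
    apply dd_not_center hF ω hω hω1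
    apply hρ
    rw [MonoidHom.mem_ker, ← ha, h]
  have r1 : b * (Y * a) = Y := by rw [ha, hb, hY, ← map_mul, ← map_mul, rel1]
  have r2 : Y * b = a * Y := by rw [ha, hb, hY, ← map_mul, ← map_mul, rel2]
  have r1' : (b * a) * (Y' * a) = Y' := by
    have h := congrArg (fun x => ρ (tt3 hF ω h3 x)) (rel1 hF ω hω)
    simp only [map_mul] at h
    rw [rel_t hF ω hω, rel_t' hF ω hω, map_mul, ← ha, ← hb, ← hY'] at h
    exact h
  have r2' : Y' * (b * a) = a * Y' := by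
    have h := congrArg (fun x => ρ (tt3 hF ω h3 x)) (rel2 hF ω hω)
    simp only [map_mul] at h
    rw [rel_t hF ω hω, rel_t' hF ω hω, map_mul, ← ha, ← hb, ← hY'] at h
    exact h
  obtain ⟨u, c, hu, hc, hc1, hcu⟩ := exists_eig_ne hF a haaa ha1
  obtain ⟨f, d, hf, hd, hcf, hdf⟩ := exists_eig_comm hF a b hab hbbb u hu c hcu
  obtain ⟨x, rfl⟩ := ee_surj hF hω hc
  obtain ⟨y, rfl⟩ := ee_surj hF hω hd
  have hx : x ≠ 0 := by
    rintro rfl
    exact hc1 (ee_zero ω)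
  have k0 : IsE ω a b f x y := ⟨hf, hcf, hdf⟩
  have k1 := k0.step h3' r1 r2
  have k2 := k1.step h3' r1 r2
  have k3 := k2.step h3' r1 r2
  have k4 := k0.step' h3' r1' r2'
  have key : ∀ x y : ZMod 3, x ≠ 0 → ∀ i j : Fin 5, (![x, y, -x, -y, x + y] : Fin 5 → ZMod 3) i = (![x, y, -x, -y, x + y] : Fin 5 → ZMod 3) j →
      (![y, -x, -y, - -x, x - y] : Fin 5 → ZMod 3) i = (![y, -x, -y, - -x, x - y] : Fin 5 → ZMod 3) j → i = j := by decide
  have all : ∀ i : Fin 5, IsE ω a b ((![f, mt Y *ᵥ f, mt Y *ᵥ (mt Y *ᵥ f), mt Y *ᵥ (mt Y *ᵥ (mt Y *ᵥ f)), mt Y' *ᵥ f] : Fin 5 → (Fin 4 → F)) i)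
      ((![x, y, -x, -y, x + y] : Fin 5 → ZMod 3) i) ((![y, -x, -y, - -x, x - y] : Fin 5 → ZMod 3) i) := by
    intro i
    fin_cases i
    · exact k0
    · exact k1
    · exact k2
    · exact k3
    · exact k4
  refine no_five hF ![f, mt Y *ᵥ f, mt Y *ᵥ (mt Y *ᵥ f), mt Y *ᵥ (mt Y *ᵥ (mt Y *ᵥ f)), mt Y' *ᵥ f] (fun i j => ?_)
  by_cases hij : i = j
  · subst hij
    rw [if_pos rfl]
    exact (all i).1
  · rw [if_neg hij]
    by_cases hxx : (![x, y, -x, -y, x + y] : Fin 5 → ZMod 3) i = (![x, y, -x, -y, x + y] : Fin 5 → ZMod 3) j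
    · have hyy : (![y, -x, -y, - -x, x - y] : Fin 5 → ZMod 3) i ≠ (![y, -x, -y, - -x, x - y] : Fin 5 → ZMod 3) j :=
        fun h => hij (key x y hx i j hxx h)
      exact perp_of_eig b (ee_norm h3' _) (all i).2.2 (all j).2.2 (fun h => hyy (ee_inj h3' hω1 h))
    · exact perp_of_eig a (ee_norm h3' _) (all i).2.1 (all j).2.1 (fun h => hxx (ee_inj h3' hω1 h))

/-- the nontrivial case -/
theorem exists_line (ρ : SU 3 F 2 →* SU 4 F 2) (ω : F) (hω : ω ^ 2 + ω + 1 = 0) (hω1 : ω ≠ 1)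
    (hz : ρ (zt hF ω hω) ≠ 1) : ∃ v, hermForm 4 F 2 v v = 1 ∧ ∀ x, ∃ c : F, mt (ρ x) *ᵥ v = c • v := by
  have h3 := om3 hω
  have h3' : ω ^ 3 = 1 := by linear_combination h3
  obtain ⟨a, ha⟩ : ∃ a, a = ρ (dd hF ω hω) := ⟨_, rfl⟩
  obtain ⟨b, hb⟩ : ∃ b, b = ρ (pp hF) := ⟨_, rfl⟩
  obtain ⟨z, hz'⟩ : ∃ z, z = ρ (zt hF ω hω) := ⟨_, rfl⟩
  rw [← hz'] at hz
  have hzc : ∀ x, z * ρ x = ρ x * z := by
    intro x
    rw [hz', ← map_mul, zt_comm, map_mul]
  have hzzz : z * z * z = 1 := by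
    rw [hz', ← map_mul, ← map_mul]
    have : zt hF ω hω * zt hF ω hω * zt hF ω hω = 1 := by
      apply mt_inj
      rw [mt_mul, mt_mul, mt_zt, mt_one]
      simp only [Matrix.smul_mul, Matrix.mul_smul, Matrix.one_mul, smul_smul]
      rw [show ω * (ω * ω) = 1 by linear_combination h3, one_smul]
    rw [this, map_one]
  have haaa : a * a * a = 1 := by rw [ha, ← map_mul, ← map_mul, dd_cube, map_one]
  have hab : a * b = z * (b * a) := by
    rw [ha, hb, hz', ← map_mul, rel0, map_mul, map_mul]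
  obtain ⟨u, l, hu, hl, hl1, hlu⟩ := exists_eig_ne hF z hzzz hz
  obtain ⟨f, d, hf, hdn, hlf, hdf⟩ := exists_eig_comm hF z a (by rw [ha]; exact hzc _) haaa u hu l hlu
  have hzb : ∀ w, mt z *ᵥ (mt b *ᵥ w) = mt b *ᵥ (mt z *ᵥ w) := by
    intro w
    rw [Matrix.mulVec_mulVec, Matrix.mulVec_mulVec, ← mt_mul, ← mt_mul, hb, hzc]
  have hstep : ∀ (w : Fin 4 → F) (c : F), mt z *ᵥ w = l • w → mt a *ᵥ w = c • w →
      mt z *ᵥ (mt b *ᵥ w) = l • (mt b *ᵥ w) ∧ mt a *ᵥ (mt b *ᵥ w) = (c * l) • (mt b *ᵥ w) := by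
    intro w c hw hw'
    have e1 : mt z *ᵥ (mt b *ᵥ w) = l • (mt b *ᵥ w) := by rw [hzb, hw, Matrix.mulVec_smul]
    refine ⟨e1, ?_⟩
    rw [Matrix.mulVec_mulVec, ← mt_mul, hab, mt_mul, mt_mul, ← Matrix.mulVec_mulVec, ← Matrix.mulVec_mulVec, hw',
      Matrix.mulVec_smul, Matrix.mulVec_smul, e1, smul_smul]
  obtain ⟨z1, a1⟩ := hstep f d hlf hdf
  obtain ⟨z2, a2⟩ := hstep _ _ z1 a1
  obtain ⟨f1, hf1⟩ : ∃ f1, f1 = mt b *ᵥ f := ⟨_, rfl⟩
  obtain ⟨f2, hf2⟩ : ∃ f2, f2 = mt b *ᵥ f1 := ⟨_, rfl⟩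
  rw [← hf1] at z1 a1 z2 a2
  rw [← hf2] at z2 a2
  have n1 : hermForm 4 F 2 f1 f1 = 1 := by rw [hf1, mt_form, hf]
  have n2 : hermForm 4 F 2 f2 f2 = 1 := by rw [hf2, mt_form, n1]
  have hl0 : l ≠ 0 := left_ne_zero_of_mul_eq_one hl
  have hd0 : d ≠ 0 := left_ne_zero_of_mul_eq_one hdn
  have c1 : d * l ≠ d := by
    intro h
    apply hl1
    apply mul_left_cancel₀ hd0
    rw [h, mul_one]
  have c2 : d * l * l ≠ d * l := by
    intro h
    apply hl1
    apply mul_left_cancel₀ (mul_ne_zero hd0 hl0)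
    rw [h, mul_one]
  have c3 : d * l * l ≠ d := by
    intro h
    apply hl1
    have h5 : l * l = 1 := by
      apply mul_left_cancel₀ hd0
      linear_combination h
    linear_combination hl - l * h5
  have p10 := perp_of_eig a hdn a1 hdf c1
  have p20 := perp_of_eig a hdn a2 hdf c3
  have p21 := perp_of_eig a (cube_one hF (mul_ne_zero hd0 hl0)) a2 a1 c2
  have hON : ON 2 (![f, f1, f2] : Fin 3 → (Fin 4 → F)) := by
    intro i j
    fin_cases i <;> fin_cases j <;> simp [hf, n1, n2, p10, p20, p21, perp_symm hF p10, perp_symm hF p20, perp_symm hF p21]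
  obtain ⟨s, hs⟩ := exists_SU_hd hF (by omega : 3 < 4) _ hON
  have hsi : ∀ i : Fin 3, mt s *ᵥ (Pi.single (hd (by omega : 3 ≤ 4) i) 1) = (![f, f1, f2] : Fin 3 → (Fin 4 → F)) i := by
    intro i
    rw [← ext_single, hs, Finset.sum_eq_single i]
    · simp
    · intro b _ hb
      rw [Pi.single_eq_of_ne hb, zero_smul]
    · simp
  have hzi : ∀ i : Fin 3, mt z *ᵥ ((![f, f1, f2] : Fin 3 → (Fin 4 → F)) i) = l • ((![f, f1, f2] : Fin 3 → (Fin 4 → F)) i) := by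
    intro i
    fin_cases i
    · exact hlf
    · exact z1
    · exact z2
  obtain ⟨v, hv⟩ : ∃ v, v = mt s *ᵥ (Pi.single 3 1) := ⟨_, rfl⟩
  have hvv : hermForm 4 F 2 v v = 1 := by rw [hv, mt_form, hermForm_single_left]; simp
  have hvi : ∀ i : Fin 3, hermForm 4 F 2 v ((![f, f1, f2] : Fin 3 → (Fin 4 → F)) i) = 0 := by
    intro i
    rw [← hsi, hv, mt_form, hermForm_single_left]
    fin_cases i <;> simp [hd]
  -- vectors perpendicular to the frame
  have hperp : ∀ w : Fin 4 → F, (∀ i : Fin 3, hermForm 4 F 2 w ((![f, f1, f2] : Fin 3 → (Fin 4 → F)) i) = 0) → ∃ c : F, w = c • v := by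
    intro w hw
    obtain ⟨w', hw'⟩ : ∃ w', w' = mt s⁻¹ *ᵥ w := ⟨_, rfl⟩
    have hsw : mt s *ᵥ w' = w := by rw [hw', Matrix.mulVec_mulVec, mt_mul_inv, Matrix.one_mulVec]
    have h0 : ∀ i : Fin 3, w' (hd (by omega : 3 ≤ 4) i) = 0 := by
      intro i
      rw [← hermForm_single_right (q := 2) w' _ hF, ← mt_form s, hsw, hsi]
      exact hw i
    have e : w' = w' 3 • (Pi.single 3 1 : Fin 4 → F) := by
      ext i
      fin_cases i
      · simpa using h0 0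
      · simpa using h0 1
      · simpa using h0 2
      · simp
    refine ⟨w' 3, ?_⟩
    rw [← hsw, hv, ← Matrix.mulVec_smul, ← e]
  have hli : ∀ i : Fin 3, (![f, f1, f2] : Fin 3 → (Fin 4 → F)) i = l⁻¹ • (mt z *ᵥ ((![f, f1, f2] : Fin 3 → (Fin 4 → F)) i)) := by
    intro i
    rw [hzi, smul_smul, inv_mul_cancel₀ hl0, one_smul]
  obtain ⟨ν, hν⟩ := hperp (mt z *ᵥ v) (by
    intro i
    rw [hli i, hermForm_smul_right, mt_form, hvi, mul_zero])
  have hmat : mt z * mt s = mt s * Matrix.diagonal ![l, l, l, ν] := by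
    apply Matrix.ext_of_mulVec_single
    intro j
    rw [← Matrix.mulVec_mulVec, ← Matrix.mulVec_mulVec, Matrix.diagonal_mulVec_single, mul_one]
    have hsm : ∀ c : F, mt s *ᵥ (Pi.single j c) = c • (mt s *ᵥ (Pi.single j 1)) := by
      intro c
      rw [← Matrix.mulVec_smul]
      congr 1
      ext i
      by_cases hij : i = j
      · subst hij; simp
      · simp [Pi.single_eq_of_ne hij]
    rw [hsm ((![l, l, l, ν] : Fin 4 → F) j)]
    fin_cases j
    · have := hsi 0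
      rw [show mt s *ᵥ (Pi.single ((fun i => i) ⟨0, by omega⟩ : Fin 4) 1) = f from this]
      exact hlf
    · have := hsi 1
      rw [show mt s *ᵥ (Pi.single ((fun i => i) ⟨1, by omega⟩ : Fin 4) 1) = f1 from this]
      exact z1
    · have := hsi 2
      rw [show mt s *ᵥ (Pi.single ((fun i => i) ⟨2, by omega⟩ : Fin 4) 1) = f2 from this]
      exact z2
    · rw [show mt s *ᵥ (Pi.single ((fun i => i) ⟨3, by omega⟩ : Fin 4) 1) = v from hv.symm]
      exact hν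
  have hν1 : ν = 1 := by
    have h := congrArg Matrix.det hmat
    rw [Matrix.det_mul, Matrix.det_mul, mt_det, mt_det, Matrix.det_diagonal, Fin.prod_univ_four] at h
    simp at h
    linear_combination -h - ν * hl
  rw [hν1, one_smul] at hν
  refine ⟨v, hvv, fun x => ?_⟩
  apply hperp
  intro i
  have e1 : mt z *ᵥ (mt (ρ x) *ᵥ v) = mt (ρ x) *ᵥ v := by
    rw [Matrix.mulVec_mulVec, ← mt_mul, hzc, mt_mul, ← Matrix.mulVec_mulVec, hν]
  exact perp_of_eig z hl (by rw [e1, one_smul]) (hzi i) (Ne.symm hl1)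

/-- **Images of `SU 3` in `SU 4` fix a unit vector.** -/
theorem exists_fixed_vec (ρ : SU 3 F 2 →* SU 4 F 2) (hρ : ρ.ker ≤ Subgroup.center (SU 3 F 2)) :
    Function.Injective ρ ∧ ∃ v, hermForm 4 F 2 v v = 1 ∧ ∀ x, mt (ρ x) *ᵥ v = v := by
  obtain ⟨ω, hω, hω1, hω0⟩ := exists_om hF
  have h3 := om3 hω
  have hz : ρ (zt hF ω hω) ≠ 1 := fun h => no_abelian hF ρ hρ ω hω hω1 h
  constructor
  · rw [injective_iff_map_eq_one]
    intro x hx
    obtain ⟨c, hc⟩ := center_scalar hF (hρ hx)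
    have hcn : c * c ^ 2 = 1 := by
      have h4 := mt_form x (Pi.single 0 1) (Pi.single 0 1)
      rw [hc, Matrix.smul_mulVec, Matrix.one_mulVec, hermForm_smul_left, hermForm_smul_right, hermForm_single_left] at h4
      simpa using h4
    rcases om_cases hF hω (left_ne_zero_of_mul_eq_one hcn) with h | h | h
    · apply mt_inj
      rw [hc, h, one_smul, mt_one]
    · exfalso
      apply hz
      have : x = zt hF ω hω := mt_inj (by rw [hc, mt_zt, h])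
      rw [← this, hx]
    · exfalso
      apply hz
      have : x * x = zt hF ω hω := by
        apply mt_inj
        rw [mt_mul, hc, mt_zt, h, Matrix.smul_mul, Matrix.mul_smul, Matrix.one_mul, smul_smul]
        congr 1
        linear_combination ω * h3
      rw [← this, map_mul, hx, one_mul]
  · obtain ⟨v, hv, hvx⟩ := exists_line hF ρ ω hω hω1 hz
    exact ⟨v, hv, fix_of_char hF ρ v hv hvx⟩

end basic

end H60.Ph.Two
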