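import Mathlib
import Cfsg.Agent.Lib.H60.PhT

/-!
Phan systems, part U: commuting copies of `SU 2` in quotients of `SU 4`, nine elements.
-/

set_option autoImplicit false
set_option linter.unusedSectionVars false
set_option linter.unusedVariables false

namespace H60.Ph

open Matrix Cfsg H16.Herm

variable {F : Type*} [Field F] [Fintype F] (hF : Fintype.card F = 3 ^ 2)

/-- the central involution of `SU 2` -/
def zz : SU 2 F 3 := tor hF (-1) (by ring)

include hF

theorem zz00 : mt (zz hF) 0 0 = -1 := by rw [zz, mt_tor]; rfl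
theorem zz10 : mt (zz hF) 1 0 = 0 := by rw [zz, mt_tor]; rfl
theorem zz01 : mt (zz hF) 0 1 = 0 := by rw [zz, mt_tor]; rfl
theorem zz11 : mt (zz hF) 1 1 = -1 := by rw [zz, mt_tor]; simp; ring

theorem mt_zz : mt (zz hF) = -1 := by
  ext i j
  fin_cases i <;> fin_cases j
  · simpa using zz00 hF
  · simpa using zz01 hF
  · simpa using zz10 hF
  · simpa using zz11 hF

theorem zz_zz : zz hF * zz hF = 1 := by
  apply mt_inj
  rw [mt_mul, mt_zz, mt_one, neg_mul_neg, Matrix.one_mul]

theorem zz_comm (a : SU 2 F 3) : zz hF * a = a * zz hF := by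
  apply mt_inj
  rw [mt_mul, mt_mul, mt_zz, neg_mul, mul_neg, Matrix.one_mul, Matrix.mul_one]

theorem zz_ne : zz hF ≠ 1 := by
  intro h
  have := congrArg (fun s => mt s 0 0) h
  simp only [zz00, mt_one] at this
  simp at this
  apply two_ne hF
  linear_combination -this

theorem wl_wl : wl (q := 3) hF * wl (q := 3) hF = zz hF := by
  apply SU2_ext hF
  · rw [SU2_mul00 hF, mt_wl00, mt_wl10, zz00]
    ring
  · rw [SU2_mul10 hF, mt_wl00, mt_wl10, zz10]
    ring

theorem XX (ι : F) (hι : ι ^ 2 = -1) : tor hF ι (iota_norm hι) * tor hF ι (iota_norm hι) = zz hF :=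
  tor_pow hF ι hι

theorem XYX (ι : F) (hι : ι ^ 2 = -1) :
    tor hF ι (iota_norm hι) * wl (q := 3) hF * tor hF ι (iota_norm hι) = wl (q := 3) hF := by
  have hX00 : mt (tor hF ι (iota_norm hι)) 0 0 = ι := by rw [mt_tor]; rfl
  have hX10 : mt (tor hF ι (iota_norm hι)) 1 0 = 0 := by rw [mt_tor]; rfl
  apply SU2_ext hF
  · rw [SU2_mul00 hF, SU2_mul00 hF, SU2_mul10 hF, hX00, hX10, mt_wl00, mt_wl10]
    ring
  · rw [SU2_mul10 hF, SU2_mul00 hF, SU2_mul10 hF, hX00, hX10, mt_wl00, mt_wl10]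
    linear_combination (ι ^ 2 - 1) * hι

/-- commuting homomorphisms have commuting lifts -/
theorem lifts_commute {G : Type*} [Group G] (g : SU 4 F 3 →* G) (hna : ∃ a b, g a * g b ≠ g b * g a)
    (α β : SU 2 F 3 →* G) (hα : ∀ u, ∃ a, g a = α u) (hc : ∀ u v, α u * β v = β v * α u) (u : SU 2 F 3) :
    ∀ v a c, g a = α u → g c = β v → a * c = c * a := by
  refine SU2_ind hF (fun u => ∀ v a c, g a = α u → g c = β v → a * c = c * a) ?_ ?_ u
  · intro u hu v a c ha hcv
    obtain ⟨ζ, hζ, h1⟩ := same_image hF g hna (a * c) (c * a) (by rw [map_mul, map_mul, ha, hcv, hc])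
    obtain ⟨κ, hκ, h2⟩ := same_image hF g hna (a * a * a * a) a (by
      rw [map_mul, map_mul, map_mul, ha, ← map_mul, ← map_mul, ← map_mul, hu, one_mul])
    have hκ0 : κ ≠ 0 := left_ne_zero_of_mul_eq_one hκ
    rw [mt_mul, mt_mul] at h1
    apply mt_inj
    rw [mt_mul, mt_mul]
    have e1 : mt (a * a * a * a) * mt c = mt c * mt (a * a * a * a) := by
      rw [mt_mul, mt_mul, mt_mul]
      have hζ4 : ζ * (ζ * (ζ * ζ)) = 1 := by linear_combination hζ
      calc mt a * mt a * mt a * mt a * mt c = mt a * (mt a * (mt a * (mt a * mt c))) := by simp only [Matrix.mul_assoc]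
        _ = (ζ * (ζ * (ζ * ζ))) • (mt c * (mt a * mt a * mt a * mt a)) := by
          rw [h1]
          simp only [Matrix.mul_smul, smul_smul]
          rw [← Matrix.mul_assoc (mt a) (mt c), h1]
          simp only [Matrix.mul_smul, Matrix.smul_mul, smul_smul]
          rw [← Matrix.mul_assoc (mt a) (mt c * mt a), ← Matrix.mul_assoc (mt a) (mt c), h1]
          simp only [Matrix.mul_smul, Matrix.smul_mul, smul_smul]
          rw [← Matrix.mul_assoc (mt a) (mt c * mt a * mt a), ← Matrix.mul_assoc (mt a) (mt c * mt a),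
            ← Matrix.mul_assoc (mt a) (mt c), h1]
          simp only [Matrix.mul_smul, Matrix.smul_mul, smul_smul, Matrix.mul_assoc]
          congr 1
          ring
        _ = _ := by rw [hζ4, one_smul]
    rw [h2, Matrix.smul_mul, Matrix.mul_smul] at e1
    have e2 := congrArg (fun M => κ⁻¹ • M) e1
    simpa only [smul_smul, inv_mul_cancel₀ hκ0, one_smul] using e2
  · intro u u' hu hu' v a c ha hcv
    obtain ⟨a₁, h1⟩ := hα u
    obtain ⟨a₂, h2⟩ := hα u'
    obtain ⟨κ, hκ, h3⟩ := same_image hF g hna a (a₁ * a₂) (by rw [ha, map_mul, map_mul, h1, h2])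
    have c1 := hu v a₁ c h1 hcv
    have c2 := hu' v a₂ c h2 hcv
    apply mt_inj
    rw [mt_mul, mt_mul, h3, Matrix.smul_mul, Matrix.mul_smul, ← mt_mul, ← mt_mul]
    congr 2
    rw [mul_assoc, c2, ← mul_assoc, c1, mul_assoc]

/-- lifts of the quaternion generators -/
theorem quat_lifts {G : Type*} [Group G] (g : SU 4 F 3 →* G) (hna : ∃ a b, g a * g b ≠ g b * g a)
    (α : SU 2 F 3 →* G) (hα : ∀ u, ∃ a, g a = α u) (hz : ∃ b, g b * α (zz hF) ≠ α (zz hF) * g b) (ι : F)
    (hι : ι ^ 2 = -1) :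
    ∃ x y t : SU 4 F 3, g x = α (tor hF ι (iota_norm hι)) ∧ g y = α (wl hF) ∧ g t = α (zz hF) ∧ x * y = t * (y * x) ∧
      x * t = t * x ∧ y * t = t * y ∧ t * t = 1 ∧ ∀ c : F, mt t ≠ c • (1 : Matrix (Fin 4) (Fin 4) F) := by
  set X := tor hF ι (iota_norm hι) with hX
  set Y := wl (q := 3) hF with hY
  obtain ⟨x, hx⟩ := hα X
  obtain ⟨y, hy⟩ := hα Y
  have hXX : X * X = zz hF := XX hF ι hι
  have hYY : Y * Y = zz hF := wl_wl hF
  have hXYX : X * Y * X = Y := XYX hF ι hι
  have hcom : X * Y * (Y * X)⁻¹ = zz hF := by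
    have h1 : X * Y = Y * X⁻¹ := eq_mul_inv_of_mul_eq hXYX
    rw [h1, _root_.mul_inv_rev]
    have h2 : Y * X⁻¹ * (X⁻¹ * Y⁻¹) = Y * (X * X)⁻¹ * Y⁻¹ := by group
    rw [h2, hXX]
    have h3 : (zz hF)⁻¹ = zz hF := inv_eq_of_mul_eq_one_left (zz_zz hF)
    rw [h3, ← zz_comm, mul_assoc, mul_inv_cancel, mul_one]
  obtain ⟨t, ht⟩ : ∃ t, t = x * y * (y * x)⁻¹ := ⟨_, rfl⟩
  have hgt : g t = α (zz hF) := by
    rw [ht, map_mul, map_mul, map_inv, map_mul, hx, hy, ← map_mul, ← map_mul, ← map_inv, ← map_mul, hcom]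
  have hxy : x * y = t * (y * x) := by rw [ht, inv_mul_cancel_right]
  have comm_of : ∀ w : SU 4 F 3, g (w * w) = g t → w * t = t * w := by
    intro w hw
    obtain ⟨κ, hκ, h1⟩ := same_image hF g hna (w * w) t hw
    have hκ0 : κ ≠ 0 := left_ne_zero_of_mul_eq_one hκ
    apply mt_inj
    have h2 : mt w * mt (w * w) = mt (w * w) * mt w := by rw [← mt_mul, ← mt_mul, mul_assoc]
    rw [h1, Matrix.mul_smul, Matrix.smul_mul] at h2
    have e2 := congrArg (fun M => κ⁻¹ • M) h2
    rw [mt_mul, mt_mul]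
    simpa only [smul_smul, inv_mul_cancel₀ hκ0, one_smul] using e2
  have hxt : x * t = t * x := comm_of x (by rw [map_mul, hx, ← map_mul, hXX, hgt])
  have hyt : y * t = t * y := comm_of y (by rw [map_mul, hy, ← map_mul, hYY, hgt])
  have hxxy : x * x * y = y * (x * x) := by
    obtain ⟨κ, hκ, h1⟩ := same_image hF g hna (x * x) t (by rw [map_mul, hx, ← map_mul, hXX, hgt])
    apply mt_inj
    rw [mt_mul (x * x) y, mt_mul y (x * x), h1, Matrix.smul_mul, Matrix.mul_smul, ← mt_mul, ← mt_mul, hyt]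
  have htt : t * t = 1 := by
    have h1 : x * x * y = t * t * (y * (x * x)) := by
      calc x * x * y = x * (x * y) := by group
        _ = x * t * (y * x) := by rw [hxy]; group
        _ = t * (x * y) * x := by rw [hxt]; group
        _ = t * t * (y * (x * x)) := by rw [hxy]; group
    rw [hxxy] at h1
    exact (mul_eq_right.mp h1.symm)
  refine ⟨x, y, t, hx, hy, hgt, hxy, hxt, hyt, htt, fun c hc => ?_⟩
  obtain ⟨b, hb⟩ := hz
  apply hb
  rw [← hgt, ← map_mul, ← map_mul]
  congr 1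
  apply mt_inj
  rw [mt_mul, mt_mul, hc, Matrix.mul_smul, Matrix.smul_mul, Matrix.mul_one, Matrix.one_mul]

/-- diagonal form of an involution -/
theorem exists_conj_invol (t : SU 4 F 3) (htt : t * t = 1) (hns : ∀ c : F, mt t ≠ c • (1 : Matrix (Fin 4) (Fin 4) F)) :
    ∃ s : SU 4 F 3, mt (s⁻¹ * t * s) = Matrix.diagonal ![-1, -1, 1, 1] := by
  have h2 := two_ne hF
  have hne : (-1 : F) ≠ 1 := by
    intro h
    apply h2
    linear_combination -h
  have hMM : mt t * mt t = 1 := by rw [← mt_mul, htt, mt_one]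
  obtain ⟨f, c, hf, hc⟩ := exists_diagN hF (mt t) (mt_form t) (by
    rw [pow_succ, pow_succ, pow_two, hMM, Matrix.one_mul, hMM]) 4 le_rfl
  have hcs : ∀ i, c i = 1 ∨ c i = -1 := by
    intro i
    have h3 : mt t *ᵥ (mt t *ᵥ f i) = f i := by
      rw [Matrix.mulVec_mulVec, hMM, Matrix.one_mulVec]
    rw [(hc i).2, Matrix.mulVec_smul, (hc i).2, smul_smul] at h3
    have h4 : (c i * c i - 1) • f i = 0 := by rw [sub_smul, h3, one_smul, sub_self]
    rcases smul_eq_zero.mp h4 with h5 | h5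
    · exact mul_self_eq_one_iff.mp (sub_eq_zero.mp h5)
    · exfalso
      have h6 := hf i i
      rw [h5, hermForm_zero_left, if_pos rfl] at h6
      exact zero_ne_one h6
  set P : Matrix (Fin 4) (Fin 4) F := Matrix.of fun k i => f i k with hP
  have hPd : P.det ≠ 0 := by
    have := det_norm_of_ON hF hf
    exact left_ne_zero_of_mul_eq_one this
  have hPcol : ∀ i, P *ᵥ (Pi.single i 1) = f i := by
    intro i
    rw [col_single]
    rfl
  have htP : mt t * P = P * Matrix.diagonal c := by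
    apply Matrix.ext_of_mulVec_single
    intro j
    rw [← Matrix.mulVec_mulVec, hPcol, (hc j).2, ← Matrix.mulVec_mulVec, Matrix.diagonal_mulVec_single, mul_one,
      ← hPcol j, ← Matrix.mulVec_smul]
    congr 1
    ext i
    by_cases hij : i = j
    · subst hij; simp
    · simp [Pi.single_eq_of_ne hij]
  have hprod : ∏ i, c i = 1 := by
    have h3 := congrArg Matrix.det htP
    rw [Matrix.det_mul, Matrix.det_mul, mt_det, Matrix.det_diagonal, one_mul] at h3
    exact (mul_eq_left₀ hPd).mp h3.symm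
  have hPi : P * P⁻¹ = 1 := Matrix.mul_nonsing_inv P (isUnit_iff_ne_zero.mpr hPd)
  have hconst : ∀ d : F, ¬ ∀ i, c i = d := by
    intro d hd
    apply hns d
    have h3 : Matrix.diagonal c = d • (1 : Matrix (Fin 4) (Fin 4) F) := by
      rw [Matrix.smul_one_eq_diagonal]
      congr 1
      ext i
      exact hd i
    rw [h3, Matrix.mul_smul, Matrix.mul_one] at htP
    calc mt t = mt t * (P * P⁻¹) := by rw [hPi, Matrix.mul_one]
      _ = d • (1 : Matrix (Fin 4) (Fin 4) F) := by rw [← Matrix.mul_assoc, htP, Matrix.smul_mul, hPi]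
  obtain ⟨i, hi⟩ : ∃ i, c i = -1 := by
    by_contra hcon
    push Not at hcon
    exact hconst 1 fun i => (hcs i).resolve_right (hcon i)
  obtain ⟨k, hk⟩ : ∃ k, c k = 1 := by
    by_contra hcon
    push Not at hcon
    exact hconst (-1) fun i => (hcs i).resolve_left (hcon i)
  obtain ⟨j, hji, hj⟩ : ∃ j, j ≠ i ∧ c j = -1 := by
    by_contra hcon
    push Not at hcon
    have : ∏ i, c i = c i := Finset.prod_eq_single i (fun j _ hj => (hcs j).resolve_right (hcon j hj))
      (fun h => absurd (Finset.mem_univ _) h)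
    rw [this, hi] at hprod
    exact hne hprod
  have hik : i ≠ k := by
    rintro rfl
    rw [hi] at hk
    exact hne hk
  have hjk : j ≠ k := by
    rintro rfl
    rw [hj] at hk
    exact hne hk
  have hON : ON 3 (![f i, f j, f k] : Fin 3 → (Fin 4 → F)) := by
    intro a b
    have hs := fun a => hf a a
    simp only [if_pos] at hs
    have hij' := hf i j
    rw [if_neg hji.symm] at hij'
    have hji' := hf j i
    rw [if_neg hji] at hji'
    have hik' := hf i k
    rw [if_neg hik] at hik'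
    have hki' := hf k i
    rw [if_neg hik.symm] at hki'
    have hjk' := hf j k
    rw [if_neg hjk] at hjk'
    have hkj' := hf k j
    rw [if_neg hjk.symm] at hkj'
    fin_cases a <;> fin_cases b <;> simp [hs, hij', hji', hik', hki', hjk', hkj']
  obtain ⟨s, hs⟩ := exists_SU_hd hF (by omega : 3 < 4) _ hON
  have hse : ∀ l : Fin 3, mt s *ᵥ (Pi.single (hd (by omega : 3 ≤ 4) l) 1) = (![f i, f j, f k] : Fin 3 → (Fin 4 → F)) l := by
    intro l
    have := hs (Pi.single l 1)
    rw [ext_single] at this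
    rw [this, Finset.sum_eq_single l]
    · simp
    · intro b _ hb
      simp [Pi.single_eq_of_ne hb]
    · simp
  have hs0 : mt s *ᵥ (Pi.single 0 1) = f i := hse 0
  have hs1 : mt s *ᵥ (Pi.single 1 1) = f j := hse 1
  have hs2 : mt s *ᵥ (Pi.single 2 1) = f k := hse 2
  refine ⟨s, ?_⟩
  set N := s⁻¹ * t * s with hN
  have hNcol : ∀ (l : Fin 4) (d : F) (v : Fin 4 → F), mt s *ᵥ (Pi.single l 1) = v → mt t *ᵥ v = d • v →
      mt N *ᵥ (Pi.single l 1) = d • (Pi.single l 1 : Fin 4 → F) := by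
    intro l d v h3 h4
    rw [hN, mt_mul, mt_mul, ← Matrix.mulVec_mulVec, ← Matrix.mulVec_mulVec, h3, h4, Matrix.mulVec_smul, ← h3,
      Matrix.mulVec_mulVec, mt_inv_mul, Matrix.one_mulVec]
  have n0 := hNcol 0 (-1) _ hs0 (by rw [(hc i).2, hi])
  have n1 := hNcol 1 (-1) _ hs1 (by rw [(hc j).2, hj])
  have n2 := hNcol 2 1 _ hs2 (by rw [(hc k).2, hk])
  have n3 : ∀ (l : Fin 4) (d : F), l ≠ 3 → d * d = 1 → mt N *ᵥ (Pi.single l 1) = d • (Pi.single l 1 : Fin 4 → F) →
      (mt N *ᵥ (Pi.single 3 1)) l = 0 := by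
    intro l d hl hd h3
    have h4 := mt_form N (Pi.single 3 1) (Pi.single l 1)
    rw [h3, hermForm_smul_right, hermForm_single_right _ _ hF, hermForm_single_left, Pi.single_eq_of_ne hl.symm,
      zero_pow_q hF] at h4
    have hd0 : d ^ 3 ≠ 0 := pow_ne_zero _ (left_ne_zero_of_mul_eq_one hd)
    exact (mul_eq_zero.mp h4).resolve_left hd0
  have m0 := n3 0 (-1) (by decide) (by ring) n0
  have m1 := n3 1 (-1) (by decide) (by ring) n1
  have m2 := n3 2 1 (by decide) (by ring) n2
  have hNd : mt N = Matrix.diagonal ![-1, -1, 1, mt N 3 3] := by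
    apply Matrix.ext_of_mulVec_single
    intro l
    rw [Matrix.diagonal_mulVec_single, mul_one]
    fin_cases l
    · refine n0.trans ?_
      ext a
      fin_cases a <;> simp
    · refine n1.trans ?_
      ext a
      fin_cases a <;> simp
    · refine n2.trans ?_
      ext a
      fin_cases a <;> simp
    · ext a
      fin_cases a
      · simpa using m0
      · simpa using m1
      · simpa using m2
      · simp
  have hdet := mt_det N
  rw [hNd, Matrix.det_diagonal, Fin.prod_univ_four] at hdet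
  simp at hdet
  rw [hNd, hdet]

end H60.Ph
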