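import Mathlib
import Cfsg.Agent.Lib.H60.PhU

/-!
Phan systems, part V: commuting copies of `SU 2` become blocks.
-/

set_option autoImplicit false
set_option linter.unusedSectionVars false
set_option linter.unusedVariables false

namespace H60.Ph

open Matrix Cfsg H16.Herm

variable {F : Type*} [Field F] [Fintype F]

/-- compression to a block -/
def cmp (ε : Fin 2 ↪ Fin 4) (M : Matrix (Fin 4) (Fin 4) F) : Matrix (Fin 2) (Fin 2) F := M.submatrix ε ε

theorem cmp_mul (ε : Fin 2 ↪ Fin 4) (M N : Matrix (Fin 4) (Fin 4) F)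
    (h : ∀ i, (∀ k, ε k ≠ i) → ∀ j, N i (ε j) = 0) : cmp ε (M * N) = cmp ε M * cmp ε N := by
  ext a b
  show (M * N) (ε a) (ε b) = (cmp ε M * cmp ε N) a b
  rw [Matrix.mul_apply, Matrix.mul_apply]
  symm
  apply Fintype.sum_of_injective ε ε.injective
  · intro i hi
    rw [h i (fun k hk => hi ⟨k, hk⟩), mul_zero]
  · intro i
    rfl

theorem cmp_one (ε : Fin 2 ↪ Fin 4) : cmp ε (1 : Matrix (Fin 4) (Fin 4) F) = 1 := by
  ext a b
  show (1 : Matrix (Fin 4) (Fin 4) F) (ε a) (ε b) = (1 : Matrix (Fin 2) (Fin 2) F) a b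
  by_cases h : a = b
  · subst h; simp
  · rw [Matrix.one_apply_ne h, Matrix.one_apply_ne (fun h' => h (ε.injective h'))]

theorem off_zero (D : Fin 4 → F) (w t : SU 4 F 3) (ht : mt t = Matrix.diagonal D) (hc : w * t = t * w) {i j : Fin 4}
    (hij : D i ≠ D j) : mt w i j = 0 := by
  have h1 := congrArg mt hc
  rw [mt_mul, mt_mul, ht] at h1
  have h2 := congrFun (congrFun h1 i) j
  rw [Matrix.mul_diagonal, Matrix.diagonal_mul] at h2
  have h3 : (D i - D j) * mt w i j = 0 := by linear_combination -h2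
  exact (mul_eq_zero.mp h3).resolve_left (sub_ne_zero.mpr hij)

variable (hF : Fintype.card F = 3 ^ 2)

include hF

/-- one side -/
theorem side {G : Type*} [Group G] (g : SU 4 F 3 →* G) (hna : ∃ a b, g a * g b ≠ g b * g a)
    (α : SU 2 F 3 →* G) (hα : ∀ u, ∃ a, g a = α u) (ε ε' : Fin 2 ↪ Fin 4)
    (hcov : ∀ i, (∃ k, ε k = i) ∨ (∃ k, ε' k = i)) (hdj : ∀ j k, ε j ≠ ε' k) (D : Fin 4 → F)
    (hD1 : ∀ k, D (ε k) = 1) (hD2 : ∀ k, D (ε' k) = -1) (t X2 Y2 : SU 4 F 3) (ht : mt t = Matrix.diagonal D)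
    (hXY : X2 * Y2 = t * (Y2 * X2)) (hXt : X2 * t = t * X2) (hYt : Y2 * t = t * Y2)
    (hcm : ∀ u a, g a = α u → a * X2 = X2 * a ∧ a * Y2 = Y2 * a) (u : SU 2 F 3) :
    α u ∈ (g.comp (emb hF ε)).range := by
  have h2 := two_ne hF
  have hne : (1 : F) ≠ -1 := by
    intro h
    apply h2
    linear_combination h
  have rsp : ∀ w : SU 4 F 3, w * t = t * w → ∀ i, (∀ k, ε' k ≠ i) → ∀ j, mt w i (ε' j) = 0 := by
    intro w hw i hi j
    obtain ⟨k, rfl⟩ : ∃ k, ε k = i := (hcov i).resolve_right (fun ⟨k, hk⟩ => hi k hk)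
    apply off_zero D w t ht hw
    rw [hD1, hD2]
    exact hne
  have hYX : (Y2 * X2) * t = t * (Y2 * X2) := by rw [mul_assoc, hXt, ← mul_assoc, hYt, mul_assoc]
  have ct : cmp ε' (mt t) = -1 := by
    ext a b
    show mt t (ε' a) (ε' b) = (-1 : Matrix (Fin 2) (Fin 2) F) a b
    rw [ht, Matrix.neg_apply]
    by_cases h : a = b
    · subst h
      rw [Matrix.diagonal_apply_eq, hD2, Matrix.one_apply_eq]
    · rw [Matrix.one_apply_ne h, Matrix.diagonal_apply_ne _ (fun h' => h (ε'.injective h')), neg_zero]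
  have hc : cmp ε' (mt X2) * cmp ε' (mt Y2) = -(cmp ε' (mt Y2) * cmp ε' (mt X2)) := by
    rw [← cmp_mul ε' _ _ (rsp Y2 hYt), ← mt_mul, hXY, mt_mul, cmp_mul ε' _ _ (rsp _ hYX), ct, mt_mul,
      cmp_mul ε' _ _ (rsp X2 hXt), neg_mul, Matrix.one_mul]
  have hXYt : (X2 * Y2) * t = t * (X2 * Y2) := by rw [mul_assoc, hYt, ← mul_assoc, hXt, mul_assoc]
  have hXYt' : (X2 * Y2)⁻¹ * t = t * (X2 * Y2)⁻¹ := by
    rw [inv_mul_eq_iff_eq_mul, ← mul_assoc, hXYt, mul_assoc, mul_inv_cancel, mul_one]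
  have hnz : cmp ε' (mt X2) * cmp ε' (mt Y2) ≠ 0 := by
    intro h
    rw [← cmp_mul ε' _ _ (rsp Y2 hYt), ← mt_mul] at h
    have h3 : cmp ε' (mt (X2 * Y2)) * cmp ε' (mt (X2 * Y2)⁻¹) = 1 := by
      rw [← cmp_mul ε' _ _ (rsp _ hXYt'), mt_mul_inv, cmp_one]
    rw [h, Matrix.zero_mul] at h3
    exact zero_ne_one h3
  refine SU2_ind hF (fun u => α u ∈ (g.comp (emb hF ε)).range) ?_ ?_ u
  · intro u hu
    obtain ⟨a, ha⟩ := hα u
    obtain ⟨hax, hay⟩ := hcm u a ha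
    have hat : a * t = t * a := by
      have h3 : a * t * (Y2 * X2) = t * a * (Y2 * X2) := by
        calc a * t * (Y2 * X2) = a * (t * (Y2 * X2)) := by group
          _ = (a * X2) * Y2 := by rw [← hXY]; group
          _ = X2 * (a * Y2) := by rw [hax]; group
          _ = (X2 * Y2) * a := by rw [hay]; group
          _ = t * Y2 * (X2 * a) := by rw [hXY]; group
          _ = t * (Y2 * a) * X2 := by rw [← hax]; group
          _ = t * a * (Y2 * X2) := by rw [← hay]; group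
      exact mul_right_cancel h3
    obtain ⟨c, hcs⟩ := anticomm_scalar h2 (cmp ε' (mt X2)) (cmp ε' (mt Y2)) (cmp ε' (mt a)) hc hnz (by
      rw [← cmp_mul ε' _ _ (rsp X2 hXt), ← cmp_mul ε' _ _ (rsp a hat), ← mt_mul, ← mt_mul, hax]) (by
      rw [← cmp_mul ε' _ _ (rsp Y2 hYt), ← cmp_mul ε' _ _ (rsp a hat), ← mt_mul, ← mt_mul, hay])
    have hcol : ∀ k, mt a *ᵥ (Pi.single (ε' k) 1) = c • (Pi.single (ε' k) 1 : Fin 4 → F) := by
      intro k
      ext i
      by_cases hi : ∃ l, ε' l = i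
      · obtain ⟨l, rfl⟩ := hi
        have h3 := congrFun (congrFun hcs l) k
        have h4 : mt a (ε' l) (ε' k) = (c • (1 : Matrix (Fin 2) (Fin 2) F)) l k := h3
        rw [col_single]
        show mt a (ε' l) (ε' k) = _
        rw [h4, Matrix.smul_apply, Pi.smul_apply]
        by_cases hlk : l = k
        · subst hlk; simp
        · rw [Matrix.one_apply_ne hlk, Pi.single_eq_of_ne (fun h' => hlk (ε'.injective h'))]
      · push Not at hi
        rw [col_single]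
        show mt a i (ε' k) = _
        rw [rsp a hat i hi, Pi.smul_apply, Pi.single_eq_of_ne (hi k).symm, smul_zero]
    have hcn : c * c ^ 3 = 1 := by
      have h3 := mt_form a (Pi.single (ε' 0) 1) (Pi.single (ε' 0) 1)
      rw [hcol, hermForm_smul_left, hermForm_smul_right, hermForm_single_left] at h3
      simpa using h3
    have hb : ∀ k, mt (a * a * a * a) *ᵥ (Pi.single (ε' k) 1) = (Pi.single (ε' k) 1 : Fin 4 → F) := by
      intro k
      rw [mt_mul, mt_mul, mt_mul, ← Matrix.mulVec_mulVec, ← Matrix.mulVec_mulVec, ← Matrix.mulVec_mulVec]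
      simp only [hcol, Matrix.mulVec_smul, smul_smul]
      have : c * c * c * c = 1 := by linear_combination hcn
      rw [this, one_smul]
    obtain ⟨b, hb'⟩ := mem_range_emb hF ε (a * a * a * a) (by
      intro j hj
      obtain ⟨k, rfl⟩ : ∃ k, ε' k = j := (hcov j).resolve_left (fun ⟨k, hk⟩ => hj k hk)
      exact hb k)
    refine ⟨b, ?_⟩
    rw [MonoidHom.comp_apply, hb', map_mul, map_mul, map_mul, ha, ← map_mul, ← map_mul, ← map_mul, hu, one_mul]
  · intro u v hu hv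
    rw [map_mul]
    exact mul_mem hu hv

omit [Fintype F] hF in
theorem range_eq_of_le {G H : Type*} [Group G] [Group H] [Finite H] (α β : H →* G) (hα : Function.Injective α)
    (h : α.range ≤ β.range) : α.range = β.range := by
  have : Finite β.range := by
    have : Function.Surjective β.rangeRestrict := β.rangeRestrict_surjective
    exact Finite.of_surjective _ this
  apply Subgroup.eq_of_le_of_card_ge h
  calc Nat.card β.range ≤ Nat.card H := Nat.card_le_card_of_surjective _ β.rangeRestrict_surjective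
    _ = Nat.card α.range := Nat.card_congr (MonoidHom.ofInjective hα).toEquiv

omit hF in
/-- two commuting copies of `SU 2` in a quotient of `SU 4` -/
structure Cfg3 (hF : Fintype.card F = 3 ^ 2) {G : Type*} [Group G] (g : SU 4 F 3 →* G) (α β : SU 2 F 3 →* G) : Prop where
  hna : ∃ a b, g a * g b ≠ g b * g a
  la : ∀ u, ∃ a, g a = α u
  lb : ∀ u, ∃ a, g a = β u
  cm : ∀ u v, α u * β v = β v * α u
  za : ∃ b, g b * α (zz hF) ≠ α (zz hF) * g b
  zb : ∃ b, g b * β (zz hF) ≠ β (zz hF) * g b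
  ia : Function.Injective α
  ib : Function.Injective β

/-- conjugated map -/
abbrev cj {G : Type*} [Group G] (g : SU 4 F 3 →* G) (s : SU 4 F 3) : SU 4 F 3 →* G := g.comp (MulAut.conj s).toMonoidHom

omit hF in
theorem cj_apply {G : Type*} [Group G] (g : SU 4 F 3 →* G) (s w : SU 4 F 3) : cj g s w = g (s * w * s⁻¹) := rfl

omit hF in
theorem cj_apply' {G : Type*} [Group G] (g : SU 4 F 3 →* G) (s w : SU 4 F 3) : cj g s (s⁻¹ * w * s) = g w := by
  rw [cj_apply]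
  congr 1
  group

omit hF in
theorem Cfg3.conj {hF : Fintype.card F = 3 ^ 2} {G : Type*} [Group G] {g : SU 4 F 3 →* G} {α β : SU 2 F 3 →* G}
    (H : Cfg3 hF g α β) (s : SU 4 F 3) : Cfg3 hF (cj g s) α β where
  hna := by
    obtain ⟨a, b, hab⟩ := H.hna
    exact ⟨s⁻¹ * a * s, s⁻¹ * b * s, by rwa [cj_apply', cj_apply']⟩
  la u := by
    obtain ⟨a, ha⟩ := H.la u
    exact ⟨s⁻¹ * a * s, by rwa [cj_apply']⟩
  lb u := by
    obtain ⟨a, ha⟩ := H.lb u
    exact ⟨s⁻¹ * a * s, by rwa [cj_apply']⟩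
  cm := H.cm
  za := by
    obtain ⟨b, hb⟩ := H.za
    exact ⟨s⁻¹ * b * s, by rwa [cj_apply']⟩
  zb := by
    obtain ⟨b, hb⟩ := H.zb
    exact ⟨s⁻¹ * b * s, by rwa [cj_apply']⟩
  ia := H.ia
  ib := H.ib

theorem mt_emb_tt (b : SU 2 F 3) : mt (emb hF tt b) = !![1, 0, 0, 0; 0, 1, 0, 0; 0, 0, mt b 0 0, mt b 0 1; 0, 0, mt b 1 0, mt b 1 1] := by
  rw [mt_emb]
  ext i j
  by_cases hj : ∃ l, (tt l : Fin 4) = j
  · obtain ⟨l, rfl⟩ := hj
    by_cases hi : ∃ k, (tt k : Fin 4) = i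
    · obtain ⟨k, rfl⟩ := hi
      rw [EM_apply_range]
      fin_cases k <;> fin_cases l <;> rfl
    · push Not at hi
      rw [EM_apply_row _ _ hi]
      fin_cases l <;> fin_cases i
      all_goals first | rfl | exact absurd rfl (hi 0) | exact absurd rfl (hi 1)
  · push Not at hj
    rw [EM_apply_col _ _ hj]
    fin_cases j <;> fin_cases i
    all_goals first | rfl | exact absurd rfl (hj 0) | exact absurd rfl (hj 1)

theorem mt_emb_hd4 (b : SU 2 F 3) : mt (emb hF (hd (by omega : 2 ≤ 4)) b) =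
    !![mt b 0 0, mt b 0 1, 0, 0; mt b 1 0, mt b 1 1, 0, 0; 0, 0, 1, 0; 0, 0, 0, 1] := by
  rw [mt_emb]
  ext i j
  by_cases hj : ∃ l, (hd (by omega : 2 ≤ 4) l : Fin 4) = j
  · obtain ⟨l, rfl⟩ := hj
    by_cases hi : ∃ k, (hd (by omega : 2 ≤ 4) k : Fin 4) = i
    · obtain ⟨k, rfl⟩ := hi
      rw [EM_apply_range]
      fin_cases k <;> fin_cases l <;> rfl
    · push Not at hi
      rw [EM_apply_row _ _ hi]
      fin_cases l <;> fin_cases i
      all_goals first | rfl | exact absurd rfl (hi 0) | exact absurd rfl (hi 1)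
  · push Not at hj
    rw [EM_apply_col _ _ hj]
    fin_cases j <;> fin_cases i
    all_goals first | rfl | exact absurd rfl (hj 0) | exact absurd rfl (hj 1)

/-- the two commuting copies are opposite blocks after conjugation -/
theorem exists_sides {G : Type*} [Group G] {g : SU 4 F 3 →* G} {α β : SU 2 F 3 →* G} (H : Cfg3 hF g α β) :
    ∃ s : SU 4 F 3, α.range = ((cj g s).comp (emb hF (hd (by omega : 2 ≤ 4)))).range ∧
      β.range = ((cj g s).comp (emb hF tt)).range := by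
  have h2 := two_ne hF
  obtain ⟨ι, hι⟩ := exists_iota hF
  obtain ⟨x₀, y₀, t₀, hx, hy, ht, hxy, hxt, hyt, htt, hns⟩ := quat_lifts hF g H.hna α H.la H.za ι hι
  obtain ⟨s, hs⟩ := exists_conj_invol hF t₀ htt hns
  have H' := H.conj s
  set g' := cj g s with hg'
  obtain ⟨x, hxd⟩ : ∃ x, x = s⁻¹ * x₀ * s := ⟨_, rfl⟩
  obtain ⟨y, hyd⟩ : ∃ y, y = s⁻¹ * y₀ * s := ⟨_, rfl⟩
  obtain ⟨t, htd⟩ : ∃ t, t = s⁻¹ * t₀ * s := ⟨_, rfl⟩
  rw [← htd] at hs
  have gx : g' x = α (tor hF ι (iota_norm hι)) := by rw [hxd, hg', cj_apply', hx]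
  have gy : g' y = α (wl hF) := by rw [hyd, hg', cj_apply', hy]
  have gt : g' t = α (zz hF) := by rw [htd, hg', cj_apply', ht]
  have hxy' : x * y = t * (y * x) := by
    rw [hxd, hyd, htd]
    calc s⁻¹ * x₀ * s * (s⁻¹ * y₀ * s) = s⁻¹ * (x₀ * y₀) * s := by group
      _ = _ := by rw [hxy]; group
  have hxt' : x * t = t * x := by
    rw [hxd, htd]
    calc s⁻¹ * x₀ * s * (s⁻¹ * t₀ * s) = s⁻¹ * (x₀ * t₀) * s := by group
      _ = _ := by rw [hxt]; group
  have hyt' : y * t = t * y := by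
    rw [hyd, htd]
    calc s⁻¹ * y₀ * s * (s⁻¹ * t₀ * s) = s⁻¹ * (y₀ * t₀) * s := by group
      _ = _ := by rw [hyt]; group
  obtain ⟨x₂, y₂, t₂, gx₂, gy₂, gt₂, hxy₂, hxt₂, hyt₂, htt₂, hns₂⟩ := quat_lifts hF g' H'.hna β H'.lb H'.zb ι hι
  have lc := lifts_commute hF g' H'.hna α β H'.la H'.cm
  have cxx := lc _ _ x x₂ gx gx₂
  have cxy := lc _ _ x y₂ gx gy₂
  have cxt := lc _ _ x t₂ gx gt₂
  have cyx := lc _ _ y x₂ gy gx₂
  have cyy := lc _ _ y y₂ gy gy₂
  have cyt := lc _ _ y t₂ gy gt₂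
  have ctx := lc _ _ t x₂ gt gx₂
  have cty := lc _ _ t y₂ gt gy₂
  have ctt := lc _ _ t t₂ gt gt₂
  have hne : (1 : F) ≠ -1 := by
    intro h
    apply h2
    linear_combination h
  -- compression to the first block
  set ε := hd (by omega : 2 ≤ 4) with hε
  have hDhd : ∀ k, (![-1, -1, 1, 1] : Fin 4 → F) (ε k) = -1 := by
    intro k
    fin_cases k <;> rfl
  have hDtt : ∀ k, (![-1, -1, 1, 1] : Fin 4 → F) (tt k) = 1 := by
    intro k
    fin_cases k <;> rfl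
  have hcov : ∀ i : Fin 4, (∃ k, ε k = i) ∨ (∃ k, (tt k : Fin 4) = i) := by
    intro i
    fin_cases i
    · exact Or.inl ⟨0, rfl⟩
    · exact Or.inl ⟨1, rfl⟩
    · exact Or.inr ⟨0, rfl⟩
    · exact Or.inr ⟨1, rfl⟩
  have hdj : ∀ j k, (ε j : Fin 4) ≠ tt k := by
    intro j k h
    have h3 := hDhd j
    rw [h, hDtt] at h3
    exact hne h3
  have rsp : ∀ w : SU 4 F 3, w * t = t * w → ∀ i, (∀ k, ε k ≠ i) → ∀ j, mt w i (ε j) = 0 := by
    intro w hw i hi j
    obtain ⟨k, rfl⟩ : ∃ k, (tt k : Fin 4) = i := (hcov i).resolve_left (fun ⟨k, hk⟩ => hi k hk)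
    apply off_zero _ w t hs hw
    rw [hDtt, hDhd]
    exact hne
  have ct : cmp ε (mt t) = -1 := by
    ext a b
    show mt t (ε a) (ε b) = (-1 : Matrix (Fin 2) (Fin 2) F) a b
    rw [hs, Matrix.neg_apply]
    by_cases h : a = b
    · subst h
      rw [Matrix.diagonal_apply_eq, hDhd, Matrix.one_apply_eq]
    · rw [Matrix.one_apply_ne h, Matrix.diagonal_apply_ne _ (fun h' => h (ε.injective h')), neg_zero]
  have hyx' : (y * x) * t = t * (y * x) := by rw [mul_assoc, hxt', ← mul_assoc, hyt', mul_assoc]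
  have hc : cmp ε (mt x) * cmp ε (mt y) = -(cmp ε (mt y) * cmp ε (mt x)) := by
    rw [← cmp_mul ε _ _ (rsp y hyt'), ← mt_mul, hxy', mt_mul, cmp_mul ε _ _ (rsp _ hyx'), ct, mt_mul,
      cmp_mul ε _ _ (rsp x hxt'), neg_mul, Matrix.one_mul]
  have inv_nz : ∀ w : SU 4 F 3, w * t = t * w → cmp ε (mt w) ≠ 0 := by
    intro w hw h
    have hw' : w⁻¹ * t = t * w⁻¹ := by
      rw [inv_mul_eq_iff_eq_mul, ← mul_assoc, hw, mul_assoc, mul_inv_cancel, mul_one]
    have h3 : cmp ε (mt w) * cmp ε (mt w⁻¹) = 1 := by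
      rw [← cmp_mul ε _ _ (rsp _ hw'), mt_mul_inv, cmp_one]
    rw [h, Matrix.zero_mul] at h3
    exact zero_ne_one h3
  have hnz : cmp ε (mt x) * cmp ε (mt y) ≠ 0 := by
    rw [← cmp_mul ε _ _ (rsp y hyt'), ← mt_mul]
    exact inv_nz _ (by rw [mul_assoc, hyt', ← mul_assoc, hxt', mul_assoc])
  have sc : ∀ w : SU 4 F 3, x * w = w * x → y * w = w * y → t * w = w * t → ∃ c : F, cmp ε (mt w) = c • (1 : Matrix (Fin 2) (Fin 2) F) := by
    intro w h1 h3 h4
    apply anticomm_scalar h2 (cmp ε (mt x)) (cmp ε (mt y)) (cmp ε (mt w)) hc hnz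
    · rw [← cmp_mul ε _ _ (rsp x hxt'), ← cmp_mul ε _ _ (rsp w h4.symm), ← mt_mul, ← mt_mul, h1]
    · rw [← cmp_mul ε _ _ (rsp y hyt'), ← cmp_mul ε _ _ (rsp w h4.symm), ← mt_mul, ← mt_mul, h3]
  obtain ⟨c₁, hc₁⟩ := sc x₂ cxx cyx ctx
  obtain ⟨c₂, hc₂⟩ := sc y₂ cxy cyy cty
  have hc₁0 : c₁ ≠ 0 := by
    rintro rfl
    rw [zero_smul] at hc₁
    exact inv_nz x₂ ctx.symm hc₁
  have hc₂0 : c₂ ≠ 0 := by
    rintro rfl
    rw [zero_smul] at hc₂
    exact inv_nz y₂ cty.symm hc₂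
  have ct₂ : cmp ε (mt t₂) = 1 := by
    have h3 : cmp ε (mt (x₂ * y₂)) = cmp ε (mt (t₂ * (y₂ * x₂))) := by rw [hxy₂]
    have hyx₂ : (y₂ * x₂) * t = t * (y₂ * x₂) := by rw [mul_assoc, ← ctx, ← mul_assoc, ← cty, mul_assoc]
    rw [mt_mul, cmp_mul ε _ _ (rsp y₂ cty.symm), mt_mul, cmp_mul ε _ _ (rsp _ hyx₂), mt_mul,
      cmp_mul ε _ _ (rsp x₂ ctx.symm), hc₁, hc₂] at h3
    simp only [Matrix.smul_mul, Matrix.mul_smul, Matrix.one_mul, Matrix.mul_one, smul_smul] at h3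
    have h4 := congrArg (fun M => (c₂ * c₁)⁻¹ • M) h3
    simp only [smul_smul] at h4
    rw [mul_comm c₁ c₂, inv_mul_cancel₀ (mul_ne_zero hc₂0 hc₁0), one_smul, one_smul] at h4
    exact h4.symm
  have ht₂col : ∀ k, mt t₂ *ᵥ (Pi.single (ε k) 1) = (Pi.single (ε k) 1 : Fin 4 → F) := by
    intro k
    ext i
    rw [col_single]
    by_cases hi : ∃ l, ε l = i
    · obtain ⟨l, rfl⟩ := hi
      have h3 := congrFun (congrFun ct₂ l) k
      have h4 : mt t₂ (ε l) (ε k) = (1 : Matrix (Fin 2) (Fin 2) F) l k := h3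
      show mt t₂ (ε l) (ε k) = _
      rw [h4]
      by_cases hlk : l = k
      · subst hlk; simp
      · rw [Matrix.one_apply_ne hlk, Pi.single_eq_of_ne (fun h' => hlk (ε.injective h'))]
    · push Not at hi
      show mt t₂ i (ε k) = _
      rw [rsp t₂ ctt.symm i hi, Pi.single_eq_of_ne (hi k).symm]
  obtain ⟨b₂, hb₂⟩ := mem_range_emb hF tt t₂ (by
    intro j hj
    obtain ⟨k, rfl⟩ : ∃ k, ε k = j := (hcov j).resolve_right (fun ⟨k, hk⟩ => hj k hk)
    exact ht₂col k)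
  have hb₂z : b₂ = zz hF := by
    obtain ⟨e0, e1⟩ := SU2_invol hF h2 b₂ (by
      apply emb_injective hF tt
      rw [map_mul, hb₂, htt₂, map_one]) (by
      rintro rfl
      apply hns₂ 1
      rw [← hb₂, map_one, mt_one, one_smul])
    apply SU2_ext hF
    · rw [e0, zz00]
    · rw [e1, zz10]
  have mt₂ : mt t₂ = Matrix.diagonal ![1, 1, -1, -1] := by
    rw [← hb₂, hb₂z, mt_emb_tt, zz00, zz01, zz10, zz11]
    ext i j
    fin_cases i <;> fin_cases j <;> simp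
  refine ⟨s, ?_, ?_⟩
  · apply range_eq_of_le α _ H.ia
    rintro _ ⟨u, rfl⟩
    refine side hF g' H'.hna α H'.la ε tt hcov hdj ![1, 1, -1, -1] ?_ ?_ t₂ x₂ y₂ mt₂ hxy₂ hxt₂ hyt₂ ?_ u
    · intro k
      fin_cases k <;> rfl
    · intro k
      fin_cases k <;> rfl
    · intro u a ha
      exact ⟨lc _ _ a x₂ ha gx₂, lc _ _ a y₂ ha gy₂⟩
  · apply range_eq_of_le β _ H.ib
    rintro _ ⟨u, rfl⟩
    refine side hF g' H'.hna β H'.lb tt ε (fun i => (hcov i).symm) (fun j k => (hdj k j).symm) ![-1, -1, 1, 1] hDtt hDhd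
      t x y hs hxy' hxt' hyt' ?_ u
    intro u a ha
    exact ⟨(lc _ _ x a gx ha).symm, (lc _ _ y a gy ha).symm⟩

end H60.Ph
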