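import Mathlib
import Cfsg.Agent.Lib.H60.PhTwoG
import Cfsg.Agent.Lib.H60.PhV

/-!
Phan systems over the field with four elements, part H: standard maps from `SU 4`.
-/

set_option autoImplicit false
set_option linter.unusedSectionVars false
set_option linter.unusedVariables false

namespace H60.Ph.Two

open Matrix Cfsg H16.Herm H60.Ph

section basic
variable {F : Type*} [Field F] [Fintype F] (hF : Fintype.card F = 2 ^ 2)
include hF

theorem ker_trivial4 {G : Type*} [Group G] (g : SU 4 F 2 →* G) (hna : ∃ a b, g a * g b ≠ g b * g a) : Function.Injective g := by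
  rw [injective_iff_map_eq_one]
  intro k hk
  have hs : IsSimpleGroup (PSU 4 F 2) := H6.SUGenC.isSimpleGroup hF 4 (by omega) (by omega)
  let π : SU 4 F 2 →* PSU 4 F 2 := QuotientGroup.mk' (Subgroup.center (SU 4 F 2))
  have hn : (g.ker.map π).Normal := Subgroup.Normal.map inferInstance π (QuotientGroup.mk'_surjective _)
  rcases hs.eq_bot_or_eq_top_of_normal _ hn with h | h
  · have hkc : k ∈ Subgroup.center (SU 4 F 2) := by
      have : π k ∈ g.ker.map π := ⟨k, hk, rfl⟩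
      rw [h, Subgroup.mem_bot] at this
      exact (QuotientGroup.eq_one_iff k).mp this
    obtain ⟨c, hc⟩ := H7.UnitSU.center_scalar hF (by omega) hkc
    have hc' : mt k = c • (1 : Matrix (Fin 4) (Fin 4) F) := by
      rw [Matrix.smul_one_eq_diagonal]
      exact hc
    have h1 := mt_form k (Pi.single 0 1) (Pi.single 0 1)
    rw [hc', Matrix.smul_mulVec, Matrix.one_mulVec, hermForm_smul_left, hermForm_smul_right, hermForm_single_left] at h1
    simp at h1
    have h2 := mt_det k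
    rw [hc', Matrix.det_smul, Matrix.det_one, Fintype.card_fin, mul_one] at h2
    have h3 : c = 1 := by linear_combination h2 - c * h1
    apply mt_inj
    rw [hc', h3, one_smul, mt_one]
  · exfalso
    obtain ⟨a, b, hab⟩ := hna
    have : π a ∈ g.ker.map π := by rw [h]; exact Subgroup.mem_top _
    obtain ⟨n, hn, hna⟩ := this
    have hz : n⁻¹ * a ∈ Subgroup.center (SU 4 F 2) := QuotientGroup.eq.mp hna
    have e1 : g a = g (n⁻¹ * a) := by
      rw [map_mul, map_inv, show g n = 1 from hn, inv_one, one_mul]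
    apply hab
    rw [e1, ← map_mul, ← map_mul, (Subgroup.mem_center_iff.mp hz b)]

theorem mt_emb_tt2 (b : SU 2 F 2) : mt (emb hF tt b) = !![1, 0, 0, 0; 0, 1, 0, 0; 0, 0, mt b 0 0, mt b 0 1; 0, 0, mt b 1 0, mt b 1 1] := by
  rw [mt_emb]
  ext i j
  by_cases hj : ∃ l, (tt l : Fin 4) = j
  · obtain ⟨l, rfl⟩ := hj
    by_cases hi : ∃ k, (tt k : Fin 4) = i
    · obtain ⟨k, rfl⟩ := hi
      rw [EM_apply_range]
      fin_cases k <;> fin_cases l <;> rfl
    · push Not at hi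
      rw [EM_apply_row _ _ hi]
      fin_cases l <;> fin_cases i
      all_goals first | rfl | exact absurd rfl (hi 0) | exact absurd rfl (hi 1)
  · push Not at hj
    rw [EM_apply_col _ _ hj]
    fin_cases j <;> fin_cases i
    all_goals first | rfl | exact absurd rfl (hj 0) | exact absurd rfl (hj 1)

theorem mt_emb_hd42 (b : SU 2 F 2) : mt (emb hF (hd (by omega : 2 ≤ 4)) b) =
    !![mt b 0 0, mt b 0 1, 0, 0; mt b 1 0, mt b 1 1, 0, 0; 0, 0, 1, 0; 0, 0, 0, 1] := by
  rw [mt_emb]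
  ext i j
  by_cases hj : ∃ l, (hd (by omega : 2 ≤ 4) l : Fin 4) = j
  · obtain ⟨l, rfl⟩ := hj
    by_cases hi : ∃ k, (hd (by omega : 2 ≤ 4) k : Fin 4) = i
    · obtain ⟨k, rfl⟩ := hi
      rw [EM_apply_range]
      fin_cases k <;> fin_cases l <;> rfl
    · push Not at hi
      rw [EM_apply_row _ _ hi]
      fin_cases l <;> fin_cases i
      all_goals first | rfl | exact absurd rfl (hi 0) | exact absurd rfl (hi 1)
  · push Not at hj
    rw [EM_apply_col _ _ hj]
    fin_cases j <;> fin_cases i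
    all_goals first | rfl | exact absurd rfl (hj 0) | exact absurd rfl (hj 1)

/-- involutions commuting with the first block lie in the last -/
theorem comm_block (X : SU 4 F 2)
    (hX : ∀ b, X * emb hF (hd (by omega : 2 ≤ 4)) b = emb hF (hd (by omega : 2 ≤ 4)) b * X) (hXX : X * X = 1) :
    ∃ b, emb hF tt b = X := by
  obtain ⟨ω, hω, hω1, hω0⟩ := exists_om hF
  have h3 := om3 hω
  have h11 : (1 : F) * 1 ^ 2 = 1 := by ring
  have e1 : mt X * mt (emb hF (hd (by omega : 2 ≤ 4)) (tor hF ω h3)) = mt (emb hF (hd (by omega : 2 ≤ 4)) (tor hF ω h3)) * mt X := by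
    rw [← mt_mul, hX, mt_mul]
  have e2 : mt X * mt (emb hF (hd (by omega : 2 ≤ 4)) (rf hF 1 h11)) = mt (emb hF (hd (by omega : 2 ≤ 4)) (rf hF 1 h11)) * mt X := by
    rw [← mt_mul, hX, mt_mul]
  rw [mt_emb_hd42, mt_tor] at e1
  rw [mt_emb_hd42, rf00, rf10, SU2_01 hF, SU2_11 hF, rf00, rf10] at e2
  have hw1 : ω ^ 2 ≠ 1 := by
    intro h
    apply hω1
    linear_combination h3 - ω * h
  have hw2 : ω ^ 2 ≠ ω := by
    intro h
    apply hω1
    apply mul_left_cancel₀ hω0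
    linear_combination h
  have f10 := congrFun (congrFun e1 1) 0
  have f20 := congrFun (congrFun e1 2) 0
  have f30 := congrFun (congrFun e1 3) 0
  have f01 := congrFun (congrFun e1 0) 1
  have f21 := congrFun (congrFun e1 2) 1
  have f31 := congrFun (congrFun e1 3) 1
  have g10 := congrFun (congrFun e2 1) 0
  simp only [Matrix.mul_apply, Fin.sum_univ_four] at f10 f20 f30 f01 f21 f31 g10
  simp at f10 f20 f30 f01 f21 f31 g10
  have kill : ∀ m c d : F, c ≠ d → m * c = d * m → m = 0 := by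
    intro m c d hcd h
    have : (c - d) * m = 0 := by linear_combination h
    exact (mul_eq_zero.mp this).resolve_left (sub_ne_zero.mpr hcd)
  have m10 : mt X 1 0 = 0 := kill _ _ _ hw2.symm f10
  have m20 : mt X 2 0 = 0 := kill _ ω 1 hω1 (by rw [f20, one_mul])
  have m30 : mt X 3 0 = 0 := kill _ ω 1 hω1 (by rw [f30, one_mul])
  have m01 : mt X 0 1 = 0 := kill _ _ _ hw2 f01
  have m21 : mt X 2 1 = 0 := kill _ (ω ^ 2) 1 hw1 (by rw [f21, one_mul])
  have m31 : mt X 3 1 = 0 := kill _ (ω ^ 2) 1 hw1 (by rw [f31, one_mul])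
  have c0 : mt X *ᵥ (Pi.single 0 1) = mt X 0 0 • (Pi.single 0 1 : Fin 4 → F) := by
    rw [col_single]
    ext i
    fin_cases i
    · simp
    · simpa using m10
    · simpa using m20
    · simpa using m30
  have c1 : mt X *ᵥ (Pi.single 1 1) = mt X 0 0 • (Pi.single 1 1 : Fin 4 → F) := by
    rw [col_single]
    ext i
    fin_cases i
    · simpa using m01
    · simpa using g10
    · simpa using m21
    · simpa using m31
  have hn : mt X 0 0 * mt X 0 0 ^ 2 = 1 := by
    have h1 := mt_form X (Pi.single 0 1) (Pi.single 0 1)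
    rw [c0, hermForm_smul_left, hermForm_smul_right, hermForm_single_left] at h1
    simpa using h1
  have hsq : mt X 0 0 * mt X 0 0 = 1 := by
    have h1 : mt (X * X) *ᵥ (Pi.single 0 1) = (Pi.single 0 1 : Fin 4 → F) := by rw [hXX, mt_one, Matrix.one_mulVec]
    rw [mt_mul, ← Matrix.mulVec_mulVec, c0, Matrix.mulVec_smul, c0, smul_smul] at h1
    have h2 := congrFun h1 0
    simpa using h2
  have hx1 : mt X 0 0 = 1 := by linear_combination hn - mt X 0 0 * hsq
  rw [hx1, one_smul] at c0 c1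
  apply mem_range_emb hF tt X
  intro j hj
  fin_cases j
  · exact c0
  · exact c1
  · exact absurd rfl (hj 0)
  · exact absurd rfl (hj 1)

theorem hd_tt_comm2 (a b : SU 2 F 2) : emb hF (hd (by omega : 2 ≤ 4)) a * emb hF tt b = emb hF tt b * emb hF (hd (by omega : 2 ≤ 4)) a := by
  apply emb_commute
  intro i j h
  have h' := congrArg Fin.val h
  have h1 : (i : ℕ) < 2 := i.2
  simp [tl, hd] at h'
  omega

omit hF in
/-- a homomorphism into a block -/
theorem exists_into (hF : Fintype.card F = 2 ^ 2) {H : Type*} [Group H] {m n : ℕ} (ε : Fin m ↪ Fin n) (φ : H →* SU n F 2)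
    (h : ∀ x, ∃ a, emb hF ε a = φ x) : ∃ ρ : H →* SU m F 2, ∀ x, emb hF ε (ρ x) = φ x :=
  exists_lift (emb hF ε) (emb_injective hF ε) φ h

omit hF in
theorem mt_conj {n : ℕ} (s x : SU n F 2) (v : Fin n → F) (h : mt x *ᵥ (mt s *ᵥ v) = mt s *ᵥ v) : mt (s⁻¹ * x * s) *ᵥ v = v := by
  rw [mt_mul, mt_mul, ← Matrix.mulVec_mulVec, ← Matrix.mulVec_mulVec, h, Matrix.mulVec_mulVec, mt_inv_mul, Matrix.one_mulVec]

omit hF in
/-- conjugated map -/
theorem cjm (s : SU 4 F 2) {H : Type*} [Group H] (ρ : H →* SU 4 F 2) :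
    ∃ φ : H →* SU 4 F 2, ∀ x, φ x = s⁻¹ * ρ x * s :=
  ⟨(MulAut.conj s⁻¹).toMonoidHom.comp ρ, fun x => by simp⟩

theorem exists_frame (ρ σ : SU 3 F 2 →* SU 4 F 2) (hρ : Function.Injective ρ) (hσ : Function.Injective σ)
    (v v' : Fin 4 → F) (hv : hermForm 4 F 2 v v = 1) (hv' : hermForm 4 F 2 v' v' = 1) (hρv : ∀ x, mt (ρ x) *ᵥ v = v)
    (hσv : ∀ x, mt (σ x) *ᵥ v' = v')
    (hc : ∀ a b, ρ (emb hF (hd (by omega : 2 ≤ 3)) a) * σ (emb hF (tl 2) b) = σ (emb hF (tl 2) b) * ρ (emb hF (hd (by omega : 2 ≤ 3)) a)) :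
    ∃ s : SU 4 F 2, mt s *ᵥ (Pi.single 0 1) = v' ∧ mt s *ᵥ (Pi.single 3 1) = v ∧
      (∀ b, ∃ b', emb hF (hd (by omega : 2 ≤ 4)) b' = s⁻¹ * ρ (emb hF (hd (by omega : 2 ≤ 3)) b) * s) ∧
      (∀ b, ∃ b', emb hF tt b' = s⁻¹ * σ (emb hF (tl 2) b) * s) := by
  obtain ⟨ω, hω, hω1, hω0⟩ := exists_om hF
  have h3 := om3 hω
  obtain ⟨s₀, hs₀⟩ := exists_SU_unit hF (by omega) 3 v hv
  -- the first map goes to the three-dimensional block
  obtain ⟨φ, hφ⟩ := cjm s₀ ρ
  obtain ⟨ρ₁, hρ₁⟩ := exists_into hF (hd (by omega : 3 ≤ 4)) φ (by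
    intro x
    apply mem_range_emb hF
    intro j hj
    have : j = 3 := by
      fin_cases j
      · exact absurd rfl (hj 0)
      · exact absurd rfl (hj 1)
      · exact absurd rfl (hj 2)
      · rfl
    subst this
    rw [hφ]
    apply mt_conj
    rw [hs₀, hρv])
  have hρ₁i : Function.Injective ρ₁ := by
    intro x y hxy
    have h1 := hρ₁ x
    rw [hxy, hρ₁ y, hφ, hφ] at h1
    exact hρ (mul_left_cancel (mul_right_cancel h1)).symm
  obtain ⟨f, hf, hff⟩ := exists_fixed_two hF (ρ₁.comp (emb hF (hd (by omega : 2 ≤ 3)))) (hρ₁i.comp (emb_injective hF _))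
  obtain ⟨k, hk⟩ := exists_SU_unit hF (by omega) 2 f hf
  obtain ⟨s₁, hs₁⟩ : ∃ s₁, s₁ = s₀ * emb hF (hd (by omega : 3 ≤ 4)) k := ⟨_, rfl⟩
  have hs₁v : mt s₁ *ᵥ (Pi.single 3 1) = v := by
    rw [hs₁, mt_mul, ← Matrix.mulVec_mulVec, mt_emb, EM_mulVec_of_zero, hs₀]
    ext i
    rw [Function.comp_apply, Pi.single_eq_of_ne]
    · rfl
    · intro h
      have h1 := congrArg Fin.val h
      have h3 : (i : ℕ) < 3 := i.2
      simp at h1
      omega
  have F1 : ∀ b, ∃ b', emb hF (hd (by omega : 2 ≤ 4)) b' = s₁⁻¹ * ρ (emb hF (hd (by omega : 2 ≤ 3)) b) * s₁ := by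
    intro b
    obtain ⟨b', hb'⟩ := mem_range_emb hF (hd (by omega : 2 ≤ 3)) (k⁻¹ * ρ₁ (emb hF (hd (by omega : 2 ≤ 3)) b) * k) (by
      intro j hj
      have : j = 2 := by
        fin_cases j
        · exact absurd rfl (hj 0)
        · exact absurd rfl (hj 1)
        · rfl
      subst this
      apply mt_conj
      rw [hk]
      exact hff b)
    refine ⟨b', ?_⟩
    rw [← emb_hd_hd hF (by omega : 3 ≤ 4), hb', map_mul, map_mul, map_inv, hρ₁, hφ, hs₁]
    group
  obtain ⟨φ₁, hφ₁⟩ := cjm s₁ (ρ.comp (emb hF (hd (by omega : 2 ≤ 3))))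
  obtain ⟨θ, hθ⟩ := exists_into hF (hd (by omega : 2 ≤ 4)) φ₁ (by
    intro b
    rw [hφ₁]
    exact F1 b)
  have hθi : Function.Injective θ := by
    intro x y hxy
    have h1 := hθ x
    rw [hxy, hθ y, hφ₁, hφ₁] at h1
    exact (emb_injective hF _ (hρ (mul_left_cancel (mul_right_cancel h1)))).symm
  have hθs : Function.Surjective θ := Finite.injective_iff_surjective.mp hθi
  -- the opposite block
  have F2 : ∀ b, ∃ b', emb hF tt b' = s₁⁻¹ * σ (emb hF (tl 2) b) * s₁ := by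
    intro b
    refine SU2_ind_rf hF (fun b => ∃ b', emb hF tt b' = s₁⁻¹ * σ (emb hF (tl 2) b) * s₁) ?_ ?_ b
    · intro c hc'
      apply comm_block hF
      · intro a
        obtain ⟨a', rfl⟩ := hθs a
        rw [hθ, hφ₁, MonoidHom.comp_apply]
        calc s₁⁻¹ * σ (emb hF (tl 2) (rf hF c hc')) * s₁ * (s₁⁻¹ * ρ (emb hF (hd (by omega : 2 ≤ 3)) a') * s₁) =
            s₁⁻¹ * (σ (emb hF (tl 2) (rf hF c hc')) * ρ (emb hF (hd (by omega : 2 ≤ 3)) a')) * s₁ := by group
          _ = s₁⁻¹ * (ρ (emb hF (hd (by omega : 2 ≤ 3)) a') * σ (emb hF (tl 2) (rf hF c hc'))) * s₁ := by rw [hc]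
          _ = _ := by group
      · calc s₁⁻¹ * σ (emb hF (tl 2) (rf hF c hc')) * s₁ * (s₁⁻¹ * σ (emb hF (tl 2) (rf hF c hc')) * s₁) =
            s₁⁻¹ * (σ (emb hF (tl 2) (rf hF c hc')) * σ (emb hF (tl 2) (rf hF c hc'))) * s₁ := by group
          _ = 1 := by rw [← map_mul, ← map_mul, rf_sq, map_one, map_one]; group
    · rintro x y ⟨x', hx'⟩ ⟨y', hy'⟩
      refine ⟨x' * y', ?_⟩
      rw [map_mul, hx', hy', map_mul, map_mul]
      group
  obtain ⟨φ₂, hφ₂⟩ := cjm s₁ (σ.comp (emb hF (tl 2)))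
  obtain ⟨θ', hθ'⟩ := exists_into hF tt φ₂ (by
    intro b
    rw [hφ₂]
    exact F2 b)
  have hθ'i : Function.Injective θ' := by
    intro x y hxy
    have h1 := hθ' x
    rw [hxy, hθ' y, hφ₂, hφ₂] at h1
    exact (emb_injective hF _ (hσ (mul_left_cancel (mul_right_cancel h1)))).symm
  have hθ's : Function.Surjective θ' := Finite.injective_iff_surjective.mp hθ'i
  -- the second fixed vector
  obtain ⟨w, hw⟩ : ∃ w, w = mt s₁⁻¹ *ᵥ v' := ⟨_, rfl⟩
  have hsw : mt s₁ *ᵥ w = v' := by rw [hw, Matrix.mulVec_mulVec, mt_mul_inv, Matrix.one_mulVec]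
  have hwf : ∀ b, mt (emb hF tt b) *ᵥ w = w := by
    intro b
    obtain ⟨b, rfl⟩ := hθ's b
    rw [hθ', hφ₂]
    apply mt_conj
    rw [hsw, MonoidHom.comp_apply, hσv]
  have hw23 : w 2 = 0 ∧ w 3 = 0 := by
    have h1 := hwf (tor hF ω h3)
    rw [mt_emb_tt2, mt_tor] at h1
    have h2 := congrFun h1 2
    have h4 := congrFun h1 3
    rw [Matrix.mulVec, dotProduct, Fin.sum_univ_four] at h2 h4
    have h2' : ω * w 2 = w 2 := by simpa using h2
    have h4' : ω ^ 2 * w 3 = w 3 := by simpa using h4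
    constructor
    · have : (ω - 1) * w 2 = 0 := by linear_combination h2'
      exact (mul_eq_zero.mp this).resolve_left (sub_ne_zero.mpr hω1)
    · have : (ω - 1) * w 3 = 0 := by linear_combination (-ω) * h4' + w 3 * h3
      exact (mul_eq_zero.mp this).resolve_left (sub_ne_zero.mpr hω1)
  obtain ⟨w₀, hw₀⟩ : ∃ w₀ : Fin 2 → F, w₀ = ![w 0, w 1] := ⟨_, rfl⟩
  have hwe : w = ext (hd (by omega : 2 ≤ 4)) w₀ := by
    ext i
    by_cases hi : ∃ l, (hd (by omega : 2 ≤ 4) l : Fin 4) = i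
    · obtain ⟨l, rfl⟩ := hi
      rw [ext_apply, hw₀]
      fin_cases l <;> rfl
    · push Not at hi
      rw [ext_apply' _ _ hi]
      fin_cases i
      · exact absurd rfl (hi 0)
      · exact absurd rfl (hi 1)
      · exact hw23.1
      · exact hw23.2
  have hw₀1 : hermForm 2 F 2 w₀ w₀ = 1 := by
    rw [← form_ext_ext (hd (by omega : 2 ≤ 4)), ← hwe, ← mt_form s₁, hsw, hv']
  obtain ⟨h, hh⟩ := exists_SU_unit hF (by omega) 0 w₀ hw₀1
  refine ⟨s₁ * emb hF (hd (by omega : 2 ≤ 4)) h, ?_, ?_, ?_, ?_⟩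
  · have e : (Pi.single 0 1 : Fin 4 → F) = ext (hd (by omega : 2 ≤ 4)) (Pi.single 0 1) := by
      rw [ext_single]; rfl
    rw [mt_mul, ← Matrix.mulVec_mulVec, mt_emb, e, EM_mulVec_ext, hh, ← hwe, hsw]
  · rw [mt_mul, ← Matrix.mulVec_mulVec, mt_emb, EM_mulVec_of_zero, hs₁v]
    ext i
    rw [Function.comp_apply, Pi.single_eq_of_ne]
    · rfl
    · intro h
      have h1 := congrArg Fin.val h
      have h3 : (i : ℕ) < 2 := i.2
      simp at h1
      omega
  · intro b
    obtain ⟨b', hb'⟩ := F1 b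
    refine ⟨h⁻¹ * b' * h, ?_⟩
    rw [map_mul, map_mul, map_inv, hb']
    group
  · intro b
    obtain ⟨b', hb'⟩ := F2 b
    refine ⟨b', ?_⟩
    have e1 := hd_tt_comm2 hF h b'
    calc emb hF tt b' = (emb hF (hd (by omega : 2 ≤ 4)) h)⁻¹ * (emb hF (hd (by omega : 2 ≤ 4)) h * emb hF tt b') := by group
      _ = (emb hF (hd (by omega : 2 ≤ 4)) h)⁻¹ * (emb hF tt b' * emb hF (hd (by omega : 2 ≤ 4)) h) := by rw [e1]
      _ = _ := by rw [hb']; group

end basic

end H60.Ph.Two
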