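import Mathlib
import Cfsg.Agent.Lib.H60.PhTwoH

/-!
Phan systems over the field with four elements, part I: standardization.
-/

set_option autoImplicit false
set_option linter.unusedSectionVars false
set_option linter.unusedVariables false

namespace H60.Ph.Two

open Matrix Cfsg H16.Herm H60.Ph

section basic
variable {F : Type*} [Field F] [Fintype F] (hF : Fintype.card F = 2 ^ 2)
include hF

/-- **Standardization.** -/
theorem exists_standard2 {G : Type*} [Group G] {V W A B C : Subgroup G} (hAB : IsStandardUnitaryPair V A B F 2)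
    (hBC : IsStandardUnitaryPair W B C F 2) (hAC : ∀ x ∈ A, ∀ y ∈ C, x * y = y * x)
    (g : SU 4 F 2 →* ↥(V ⊔ W)) (hg : Function.Surjective g) :
    ∃ γ : SU 4 F 2 →* G, (γ.comp (emb hF (hd (by omega : 2 ≤ 4)))).range = A ∧ (γ.comp (emb hF md)).range = B ∧
      (γ.comp (emb hF tt)).range = C ∧ (γ.comp (emb hF (hd (by omega : 3 ≤ 4)))).range = V ∧
      (γ.comp (emb hF (tl 3))).range = W ∧ Function.Injective γ := by
  obtain ⟨φ, hφV, hφk, hφA, hφB⟩ := exists_map_of_pair hF hAB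
  obtain ⟨ψ, hψW, hψk, hψB, hψC⟩ := exists_map_of_pair hF hBC
  obtain ⟨g₀, hg₀⟩ : ∃ g₀ : SU 4 F 2 →* G, g₀ = (V ⊔ W).subtype.comp g := ⟨_, rfl⟩
  have lift : ∀ y ∈ V ⊔ W, ∃ a, g₀ a = y := by
    intro y hy
    obtain ⟨a, ha⟩ := hg ⟨y, hy⟩
    exact ⟨a, by rw [hg₀, MonoidHom.comp_apply, ha]; rfl⟩
  have lφ : ∀ y, ∃ a, g₀ a = φ y := fun y => lift _ (by
    have : φ y ∈ V := by rw [← hφV]; exact ⟨y, rfl⟩
    exact (le_sup_left : V ≤ V ⊔ W) this)
  have lψ : ∀ y, ∃ a, g₀ a = ψ y := fun y => lift _ (by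
    have : ψ y ∈ W := by rw [← hψW]; exact ⟨y, rfl⟩
    exact (le_sup_right : W ≤ V ⊔ W) this)
  obtain ⟨ω, hω, hω1, hω0⟩ := exists_om hF
  have h3 := om3 hω
  have h11 : (1 : F) * 1 ^ 2 = 1 := by ring
  have hna : ∃ a b, g₀ a * g₀ b ≠ g₀ b * g₀ a := by
    obtain ⟨a, ha⟩ := lφ (emb hF (hd (by omega : 2 ≤ 3)) (rf hF 1 h11))
    obtain ⟨b, hb⟩ := lφ (emb hF (hd (by omega : 2 ≤ 3)) (rf hF ω h3))
    refine ⟨a, b, fun h => ?_⟩
    rw [ha, hb, ← map_mul, ← map_mul, ← map_mul, ← map_mul] at h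
    have h1 : (rf hF 1 h11 * rf hF ω h3) * (rf hF ω h3 * rf hF 1 h11)⁻¹ = 1 := by
      apply inj_hd hF φ hφk
      rw [map_mul, map_mul, h, map_inv, map_inv, mul_inv_cancel]
    have h2 : rf hF 1 h11 * rf hF ω h3 = rf hF ω h3 * rf hF 1 h11 := mul_inv_eq_one.mp h1
    have h4 : mt (rf hF 1 h11 * rf hF ω h3) 0 0 = mt (rf hF ω h3 * rf hF 1 h11) 0 0 := by rw [h2]
    rw [SU2_mul00 hF, SU2_mul00 hF, rf00, rf00, rf10, rf10] at h4
    apply hω1
    apply mul_left_cancel₀ hω0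
    linear_combination h4
  have ig := ker_trivial4 hF g₀ hna
  obtain ⟨ρ, hρ⟩ := exists_lift g₀ ig φ lφ
  obtain ⟨σ, hσ⟩ := exists_lift g₀ ig ψ lψ
  obtain ⟨iρ, v, hv, hρv⟩ := exists_fixed_vec hF ρ (fun x hx => hφk (by
    rw [MonoidHom.mem_ker] at hx ⊢
    rw [← hρ, hx, map_one]))
  obtain ⟨iσ, v', hv', hσv⟩ := exists_fixed_vec hF σ (fun x hx => hψk (by
    rw [MonoidHom.mem_ker] at hx ⊢
    rw [← hσ, hx, map_one]))
  have iφ : Function.Injective φ := by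
    intro x y hxy
    apply iρ
    apply ig
    rw [hρ, hρ, hxy]
  have iψ : Function.Injective ψ := by
    intro x y hxy
    apply iσ
    apply ig
    rw [hσ, hσ, hxy]
  obtain ⟨s, hs0, hs3, hsA, hsC⟩ := exists_frame hF ρ σ iρ iσ v v' hv hv' hρv hσv (by
    intro a b
    apply ig
    rw [map_mul, map_mul, hρ, hσ]
    apply hAC
    · rw [← hφA]; exact ⟨a, rfl⟩
    · rw [← hψC]; exact ⟨b, rfl⟩)
  obtain ⟨γ, hγ⟩ : ∃ γ : SU 4 F 2 →* G, γ = g₀.comp (MulAut.conj s).toMonoidHom := ⟨_, rfl⟩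
  have hγa : ∀ w, γ (s⁻¹ * w * s) = g₀ w := by
    intro w
    rw [hγ]
    show g₀ (s * (s⁻¹ * w * s) * s⁻¹) = g₀ w
    congr 1
    group
  have iγ : Function.Injective γ := by
    rw [hγ]
    exact ig.comp (MulAut.conj s).injective
  have i1 : Function.Injective (φ.comp (emb hF (hd (by omega : 2 ≤ 3)))) := iφ.comp (emb_injective hF _)
  have i2 : Function.Injective (φ.comp (emb hF (tl 2))) := iφ.comp (emb_injective hF _)
  have i3 : Function.Injective (ψ.comp (emb hF (tl 2))) := iψ.comp (emb_injective hF _)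
  refine ⟨γ, ?_, ?_, ?_, ?_, ?_, iγ⟩
  · rw [← hφA]
    symm
    apply range_eq_of_le _ _ i1
    rintro _ ⟨b, rfl⟩
    obtain ⟨b', hb'⟩ := hsA b
    refine ⟨b', ?_⟩
    rw [MonoidHom.comp_apply, hb', hγa, hρ]
    rfl
  · rw [← hφB]
    symm
    apply range_eq_of_le _ _ i2
    rintro _ ⟨b, rfl⟩
    obtain ⟨c, hc⟩ : ∃ c, ρ (emb hF (tl 2) b) = σ (emb hF (hd (by omega : 2 ≤ 3)) c) := by
      have h1 : φ (emb hF (tl 2) b) ∈ (ψ.comp (emb hF (hd (by omega : 2 ≤ 3)))).range := by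
        rw [hψB, ← hφB]
        exact ⟨b, rfl⟩
      obtain ⟨c, hc⟩ := h1
      refine ⟨c, ?_⟩
      apply ig
      rw [hρ, hσ]
      exact hc.symm
    obtain ⟨b', hb'⟩ := mem_range_emb hF md (s⁻¹ * ρ (emb hF (tl 2) b) * s) (by
      intro j hj
      apply mt_conj
      fin_cases j
      · show mt (ρ (emb hF (tl 2) b)) *ᵥ (mt s *ᵥ (Pi.single 0 1)) = mt s *ᵥ (Pi.single 0 1)
        rw [hs0, hc, hσv]
      · exact absurd rfl (hj 0)
      · exact absurd rfl (hj 1)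
      · show mt (ρ (emb hF (tl 2) b)) *ᵥ (mt s *ᵥ (Pi.single 3 1)) = mt s *ᵥ (Pi.single 3 1)
        rw [hs3, hρv])
    refine ⟨b', ?_⟩
    rw [MonoidHom.comp_apply, hb', hγa, hρ]
    rfl
  · rw [← hψC]
    symm
    apply range_eq_of_le _ _ i3
    rintro _ ⟨b, rfl⟩
    obtain ⟨b', hb'⟩ := hsC b
    refine ⟨b', ?_⟩
    rw [MonoidHom.comp_apply, hb', hγa, hσ]
    rfl
  · rw [← hφV]
    symm
    apply range_eq_of_le _ _ iφ
    rintro _ ⟨x, rfl⟩
    obtain ⟨x', hx'⟩ := mem_range_emb hF (hd (by omega : 3 ≤ 4)) (s⁻¹ * ρ x * s) (by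
      intro j hj
      apply mt_conj
      fin_cases j
      · exact absurd rfl (hj 0)
      · exact absurd rfl (hj 1)
      · exact absurd rfl (hj 2)
      · show mt (ρ x) *ᵥ (mt s *ᵥ (Pi.single 3 1)) = mt s *ᵥ (Pi.single 3 1)
        rw [hs3, hρv])
    refine ⟨x', ?_⟩
    rw [MonoidHom.comp_apply, hx', hγa, hρ]
  · rw [← hψW]
    symm
    apply range_eq_of_le _ _ iψ
    rintro _ ⟨x, rfl⟩
    obtain ⟨x', hx'⟩ := mem_range_emb hF (tl 3) (s⁻¹ * σ x * s) (by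
      intro j hj
      apply mt_conj
      fin_cases j
      · show mt (σ x) *ᵥ (mt s *ᵥ (Pi.single 0 1)) = mt s *ᵥ (Pi.single 0 1)
        rw [hs0, hσv]
      · exact absurd rfl (hj 0)
      · exact absurd rfl (hj 1)
      · exact absurd rfl (hj 2))
    refine ⟨x', ?_⟩
    rw [MonoidHom.comp_apply, hx', hγa, hσ]

end basic

end H60.Ph.Two
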