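import Mathlib
import Cfsg.Agent.Lib.H54.RA0
import Cfsg.Agent.Lib.H47.SymCox

/-! The Coxeter presentation of `Sym(8)`. -/

set_option autoImplicit false

open Equiv Subgroup

namespace H60.RCox

theorem cox8 {G : Type*} [Group G] (x : Fin 7 → G) (h1 : ∀ i, x i * x i = 1) (h2 : ∀ i : Fin 6, (x i.castSucc * x i.succ) ^ 3 = 1) (h3 : ∀ i j : Fin 7, i.val + 1 < j.val → x i * x j = x j * x i) : ∃ f : Perm (Fin 8) →* G, ∀ i : Fin 7, f (swap i.castSucc i.succ) = x i := by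
  apply H47.SymCox.exists_hom x
  refine ⟨h1, h3, ?_⟩
  intro i j hij
  have hi : i.val < 6 := by have := j.2; omega
  have h4 := h2 ⟨i.val, hi⟩
  have e1 : (⟨i.val, hi⟩ : Fin 6).castSucc = i := by ext; rfl
  have e2 : (⟨i.val, hi⟩ : Fin 6).succ = j := by ext; simp; omega
  rw [e1, e2] at h4
  have hi1 : (x i)⁻¹ = x i := inv_eq_of_mul_eq_one_right (h1 i)
  have hj1 : (x j)⁻¹ = x j := inv_eq_of_mul_eq_one_right (h1 j)
  have h5 : (x i * x j * x i) * (x j * x i * x j) = 1 := by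
    rw [← h4, pow_succ, pow_two]; simp only [mul_assoc]
  have h6 := eq_inv_of_mul_eq_one_left h5
  rw [h6, mul_inv_rev, mul_inv_rev, hi1, hj1]
  simp only [mul_assoc]

end H60.RCox
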