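import Mathlib
import Cfsg.Agent.Lib.H54.RA0
import Cfsg.Agent.Lib.H3.ThompsonTransfer

/-! A subgroup of index two from a copy of `Sym(8)` controlling the fusion of transpositions. -/

set_option autoImplicit false

open Equiv Subgroup

namespace H60.RU4b

theorem odd_idx {G : Type*} [Group G] [Finite G] (R : Subgroup G) (u : G) (hu : u ∈ R) (hu2 : u ^ 2 = 1)
    (h : ∀ g : G, g * u * g⁻¹ ∈ R → g ∈ R) : Odd R.index := by
  have : Fact (Nat.Prime 2) := ⟨Nat.prime_two⟩
  by_contra hne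
  rw [Nat.not_odd_iff_even] at hne
  let u' : R := ⟨u, hu⟩
  have hu'2 : u' ^ 2 = 1 := Subtype.ext hu2
  have hp : IsPGroup 2 (zpowers u') := by
    rw [IsPGroup.iff_card]
    rw [Nat.card_zpowers]
    have h1 := orderOf_dvd_of_pow_eq_one hu'2
    rcases (Nat.dvd_prime Nat.prime_two).1 h1 with h2 | h2
    · exact ⟨0, by rw [h2]; rfl⟩
    · exact ⟨1, by rw [h2]; rfl⟩
  obtain ⟨Q, hQ⟩ := hp.exists_le_sylow
  set P : Subgroup G := (Q : Subgroup R).map R.subtype with hP
  set n := (Nat.card R).factorization 2 with hn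
  have hQc : Nat.card Q = 2 ^ n := Q.card_eq_multiplicity
  have hPc : Nat.card P = 2 ^ n := by
    rw [← hQc]
    exact Nat.card_congr ((Q : Subgroup R).equivMapOfInjective R.subtype R.subtype_injective).symm.toEquiv
  have hdvd : 2 ^ (n + 1) ∣ Nat.card G := by
    rw [← Subgroup.card_mul_index R, pow_succ]
    exact Nat.mul_dvd_mul (Nat.ordProj_dvd _ _) hne.two_dvd
  obtain ⟨K, hK, hPK⟩ := Sylow.exists_subgroup_card_pow_succ hdvd hPc
  have hrel : P.relIndex K = 2 := by
    have h1 := Subgroup.card_mul_index (P.subgroupOf K)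
    have h2 : Nat.card (P.subgroupOf K) = Nat.card P := Nat.card_congr (Subgroup.subgroupOfEquivOfLe hPK).toEquiv
    rw [h2, hPc, hK, pow_succ] at h1
    exact Nat.eq_of_mul_eq_mul_left (pow_pos (by norm_num) n) h1
  have hnorm : (P.subgroupOf K).Normal := Subgroup.normal_of_index_eq_two hrel
  have huP : u ∈ P := ⟨u', hQ (mem_zpowers u'), rfl⟩
  have hPR : P ≤ R := by
    rintro _ ⟨x, -, rfl⟩
    exact x.2
  have hKR : K ≤ R := by
    intro g hg
    apply h
    apply hPR
    have h1 := hnorm.conj_mem ⟨u, hPK huP⟩ (Subgroup.mem_subgroupOf.2 huP) ⟨g, hg⟩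
    exact Subgroup.mem_subgroupOf.1 h1
  have h3 : 2 ^ (n + 1) ∣ Nat.card R := by
    rw [← hK]
    exact Subgroup.card_dvd_of_le hKR
  have h4 := (Nat.Prime.pow_dvd_iff_le_factorization Nat.prime_two Nat.card_pos.ne').1 h3
  omega

theorem u4b {G : Type*} [Group G] [Finite G] {f : Perm (Fin 8) →* G} (hf : Function.Injective f) (h : ∀ g : G, g * f (swap 3 7) * g⁻¹ ∈ f.range → g ∈ f.range) : ∃ K : Subgroup G, K.index = 2 ∧ ∀ p, f p ∈ K ↔ Perm.sign p = 1 := by
  have hs : (swap (3 : Fin 8) 7) ^ 2 = 1 := by rw [pow_two, swap_mul_self]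
  have hu2 : f (swap 3 7) ^ 2 = 1 := by rw [← map_pow, hs, map_one]
  have hodd := odd_idx f.range (f (swap 3 7)) ⟨_, rfl⟩ hu2 h
  let Q : Subgroup G := (alternatingGroup (Fin 8)).map f
  have hQR : Q ≤ f.range := by
    rintro _ ⟨p, -, rfl⟩
    exact ⟨p, rfl⟩
  have hrel : Q.relIndex f.range = 2 := by
    rw [MonoidHom.range_eq_map, Subgroup.relIndex_map_map_of_injective _ _ hf, Subgroup.relIndex_top_right]
    exact alternatingGroup.index_eq_two
  have hconj : ∀ g : G, g * f (swap 3 7) * g⁻¹ ∉ Q := by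
    intro g hg
    obtain ⟨p, rfl⟩ := h g (hQR hg)
    obtain ⟨q, hq, hqe⟩ := hg
    rw [← map_mul, ← map_inv, ← map_mul] at hqe
    have h1 := hf hqe
    have h2 : Perm.sign q = 1 := hq
    rw [h1] at h2
    simp only [map_mul, map_inv] at h2
    rw [mul_comm (Perm.sign p), mul_assoc, mul_inv_cancel, mul_one, Perm.sign_swap (by decide)] at h2
    exact absurd h2 (by decide)
  obtain ⟨M, hM, hMi, hMu⟩ := H3.ThompsonTransfer.exists_index_two f.range Q hQR hodd hrel (f (swap 3 7)) hu2 hconj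
  refine ⟨M, hMi, ?_⟩
  have hswap : ∀ x y : Fin 8, x ≠ y → f (swap x y) ∉ M := by
    intro x y hxy hm
    apply hMu
    obtain ⟨σ, hσ⟩ := isConj_iff.1 (Perm.isConj_swap hxy (show (3 : Fin 8) ≠ 7 by decide))
    rw [← hσ, map_mul, map_mul, map_inv]
    exact hM.conj_mem _ hm _
  intro p
  induction p using Perm.swap_induction_on with
  | one => simp [M.one_mem]
  | swap_mul g x y hxy ih =>
    rw [map_mul, Subgroup.mul_mem_iff_of_index_two hMi, ih, Perm.sign_mul, Perm.sign_swap hxy]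
    have h1 := hswap x y hxy
    rcases Int.units_eq_one_or (Perm.sign g) with h2 | h2
    · rw [h2]; simp [h1]
    · rw [h2]; simp [h1]

end H60.RU4b
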