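import Cfsg.Agent.Lib.H60.SG8

/-!
A group of order 360 with a normal subgroup `A₅` and a character of degree 10: the main theorem.
-/

set_option autoImplicit false
set_option linter.unusedSectionVars false
set_option linter.style.haveILetI false

open Subgroup Cfsg H18.CharBasic H18.CharOrtho H18.CharInd H18.CharQuot H31.Clifford

namespace H60.SG

universe u

theorem caseB {G : Type u} [Group G] [Finite G] (hG : Nat.card G = 360) (M : Subgroup G)
    [hMn : M.Normal] [IsSimpleGroup M] (hM : Nat.card M = 60) (χ : IrrCharacter G)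
    (h10 : charDegree (χ : G → ℂ) = 10) : (degreeGraph G).Adj 2 3 := by
  classical
  letI := Fintype.ofFinite G
  letI := Fintype.ofFinite M
  have hidx : M.index = 6 := by
    have := M.card_mul_index
    rw [hM, hG] at this
    omega
  have hperf := perfect60 hM
  obtain ⟨F5, F3, hF5, hF3, c5, c3, hdeg⟩ := degrees60 hM
  have hindex : ∀ ψ : IrrCharacter M, (inertia M (ψ : M → ℂ)).index ∣ 6 := by
    intro ψ
    rw [← hidx]
    exact index_dvd_of_le (le_inertia M (isClassFunction_of_isIrr ψ.2))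
  -- the character of degree 5
  obtain ⟨ψ, hψ⟩ := H82.Cliff.exists_below M χ
  have hψ5 : charDegree (ψ : M → ℂ) = 5 := by
    obtain ⟨e, he0, he1, he2⟩ := clifford_bound M χ ψ hψ
    rw [h10] at he1
    rw [hidx] at he2
    have h1 := hdeg ψ
    have h2 := hindex ψ
    obtain ⟨s, hs⟩ : ∃ s, s = (inertia M (ψ : M → ℂ)).index := ⟨_, rfl⟩
    rw [← hs] at he1 he2 h2
    have hs0 : 0 < s := Nat.pos_of_dvd_of_pos h2 (by norm_num)
    have hs6 : s ≤ 6 := Nat.le_of_dvd (by norm_num) h2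
    have he3 : e ≤ 2 := by
      by_contra hcon
      push Not at hcon
      have h4 : 3 ^ 2 * 1 ≤ e ^ 2 * s := Nat.mul_le_mul (Nat.pow_le_pow_left hcon 2) hs0
      omega
    have he4 : 1 ≤ e := Nat.one_le_iff_ne_zero.2 he0
    simp only [List.mem_cons, List.not_mem_nil, or_false] at h1
    obtain ⟨d, hd⟩ : ∃ d, d = charDegree (ψ : M → ℂ) := ⟨_, rfl⟩
    rw [← hd] at he1 h1 ⊢
    interval_cases e <;> interval_cases s <;> omega
  have huniq : ∀ φ : IrrCharacter M, charDegree (φ : M → ℂ) = 5 → φ = ψ := by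
    intro φ hφ
    obtain ⟨a, ha⟩ := Finset.card_eq_one.1 c5
    have h1 := (hF5 φ).2 hφ
    have h2 := (hF5 ψ).2 hψ5
    rw [ha, Finset.mem_singleton] at h1 h2
    rw [h1, h2]
  have hconjdeg : ∀ (φ : IrrCharacter M) (g : G),
      charDegree ((⟨_, isIrrCharacter_conjN M g φ.2⟩ : IrrCharacter M) : M → ℂ) =
        charDegree (φ : M → ℂ) := by
    intro φ g
    unfold charDegree
    rw [show ((⟨_, isIrrCharacter_conjN M g φ.2⟩ : IrrCharacter M) : M → ℂ) 1 = (φ : M → ℂ) 1 from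
      cj_at_one M g _]
  have hinv : ∀ (g : G) (n : M), (ψ : M → ℂ) ⟨g * n * g⁻¹, hMn.conj_mem (n : G) n.2 g⟩ =
      (ψ : M → ℂ) n := by
    intro g n
    have h1 := huniq ⟨_, isIrrCharacter_conjN M g ψ.2⟩ (by rw [hconjdeg, hψ5])
    exact congrFun (congrArg Subtype.val h1) n
  -- its extension
  obtain ⟨χ5, hχ5, hext⟩ := (Cfsg.Agent.S0866.result M (ψ : M → ℂ) ψ.2 hinv 5
    (by rw [← H82.Deg.coe_charDegree' ψ, hψ5]) (by rw [hidx]; norm_num)).2
    ⟨fun _ => 1, isCharacter_of_isIrr isIrrCharacter_one, rfl,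
      fun n => (det_one hperf (isCharacter_of_isIrr ψ.2) n).symm⟩
  have h1irr : IsIrrCharacter M (fun _ => 1 : M → ℂ) := isIrrCharacter_one
  have honemul : ∀ f : M → ℂ, (fun _ => 1 : M → ℂ) * f = f := fun f => by
    funext x; simp
  have hgal := Cfsg.Agent.S0856.result M (fun _ => 1) (ψ : M → ℂ) h1irr ψ.2 (fun _ _ => rfl) hinv
    (by rw [honemul]; exact ψ.2) χ5 hχ5 hext
  have hχmem : (χ : G → ℂ) ∈ {ζ : G → ℂ | IsIrrCharacter G ζ ∧
      classInner (indFun M ((fun _ => 1) * (ψ : M → ℂ))) ζ ≠ 0} := by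
    refine ⟨χ.2, ?_⟩
    rw [honemul, frobenius M (ψ : M → ℂ) (isClassFunction_of_isIrr χ.2)]
    intro h0
    rw [H82.Cliff.liesOver_iff] at hψ
    apply hψ
    rw [← H18.CharOrtho.inner_conj_symm, h0, map_zero]
  obtain ⟨β, ⟨hβ, hβ1⟩, hβχ⟩ := hgal.surjOn hχmem
  have hχ5one : χ5 1 = 5 := by
    have h1 := hext 1
    rw [← H82.Deg.coe_charDegree' ψ, hψ5] at h1
    exact_mod_cast h1
  have hβone : β 1 = 2 := by
    have h1 := congrFun hβχ 1
    simp only [Pi.mul_apply] at h1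
    rw [hχ5one, ← H82.Deg.coe_charDegree' χ, h10] at h1
    have h2 : β 1 * 5 = 2 * 5 := by rw [h1]; norm_num
    exact mul_right_cancel₀ (by norm_num) h2
  -- a character of degree 3
  have hne : F3.Nonempty := Finset.card_pos.1 (by omega)
  obtain ⟨θ, hθ⟩ := hne
  rw [hF3] at hθ
  obtain ⟨χ', hχ'⟩ := H82.Cliff.exists_liesOver M θ
  obtain ⟨e, he0, he1, he2⟩ := clifford_bound M χ' θ hχ'
  rw [hidx] at he2
  have horb : (inertia M (θ : M → ℂ)).index ≤ 2 := by
    rw [← card_orb, ← c3]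
    have hsub : orb M (θ : M → ℂ) ⊆ F3.image (fun φ : IrrCharacter M => (φ : M → ℂ)) := by
      intro f hf
      obtain ⟨g, rfl⟩ := (mem_orb M).1 hf
      rw [Finset.mem_image]
      exact ⟨⟨_, isIrrCharacter_conjN M g θ.2⟩, (hF3 _).2 (by rw [hconjdeg, hθ]), rfl⟩
    exact (Finset.card_le_card hsub).trans Finset.card_image_le
  have hspos : 0 < (inertia M (θ : M → ℂ)).index := Nat.pos_of_dvd_of_pos (hindex θ) (by norm_num)
  obtain ⟨s, hs⟩ : ∃ s, s = (inertia M (θ : M → ℂ)).index := ⟨_, rfl⟩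
  rw [← hs] at he1 he2 horb hspos
  rw [hθ] at he1
  have he3 : e ≤ 2 := by
    by_contra hcon
    push Not at hcon
    have h4 : 3 ^ 2 * 1 ≤ e ^ 2 * s := Nat.mul_le_mul (Nat.pow_le_pow_left hcon 2) hspos
    omega
  have he4 : 1 ≤ e := Nat.one_le_iff_ne_zero.2 he0
  have hcase : 6 ∣ charDegree (χ' : G → ℂ) ∨ (e = 1 ∧ s = 1) := by
    interval_cases e <;> interval_cases s <;> first | (right; exact ⟨rfl, rfl⟩) | (left; omega)
  rcases hcase with h6 | ⟨rfl, rfl⟩
  · exact adj_of_deg (by norm_num) Nat.prime_two Nat.prime_three χ' h6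
  have htop : inertia M (θ : M → ℂ) = ⊤ := index_eq_one.1 hs.symm
  have hinvθ : ∀ (g : G) (n : M), (θ : M → ℂ) ⟨g * n * g⁻¹, hMn.conj_mem (n : G) n.2 g⟩ =
      (θ : M → ℂ) n := by
    intro g
    exact (mem_inertia_iff M).1 (by rw [htop]; trivial)
  rw [H82.Cliff.liesOver_iff] at hχ'
  obtain ⟨m, hm0, hm1, -⟩ := H19.FullRam.restrict_inv M χ'.2 θ.2 hχ' hinvθ
  have hm2 : m = 1 := by
    have h1 := congrFun hm1 1
    simp only [Pi.smul_apply, smul_eq_mul, OneMemClass.coe_one] at h1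
    rw [← H82.Deg.coe_charDegree' χ', ← H82.Deg.coe_charDegree' θ, he1, hθ] at h1
    have h2 : 1 * 1 * 3 = m * 3 := by exact_mod_cast h1
    omega
  have hextθ : ∀ n : M, (χ' : G → ℂ) n = (θ : M → ℂ) n := by
    intro n
    have h1 := congrFun hm1 n
    rw [hm2] at h1
    simpa using h1
  have hgal2 := Cfsg.Agent.S0856.result M (fun _ => 1) (θ : M → ℂ) h1irr θ.2 (fun _ _ => rfl) hinvθ
    (by rw [honemul]; exact θ.2) (χ' : G → ℂ) χ'.2 hextθ
  have hmaps := hgal2.mapsTo ⟨hβ, hβ1⟩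
  refine adj_of_deg (by norm_num) Nat.prime_two Nat.prime_three ⟨_, hmaps.1⟩ ?_
  have hd6 : charDegree (((⟨_, hmaps.1⟩ : IrrCharacter G)) : G → ℂ) = 6 := by
    apply H82.Deg.charDegree_eq_of
    show β 1 * (χ' : G → ℂ) 1 = _
    rw [hβone, ← H82.Deg.coe_charDegree' χ', he1]
    norm_num
  rw [hd6]

end H60.SG
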