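import Cfsg.Agent.Lib.H60.SO6
import Cfsg.Agent.Lib.H60.SO4
import Cfsg.Agent.S0496
import Cfsg.Agent.S0983

/-!
The orders of the nonabelian simple groups of order less than 6000.
-/

set_option autoImplicit false
set_option linter.unusedSectionVars false

namespace H60.SO

open Cfsg H21.NE

universe u

/-- the orders -/
def ords : List ℕ := [60, 168, 360, 504, 660, 1092, 2448, 2520, 3420, 4080, 5616]

theorem mem_ords {G : Type u} [Group G] [Finite G] [IsSimpleGroup G]
    (hG : ¬ IsMulCommutative G) (h : Nat.card G < 6000) : Nat.card G ∈ ords := by
  rcases Nat.lt_or_ge 1092 (Nat.card G) with h1 | h1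
  · rcases Nat.lt_or_ge (Nat.card G) 3640 with h2 | h2
    · have h3 := mem_exc hG h1 h2
      simp only [exc, List.mem_cons, List.not_mem_nil, or_false] at h3
      rcases h3 with h | h | h | h | h | h | h | h | h | h | h | h
      · exact (no_of_sylB hG (p := 7) (a := 2) (m := 24) (by norm_num) (by rw [h]; decide +kernel)).elim
      · exact (no1512 h).elim
      · exact (no_of_sylB hG (p := 7) (a := 2) (m := 36) (by norm_num) (by rw [h]; decide +kernel)).elim
      · exact (no1800 h).elim
      · exact (no_of_sylB hG (p := 7) (a := 2) (m := 48) (by norm_num) (by rw [h]; decide +kernel)).elim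
      · rw [h]; decide
      · rw [h]; decide
      · exact (no2700 h).elim
      · exact (no3360 h).elim
      · rw [h]; decide
      · exact (no_of_sylB hG (p := 7) (a := 2) (m := 72) (by norm_num) (by rw [h]; decide +kernel)).elim
      · exact (no3600 h).elim
    · rcases Nat.eq_or_lt_of_le h2 with h3 | h3
      · exfalso
        have hc : checkC 61 [] (Nat.card G) (13, [(2, 8), (5, 5), (7, 7)]) = true := by
          rw [← h3]; decide +kernel
        have := mem_of_checkC hG hc
        simp at this
      · rcases Cfsg.Agent.S0983.result hG h3 (by omega) with h4 | h4 | h4 | h4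
        · rw [h4]; decide
        · rw [h4]; decide
        · omega
        · omega
  · rcases Cfsg.Agent.S0496.result hG h1 with h4 | h4 | h4 | h4 | h4 | h4 <;> rw [h4] <;> decide

end H60.SO
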