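import Cfsg.Agent.Lib.H60.SG2
import Cfsg.Agent.Lib.H60.SO7
import Cfsg.Agent.Lib.H82.SL2Even
import Cfsg.Agent.Lib.H82.Rel2
import Cfsg.Agent.Lib.H19.FullRam

/-!
Degree graphs: congruence, quotients, normal subgroups; numerical criterion for simplicity.
-/

set_option autoImplicit false
set_option linter.unusedSectionVars false

open Subgroup Cfsg

namespace H60.SG

universe u v

theorem degreePrimes_congr {G : Type u} {H : Type v} [Group G] [Group H] (e : G ≃* H) :
    degreePrimes G = degreePrimes H := by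
  unfold degreePrimes
  rw [H82.SL2Even.charDegrees_congr e]

theorem adj_congr {G : Type u} {H : Type v} [Group G] [Group H] (e : G ≃* H) (p q : ℕ) :
    (degreeGraph G).Adj p q ↔ (degreeGraph H).Adj p q := by
  show (p ≠ q ∧ p.Prime ∧ q.Prime ∧ ∃ d ∈ charDegrees G, p * q ∣ d) ↔
    (p ≠ q ∧ p.Prime ∧ q.Prime ∧ ∃ d ∈ charDegrees H, p * q ∣ d)
  rw [H82.SL2Even.charDegrees_congr e]

theorem adj_of_deg {G : Type u} [Group G] [Finite G] {p q : ℕ} (hpq : p ≠ q) (hp : p.Prime)
    (hq : q.Prime) (χ : IrrCharacter G) (h : p * q ∣ charDegree (χ : G → ℂ)) :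
    (degreeGraph G).Adj p q := ⟨hpq, hp, hq, _, ⟨χ, rfl⟩, h⟩

theorem exists_deg_of_adj {G : Type u} [Group G] [Finite G] {p q : ℕ}
    (h : (degreeGraph G).Adj p q) : ∃ χ : IrrCharacter G, p * q ∣ charDegree (χ : G → ℂ) := by
  obtain ⟨_, _, _, d, ⟨χ, rfl⟩, hd⟩ := h
  exact ⟨χ, hd⟩

theorem adj_quot {G : Type u} [Group G] [Finite G] (N : Subgroup G) [N.Normal] {p q : ℕ}
    (h : (degreeGraph (G ⧸ N)).Adj p q) : (degreeGraph G).Adj p q := by
  obtain ⟨h1, h2, h3, d, ⟨χ, rfl⟩, hd⟩ := h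
  exact ⟨h1, h2, h3, _, ⟨⟨_, H18.CharQuot.isIrrCharacter_inflate N χ.2⟩, rfl⟩, hd⟩

theorem adj_normal {G : Type u} [Group G] [Finite G] (N : Subgroup G) [N.Normal] {p q : ℕ}
    (h : (degreeGraph N).Adj p q) : (degreeGraph G).Adj p q := by
  obtain ⟨h1, h2, h3, d, ⟨θ, rfl⟩, hd⟩ := h
  obtain ⟨χ, hχ⟩ := H82.Cliff.exists_liesOver N θ
  exact ⟨h1, h2, h3, _, ⟨χ, rfl⟩, hd.trans (H82.Cliff.degree_dvd_of_liesOver' N χ θ hχ)⟩

/-- Itô for a Sylow subgroup of prime order -/
theorem sylow_ne_one {G : Type u} [Group G] [Finite G] {r : ℕ} [hr : Fact r.Prime]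
    (hrr : ¬ r * r ∣ Nat.card G) (hd : r ∈ degreePrimes G) : Nat.card (Sylow r G) ≠ 1 := by
  intro h1
  have hs : Subsingleton (Sylow r G) := (Nat.card_eq_one_iff_unique.1 h1).1
  obtain ⟨P⟩ : Nonempty (Sylow r G) := inferInstance
  have hPn : (P : Subgroup G).Normal := Sylow.normal_of_subsingleton P
  have hdvd : r ∣ Nat.card G := H82.Cliff.degreePrimes_dvd_card hd
  have hcard : Nat.card (P : Subgroup G) = r := by
    rw [P.card_eq_multiplicity]
    have h2 : (Nat.card G).factorization r = 1 := by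
      have h3 : 1 ≤ (Nat.card G).factorization r :=
        (hr.out.dvd_iff_one_le_factorization Nat.card_pos.ne').1 hdvd
      have h4 : ¬ 2 ≤ (Nat.card G).factorization r := by
        intro h5
        apply hrr
        rw [← pow_two]
        exact (hr.out.pow_dvd_iff_le_factorization Nat.card_pos.ne').2 h5
      omega
    rw [h2, pow_one]
  have hcyc : IsCyclic (P : Subgroup G) := isCyclic_of_prime_card hcard
  have hidx : ¬ r ∣ (P : Subgroup G).index := P.not_dvd_index
  refine not_mem_degreePrimes (P : Subgroup G) ?_ hidx hd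
  intro a ha b hb
  obtain ⟨g, hg⟩ := hcyc.exists_generator
  obtain ⟨i, hi⟩ := hg ⟨a, ha⟩
  obtain ⟨j, hj⟩ := hg ⟨b, hb⟩
  have e1 : (g ^ i : (P : Subgroup G)) * g ^ j = g ^ j * g ^ i := by
    rw [← zpow_add, ← zpow_add, add_comm]
  have e2 := congrArg (fun z : (P : Subgroup G) => (z : G)) e1
  have hi' : (g ^ i : (P : Subgroup G)) = ⟨a, ha⟩ := hi
  have hj' : (g ^ j : (P : Subgroup G)) = ⟨b, hb⟩ := hj
  rw [hi', hj'] at e2
  exact e2

/-- the numerical condition, decidable: every divisor `d ≠ 1` of `N` with `d ≡ 1 mod r` is divisible by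
two distinct primes -/
def chk (N r : ℕ) (L : List (ℕ × ℕ)) : Bool :=
  (List.range (N + 1)).all fun d => !(decide (1 < d) && (N % d == 0) && (d % r == 1)) ||
    L.any (fun z => d % z.1 == 0 && d % z.2 == 0) || d == 8 && r == 7 || d == 27 && r == 13

theorem hnum_of_chk {N r : ℕ} (L : List (ℕ × ℕ)) (hN : 0 < N)
    (hL : ∀ z ∈ L, z.1.Prime ∧ z.2.Prime ∧ z.1 ≠ z.2)
    (h : chk N r L = true) {p i : ℕ} (hp : p.Prime) (hi : 1 ≤ i) (hd : p ^ i ∣ N)
    (h1 : p ^ i % r = 1) : (p ^ i = 8 ∧ r = 7) ∨ (p ^ i = 27 ∧ r = 13) := by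
  unfold chk at h
  rw [List.all_eq_true] at h
  have h2 := h (p ^ i) (List.mem_range.2 (Nat.lt_succ_of_le (Nat.le_of_dvd hN hd)))
  have h3 : 1 < p ^ i := Nat.one_lt_pow (by omega) hp.one_lt
  have h4 : N % p ^ i = 0 := Nat.mod_eq_zero_of_dvd hd
  simp only [Bool.or_eq_true, Bool.not_eq_true', Bool.and_eq_false_iff, decide_eq_false_iff_not,
    beq_eq_false_iff_ne, ne_eq, Bool.and_eq_true, beq_iff_eq, List.any_eq_true] at h2
  rcases h2 with ((h2 | h2) | h2) | h2
  · exfalso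
    rcases h2 with (h2 | h2) | h2
    · exact h2 h3
    · exact h2 h4
    · exact h2 h1
  · exfalso
    obtain ⟨z, hz, hz1, hz2⟩ := h2
    obtain ⟨e1, e2, e3⟩ := hL z hz
    have f1 : z.1 = p := (Nat.prime_dvd_prime_iff_eq e1 hp).1
      (e1.dvd_of_dvd_pow (Nat.dvd_of_mod_eq_zero hz1))
    have f2 : z.2 = p := (Nat.prime_dvd_prime_iff_eq e2 hp).1
      (e2.dvd_of_dvd_pow (Nat.dvd_of_mod_eq_zero hz2))
    exact e3 (f1.trans f2.symm)
  · exact Or.inl h2
  · exact Or.inr h2

theorem eq_two_three {p i : ℕ} (hp : p.Prime) (h : p ^ i = 8) : p = 2 ∧ i = 3 := by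
  have h1 : p ∣ 8 := by
    rcases Nat.eq_zero_or_pos i with h0 | h0
    · rw [h0, pow_zero] at h; omega
    · rw [← h]; exact dvd_pow_self p (by omega)
  have h2 : p = 2 := (Nat.prime_dvd_prime_iff_eq hp Nat.prime_two).1
    (hp.dvd_of_dvd_pow (show p ∣ 2 ^ 3 from h1))
  subst h2
  exact ⟨rfl, Nat.pow_right_injective le_rfl (show 2 ^ i = 2 ^ 3 from h)⟩

theorem eq_three_three {p i : ℕ} (hp : p.Prime) (h : p ^ i = 27) : p = 3 ∧ i = 3 := by
  have h1 : p ∣ 27 := by
    rcases Nat.eq_zero_or_pos i with h0 | h0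
    · rw [h0, pow_zero] at h; omega
    · rw [← h]; exact dvd_pow_self p (by omega)
  have h2 : p = 3 := (Nat.prime_dvd_prime_iff_eq hp Nat.prime_three).1
    (hp.dvd_of_dvd_pow (show p ∣ 3 ^ 3 from h1))
  subst h2
  exact ⟨rfl, Nat.pow_right_injective (by norm_num : 2 ≤ 3) (show 3 ^ i = 3 ^ 3 from h)⟩

theorem not_comm_congr {G : Type u} {H : Type v} [Group G] [Group H] (e : G ≃* H)
    (h : ¬ IsMulCommutative G) : ¬ IsMulCommutative H := by
  intro hc
  apply h
  constructor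
  constructor
  intro a b
  apply e.injective
  rw [map_mul, map_mul]
  exact hc.is_comm.comm _ _

/-- if the section has full order then the group is simple -/
theorem Str.isSimple {G : Type u} [Group G] [Finite G] {r : ℕ} [Fact r.Prime] {x : G} (h : Str r x)
    (hc : Nat.card (↥(normalClosure ({x} : Set G)) ⧸ pPrimeCore r ↥(normalClosure ({x} : Set G))) =
      Nat.card G) : IsSimpleGroup G := by
  have h1 := card_eq_card_quotient_mul_card_subgroup (pPrimeCore r ↥(normalClosure ({x} : Set G)))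
  have h2 := card_mul_index (normalClosure ({x} : Set G))
  rw [hc] at h1
  have h3 : Nat.card G * (Nat.card (pPrimeCore r ↥(normalClosure ({x} : Set G))) *
      (normalClosure ({x} : Set G)).index) = Nat.card G * 1 := by
    rw [← mul_assoc, ← h1, h2, mul_one]
  have h4 := Nat.eq_of_mul_eq_mul_left Nat.card_pos h3
  have hK : Nat.card (pPrimeCore r ↥(normalClosure ({x} : Set G))) = 1 := Nat.eq_one_of_mul_eq_one_right h4
  have hM : (normalClosure ({x} : Set G)).index = 1 := Nat.eq_one_of_mul_eq_one_left h4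
  rw [Subgroup.card_eq_one] at hK
  rw [Subgroup.index_eq_one] at hM
  have e1 : ↥(normalClosure ({x} : Set G)) ⧸ pPrimeCore r ↥(normalClosure ({x} : Set G)) ≃*
      ↥(normalClosure ({x} : Set G)) := QuotientGroup.quotientMulEquivOfEq hK |>.trans
        QuotientGroup.quotientBot
  have e2 : ↥(normalClosure ({x} : Set G)) ≃* G :=
    (MulEquiv.subgroupCongr hM).trans Subgroup.topEquiv
  have := h.simple
  have hs : IsSimpleGroup G := MulEquiv.isSimpleGroup (e1.trans e2).symm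
  exact hs

theorem Str.mem_ords {G : Type u} [Group G] [Finite G] {r : ℕ} [Fact r.Prime] {x : G} (h : Str r x)
    (hlt : Nat.card G < 6000) :
    Nat.card (↥(normalClosure ({x} : Set G)) ⧸ pPrimeCore r ↥(normalClosure ({x} : Set G))) ∈ H60.SO.ords := by
  have := h.simple
  apply H60.SO.mem_ords h.ncomm
  refine lt_of_le_of_lt ?_ hlt
  refine (Nat.le_of_dvd Nat.card_pos ?_)
  exact (card_quotient_dvd_card _).trans (card_subgroup_dvd_card _)

theorem Str.card_dvd {G : Type u} [Group G] [Finite G] {r : ℕ} [Fact r.Prime] {x : G} :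
    Nat.card (↥(normalClosure ({x} : Set G)) ⧸ pPrimeCore r ↥(normalClosure ({x} : Set G))) ∣
      Nat.card G :=
  (card_quotient_dvd_card _).trans (card_subgroup_dvd_card _)

end H60.SG
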