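import Cfsg.Agent.S0494
import Cfsg.Agent.S0495
import Cfsg.Agent.S0497
import Cfsg.Agent.S0498
import Cfsg.Agent.S1011
import Cfsg.Agent.S1020
import Cfsg.Agent.S1021
import Cfsg.Agent.S0981
import Cfsg.Agent.S0984
import Cfsg.Agent.S4774
import Cfsg.Agent.S4812
import Cfsg.Agent.Lib.H6.SmallIsoA
import Cfsg.Agent.Lib.H60.SG3

/-!
Models of the simple groups of order < 6000 of type `PSL(2,q)`, their degree graphs.
-/

set_option autoImplicit false
set_option linter.unusedSectionVars false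

open Subgroup Cfsg Matrix

namespace H60.SG

universe u v

instance fact7 : Fact (Nat.Prime 7) := ⟨by norm_num⟩
instance fact11 : Fact (Nat.Prime 11) := ⟨by norm_num⟩
instance fact13 : Fact (Nat.Prime 13) := ⟨by norm_num⟩
instance fact17 : Fact (Nat.Prime 17) := ⟨by norm_num⟩
instance fact19 : Fact (Nat.Prime 19) := ⟨by norm_num⟩
instance fact5 : Fact (Nat.Prime 5) := ⟨by norm_num⟩

noncomputable instance (p n : ℕ) [Fact p.Prime] [NeZero n] : Fintype (GaloisField p n) :=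
  Fintype.ofFinite _

theorem card_gf (p n : ℕ) [Fact p.Prime] [NeZero n] (hn : n ≠ 0) :
    Fintype.card (GaloisField p n) = p ^ n := by
  rw [← Nat.card_eq_fintype_card, GaloisField.card p n hn]

/-- facts about the degree graph of a group isomorphic to `PSL(2,q)`, `q` odd -/
theorem odd_facts (F : Type) [Field F] [Fintype F] (t : ℕ) [Fact t.Prime] [CharP F t] (ht : t ≠ 2)
    (q : ℕ) (hq : Fintype.card F = q) (h5 : 5 < q) {S : Type u} [Group S] [Finite S]
    (hS : Nonempty (S ≃* ProjectiveSpecialLinearGroup (Fin 2) F)) :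
    degreePrimes S = {r : ℕ | r.Prime ∧ r ∣ q * (q ^ 2 - 1)} ∧
    ∀ r s : ℕ, (degreeGraph S).Adj r s ↔ (r ≠ s ∧ r.Prime ∧ s.Prime ∧ r ∣ q ^ 2 - 1 ∧ s ∣ q ^ 2 - 1 ∧
      (r = 2 ∨ s = 2 ∨ (r ∣ q + 1 ∧ s ∣ q + 1) ∨ (r ∣ q - 1 ∧ s ∣ q - 1))) :=
  Cfsg.Agent.S4774.result F t ht q hq h5 (Or.inl hS)

theorem even_facts (F : Type) [Field F] [Fintype F] [CharP F 2]
    (q : ℕ) (hq : Fintype.card F = q) (h4 : 4 ≤ q) {S : Type u} [Group S] [Finite S]
    (hS : Nonempty (S ≃* ProjectiveSpecialLinearGroup (Fin 2) F)) :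
    degreePrimes S = {r : ℕ | r.Prime ∧ r ∣ q * (q ^ 2 - 1)} ∧
    ∀ r s : ℕ, (degreeGraph S).Adj r s ↔ (r ≠ s ∧ r.Prime ∧ s.Prime ∧
      ((r ∣ q + 1 ∧ s ∣ q + 1) ∨ (r ∣ q - 1 ∧ s ∣ q - 1))) :=
  Cfsg.Agent.S4812.result F q hq h4 (Or.inl hS)

theorem ex60 {S : Type u} [Group S] [Finite S] [IsSimpleGroup S] (h : Nat.card S = 60) :
    Nonempty (S ≃* ProjectiveSpecialLinearGroup (Fin 2) (GaloisField 2 2)) := by
  have h1 := Cfsg.Agent.S0494.result h
  have hF := card_gf 2 2 (by norm_num)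
  have hs : IsSimpleGroup (ProjectiveSpecialLinearGroup (Fin 2) (GaloisField 2 2)) :=
    ProjectiveSpecialLinearGroup.rank_two_simple (by rw [Nat.card_eq_fintype_card, hF]; norm_num)
  have hc := H6.SmallIsoA.card_psl2 (F := GaloisField 2 2)
  rw [hF] at hc
  have hc' : Nat.card (ProjectiveSpecialLinearGroup (Fin 2) (GaloisField 2 2)) = 60 := by
    norm_num at hc
    omega
  have h2 := Cfsg.Agent.S0494.result hc'
  obtain ⟨e1⟩ := h1
  obtain ⟨e2⟩ := h2
  exact ⟨e1.trans e2.symm⟩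

theorem ex360 {S : Type u} [Group S] [Finite S] [IsSimpleGroup S] (h : Nat.card S = 360) :
    Nonempty (S ≃* ProjectiveSpecialLinearGroup (Fin 2) (GaloisField 3 2)) := by
  have h1 := Cfsg.Agent.S0497.result h
  have hF := card_gf 3 2 (by norm_num)
  have hs : IsSimpleGroup (ProjectiveSpecialLinearGroup (Fin 2) (GaloisField 3 2)) :=
    ProjectiveSpecialLinearGroup.rank_two_simple (by rw [Nat.card_eq_fintype_card, hF]; norm_num)
  have hc := H6.SmallIsoA.card_psl2 (F := GaloisField 3 2)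
  rw [hF] at hc
  have hc' : Nat.card (ProjectiveSpecialLinearGroup (Fin 2) (GaloisField 3 2)) = 360 := by
    norm_num at hc
    omega
  have h2 := Cfsg.Agent.S0497.result hc'
  obtain ⟨e1⟩ := h1
  obtain ⟨e2⟩ := h2
  exact ⟨e1.trans e2.symm⟩

/-- degree graph facts -/
theorem facts60 {S : Type u} [Group S] [Finite S] [IsSimpleGroup S] (h : Nat.card S = 60) :
    (∀ p : ℕ, p.Prime → p ∣ 60 → p ∈ degreePrimes S) ∧ ¬ (degreeGraph S).Adj 2 3 ∧
      ¬ (degreeGraph S).Adj 2 5 ∧ ¬ (degreeGraph S).Adj 3 5 := by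
  have h1 := even_facts (GaloisField 2 2) 4 (by rw [card_gf 2 2 (by norm_num)]; norm_num) le_rfl (ex60 h)
  refine ⟨fun p hp hd => ?_, ?_, ?_, ?_⟩
  · rw [h1.1]; exact ⟨hp, by norm_num; exact hd⟩
  · rw [h1.2]; norm_num
  · rw [h1.2]; norm_num
  · rw [h1.2]; norm_num

theorem facts168 {S : Type u} [Group S] [Finite S] [IsSimpleGroup S] (h : Nat.card S = 168) :
    (∀ p : ℕ, p.Prime → p ∣ 168 → p ∈ degreePrimes S) ∧ (degreeGraph S).Adj 2 3 := by
  have h1 := odd_facts (ZMod 7) 7 (by norm_num) 7 (ZMod.card 7) (by norm_num)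
    (Cfsg.Agent.S0495.result h (ZMod.card 7))
  refine ⟨fun p hp hd => ?_, ?_⟩
  · rw [h1.1]
    refine ⟨hp, ?_⟩
    have : p ∣ 168 * 2 := Dvd.dvd.mul_right hd 2
    norm_num at this ⊢; exact this
  · rw [h1.2]; norm_num

theorem facts360 {S : Type u} [Group S] [Finite S] [IsSimpleGroup S] (h : Nat.card S = 360) :
    (∀ p : ℕ, p.Prime → p ∣ 360 → p ∈ degreePrimes S) ∧ (degreeGraph S).Adj 2 5 ∧
      ¬ (degreeGraph S).Adj 2 3 ∧ ¬ (degreeGraph S).Adj 3 5 := by
  have h1 := odd_facts (GaloisField 3 2) 3 (by norm_num) 9 (by rw [card_gf 3 2 (by norm_num)]; norm_num)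
    (by norm_num) (ex360 h)
  refine ⟨fun p hp hd => ?_, ?_, ?_, ?_⟩
  · rw [h1.1]
    refine ⟨hp, ?_⟩
    have : p ∣ 360 * 2 := Dvd.dvd.mul_right hd 2
    norm_num at this ⊢; exact this
  · rw [h1.2]; norm_num
  · rw [h1.2]; norm_num
  · rw [h1.2]; norm_num

theorem facts504 {S : Type u} [Group S] [Finite S] [IsSimpleGroup S] (h : Nat.card S = 504) :
    (∀ p : ℕ, p.Prime → p ∣ 504 → p ∈ degreePrimes S) ∧ ¬ (degreeGraph S).Adj 2 3 := by
  have h1 := even_facts (GaloisField 2 3) 8 (by rw [card_gf 2 3 (by norm_num)]; norm_num) (by norm_num)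
    (Cfsg.Agent.S1011.result h (by rw [card_gf 2 3 (by norm_num)]; norm_num))
  refine ⟨fun p hp hd => ?_, ?_⟩
  · rw [h1.1]; exact ⟨hp, by norm_num; exact hd⟩
  · rw [h1.2]; norm_num

theorem facts660 {S : Type u} [Group S] [Finite S] [IsSimpleGroup S] (h : Nat.card S = 660) :
    11 ∈ degreePrimes S := by
  have h1 := odd_facts (ZMod 11) 11 (by norm_num) 11 (ZMod.card 11) (by norm_num)
    (Cfsg.Agent.S0498.result 11 (Or.inl rfl) (by rw [h]; norm_num) (ZMod.card 11))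
  rw [h1.1]
  exact ⟨by norm_num, by norm_num⟩

theorem facts1092 {S : Type u} [Group S] [Finite S] [IsSimpleGroup S] (h : Nat.card S = 1092) :
    13 ∈ degreePrimes S := by
  have h1 := odd_facts (ZMod 13) 13 (by norm_num) 13 (ZMod.card 13) (by norm_num)
    (Cfsg.Agent.S0498.result 13 (Or.inr rfl) (by rw [h]; norm_num) (ZMod.card 13))
  rw [h1.1]
  exact ⟨by norm_num, by norm_num⟩

theorem facts2448 {S : Type u} [Group S] [Finite S] [IsSimpleGroup S] (h : Nat.card S = 2448) :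
    17 ∈ degreePrimes S := by
  have h1 := odd_facts (ZMod 17) 17 (by norm_num) 17 (ZMod.card 17) (by norm_num)
    (Cfsg.Agent.S1020.result h (ZMod.card 17))
  rw [h1.1]
  exact ⟨by norm_num, by norm_num⟩

theorem facts3420 {S : Type u} [Group S] [Finite S] [IsSimpleGroup S] (h : Nat.card S = 3420) :
    19 ∈ degreePrimes S := by
  have h1 := odd_facts (ZMod 19) 19 (by norm_num) 19 (ZMod.card 19) (by norm_num)
    (Cfsg.Agent.S1021.result h (ZMod.card 19))
  rw [h1.1]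
  exact ⟨by norm_num, by norm_num⟩

theorem facts4080 {S : Type u} [Group S] [Finite S] [IsSimpleGroup S] (h : Nat.card S = 4080) :
    17 ∈ degreePrimes S := by
  have h1 := even_facts (GaloisField 2 4) 16 (by rw [card_gf 2 4 (by norm_num)]; norm_num) (by norm_num)
    (Cfsg.Agent.S0981.result h (by rw [card_gf 2 4 (by norm_num)]; norm_num))
  rw [h1.1]
  exact ⟨by norm_num, by norm_num⟩

/-- two simple groups of the same order < 5616 are isomorphic -/
theorem iso_of_card {G : Type u} {S : Type v} [Group G] [Finite G] [IsSimpleGroup G] [Group S]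
    [Finite S] [IsSimpleGroup S] (h : Nat.card G = Nat.card S) (hm : Nat.card S ∈ H60.SO.ords)
    (h5616 : Nat.card S ≠ 5616) : Nonempty (G ≃* S) := by
  simp only [H60.SO.ords, List.mem_cons, List.not_mem_nil, or_false] at hm
  rcases hm with hm | hm | hm | hm | hm | hm | hm | hm | hm | hm | hm
  · obtain ⟨e1⟩ := Cfsg.Agent.S0494.result hm
    obtain ⟨e2⟩ := Cfsg.Agent.S0494.result (h.trans hm)
    exact ⟨e2.trans e1.symm⟩
  · obtain ⟨e1⟩ := Cfsg.Agent.S0495.result hm (ZMod.card 7)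
    obtain ⟨e2⟩ := Cfsg.Agent.S0495.result (h.trans hm) (ZMod.card 7)
    exact ⟨e2.trans e1.symm⟩
  · obtain ⟨e1⟩ := Cfsg.Agent.S0497.result hm
    obtain ⟨e2⟩ := Cfsg.Agent.S0497.result (h.trans hm)
    exact ⟨e2.trans e1.symm⟩
  · have hF : Fintype.card (GaloisField 2 3) = 8 := by rw [card_gf 2 3 (by norm_num)]; norm_num
    obtain ⟨e1⟩ := Cfsg.Agent.S1011.result hm hF
    obtain ⟨e2⟩ := Cfsg.Agent.S1011.result (h.trans hm) hF
    exact ⟨e2.trans e1.symm⟩
  · obtain ⟨e1⟩ := Cfsg.Agent.S0498.result 11 (Or.inl rfl) (by rw [hm]; norm_num) (ZMod.card 11)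
    obtain ⟨e2⟩ := Cfsg.Agent.S0498.result 11 (Or.inl rfl) (by rw [h, hm]; norm_num) (ZMod.card 11)
    exact ⟨e2.trans e1.symm⟩
  · obtain ⟨e1⟩ := Cfsg.Agent.S0498.result 13 (Or.inr rfl) (by rw [hm]; norm_num) (ZMod.card 13)
    obtain ⟨e2⟩ := Cfsg.Agent.S0498.result 13 (Or.inr rfl) (by rw [h, hm]; norm_num) (ZMod.card 13)
    exact ⟨e2.trans e1.symm⟩
  · obtain ⟨e1⟩ := Cfsg.Agent.S1020.result hm (ZMod.card 17)
    obtain ⟨e2⟩ := Cfsg.Agent.S1020.result (h.trans hm) (ZMod.card 17)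
    exact ⟨e2.trans e1.symm⟩
  · obtain ⟨e1⟩ := Cfsg.Agent.S0984.result hm
    obtain ⟨e2⟩ := Cfsg.Agent.S0984.result (h.trans hm)
    exact ⟨e2.trans e1.symm⟩
  · obtain ⟨e1⟩ := Cfsg.Agent.S1021.result hm (ZMod.card 19)
    obtain ⟨e2⟩ := Cfsg.Agent.S1021.result (h.trans hm) (ZMod.card 19)
    exact ⟨e2.trans e1.symm⟩
  · have hF : Fintype.card (GaloisField 2 4) = 16 := by rw [card_gf 2 4 (by norm_num)]; norm_num
    obtain ⟨e1⟩ := Cfsg.Agent.S0981.result hm hF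
    obtain ⟨e2⟩ := Cfsg.Agent.S0981.result (h.trans hm) hF
    exact ⟨e2.trans e1.symm⟩
  · exact absurd hm h5616

end H60.SG
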