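import Cfsg.Agent.Lib.H60.SG4

/-!
Simplicity of `G` in the case of order `2520`; common tools.
-/

set_option autoImplicit false
set_option linter.unusedSectionVars false

open Subgroup Cfsg

namespace H60.SG

universe u

variable {G : Type u} [Group G] [Finite G] {r : ℕ} [hr : Fact r.Prime] {x : G}

/-- an element of order `r` acting nontrivially on a normal `r'`-subgroup, with the Sylow subgroup -/
theorem exists_sylow_of_normal (hx : orderOf x = r) (K : Subgroup G) [hK : K.Normal]
    (hKr : ¬ r ∣ Nat.card K) (hn : ¬ K ≤ centralizer ({x} : Set G)) :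
    ∃ (p i : ℕ) (P : Sylow p K), p.Prime ∧ 1 ≤ i ∧ p ^ i % r = 1 ∧
      x ∈ normalizer (((P : Subgroup K).map K.subtype : Subgroup G) : Set G) ∧
      Nat.card ((P : Subgroup K).map K.subtype) = p ^ i *
        Nat.card ((P : Subgroup K).map K.subtype ⊓ centralizer ({x} : Set G) : Subgroup G) := by
  by_contra hcon
  push Not at hcon
  apply hn
  have key : ∀ p k, p.Prime → p ^ k ∣ Nat.card K →
      p ^ k ∣ Nat.card (K ⊓ centralizer ({x} : Set G) : Subgroup G) := by
    intro p k hp hk
    have fp : Fact p.Prime := ⟨hp⟩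
    rcases Nat.eq_zero_or_pos k with h0 | h0
    · rw [h0, pow_zero]; exact one_dvd _
    have hpK : p ∣ Nat.card K := (dvd_pow_self p h0.ne').trans hk
    have hpr : p ≠ r := by rintro rfl; exact hKr hpK
    let _ : MulDistribMulAction (zpowers x) K := MulDistribMulAction.compHom K
      ((MulAut.conjNormal (H := K)).comp (zpowers x).subtype)
    have hsmul : ∀ (g : zpowers x) (v : K), ((g • v : K) : G) = (g : G) * v * (g : G)⁻¹ :=
      fun _ _ => rfl
    have hpg : IsPGroup r (zpowers x) :=
      IsPGroup.of_card (n := 1) (by rw [Nat.card_zpowers, hx, pow_one])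
    have hnd : ¬ r ∣ Nat.card (Sylow p K) := fun h => hKr (h.trans (H21.SylowTools.card_sylow_dvd p))
    obtain ⟨P, hP⟩ := hpg.nonempty_fixed_point_of_prime_not_dvd_card (Sylow p K) hnd
    have hPn : x ∈ normalizer (((P : Subgroup K).map K.subtype : Subgroup G) : Set G) := by
      have hfix : ∀ g : zpowers x, ∀ v ∈ (P : Subgroup K), g • v ∈ (P : Subgroup K) := by
        intro g v hv
        have h1 : g • P = P := hP g
        have h2 : g • v ∈ ((g • P : Sylow p K) : Subgroup K) := by
          rw [Sylow.pointwise_smul_def]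
          exact Subgroup.smul_mem_pointwise_smul _ _ _ hv
        rwa [h1] at h2
      rw [mem_normalizer_iff]
      intro y
      constructor
      · rintro ⟨v, hv, rfl⟩
        exact ⟨(⟨x, mem_zpowers x⟩ : zpowers x) • v, hfix _ v hv, hsmul _ _⟩
      · rintro ⟨v, hv, hvy⟩
        refine ⟨(⟨x, mem_zpowers x⟩ : zpowers x)⁻¹ • v, hfix _ v hv, ?_⟩
        have h3 := hsmul ((⟨x, mem_zpowers x⟩ : zpowers x)⁻¹) v
        rw [Subgroup.subtype_apply]
        rw [h3]
        have hvy' : (v : G) = x * y * x⁻¹ := hvy
        rw [hvy']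
        simp only [InvMemClass.coe_inv, inv_inv]
        group
    have hPp : IsPGroup p ((P : Subgroup K).map K.subtype) := P.2.map _
    have hle : (P : Subgroup K).map K.subtype ≤ centralizer ({x} : Set G) := by
      by_contra hcon2
      obtain ⟨i, hi, hi2, hi3⟩ := exists_pow_of_not_le hx hp hpr _ hPp hPn hcon2
      exact hcon p i P hp hi hi2 hPn hi3
    have h5 : Nat.card ((P : Subgroup K).map K.subtype) = Nat.card P :=
      Nat.card_congr ((P : Subgroup K).equivMapOfInjective _ K.subtype_injective).symm.toEquiv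
    have h6 : p ^ k ∣ Nat.card P := by
      rw [P.card_eq_multiplicity]
      exact pow_dvd_pow p ((hp.pow_dvd_iff_le_factorization Nat.card_pos.ne').1 hk)
    rw [← h5] at h6
    exact h6.trans (card_dvd_of_le (le_inf (map_subtype_le _) hle))
  have h7 : Nat.card K ∣ Nat.card (K ⊓ centralizer ({x} : Set G) : Subgroup G) := by
    rw [Nat.dvd_iff_prime_pow_dvd_dvd]
    exact key
  have h8 : K ⊓ centralizer ({x} : Set G) = K :=
    eq_of_le_of_card_ge inf_le_left (Nat.le_of_dvd Nat.card_pos h7)
  rw [← h8]
  exact inf_le_right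

/-- the core is normal and commutative -/
theorem Str.core (h : Str r x) :
    ((pPrimeCore r ↥(normalClosure ({x} : Set G))).map (normalClosure ({x} : Set G)).subtype).Normal ∧
    (∀ a ∈ (pPrimeCore r ↥(normalClosure ({x} : Set G))).map (normalClosure ({x} : Set G)).subtype,
      ∀ b ∈ (pPrimeCore r ↥(normalClosure ({x} : Set G))).map (normalClosure ({x} : Set G)).subtype,
        a * b = b * a) ∧
    Nat.card ((pPrimeCore r ↥(normalClosure ({x} : Set G))).map (normalClosure ({x} : Set G)).subtype) =
      Nat.card (pPrimeCore r ↥(normalClosure ({x} : Set G))) := by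
  have hchar := H1.Cores.pPrimeCore_characteristic (G := ↥(normalClosure ({x} : Set G))) r
  refine ⟨ConjAct.normal_of_characteristic_of_normal, ?_, ?_⟩
  · rintro _ ⟨a, ha, rfl⟩ _ ⟨b, hb, rfl⟩
    exact congrArg Subtype.val (mem_center_iff.1 (h.cent hb) a)
  · exact Nat.card_congr ((pPrimeCore r ↥(normalClosure ({x} : Set G))).equivMapOfInjective _
      (subtype_injective _)).symm.toEquiv

theorem Str.card_M (r : ℕ) (x : G) : Nat.card ↥(normalClosure ({x} : Set G)) =
    Nat.card (↥(normalClosure ({x} : Set G)) ⧸ pPrimeCore r ↥(normalClosure ({x} : Set G))) *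
      Nat.card (pPrimeCore r ↥(normalClosure ({x} : Set G))) :=
  card_eq_card_quotient_mul_card_subgroup (pPrimeCore r ↥(normalClosure ({x} : Set G)))

/-- the centralizer of the normal closure -/
theorem Str.card_cent (h : Str r x) (hx : orderOf x = r) (hrr : ¬ r * r ∣ Nat.card G) :
    Nat.card (centralizer ((normalClosure ({x} : Set G) : Subgroup G) : Set G)) ∣
      Nat.card (pPrimeCore r ↥(normalClosure ({x} : Set G))) * (normalClosure ({x} : Set G)).index := by
  obtain ⟨M, hM⟩ : ∃ M : Subgroup G, M = normalClosure ({x} : Set G) := ⟨_, rfl⟩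
  have hZn : (center ↥(normalClosure ({x} : Set G))).Normal := inferInstance
  have hZd : ¬ r ∣ Nat.card (center ↥(normalClosure ({x} : Set G))) := by
    intro hd
    have h1 := eq_top_of_dvd hx hrr _ hd
    apply h.ncomm
    constructor
    constructor
    intro a b
    obtain ⟨a, rfl⟩ := QuotientGroup.mk'_surjective _ a
    obtain ⟨b, rfl⟩ := QuotientGroup.mk'_surjective _ b
    have hb : b ∈ center ↥(normalClosure ({x} : Set G)) := by rw [h1]; trivial
    rw [← map_mul, ← map_mul, mem_center_iff.1 hb a]
  have hZle : center ↥(normalClosure ({x} : Set G)) ≤ pPrimeCore r ↥(normalClosure ({x} : Set G)) :=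
    H1.Cores.le_pPrimeCore (p := r) hZn ((Nat.Prime.coprime_iff_not_dvd hr.out).2 hZd).symm
  have h2 : Nat.card (normalClosure ({x} : Set G) ⊓
      centralizer ((normalClosure ({x} : Set G) : Subgroup G) : Set G) : Subgroup G) ∣
      Nat.card (pPrimeCore r ↥(normalClosure ({x} : Set G))) := by
    rw [← h.core.2.2]
    apply card_dvd_of_le
    rintro y ⟨hy1, hy2⟩
    refine ⟨⟨y, hy1⟩, hZle ?_, rfl⟩
    rw [mem_center_iff]
    intro g
    apply Subtype.ext
    exact mem_centralizer_iff.1 hy2 g g.2
  have h3 : (normalClosure ({x} : Set G)).relIndex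
      (centralizer ((normalClosure ({x} : Set G) : Subgroup G) : Set G)) ∣
      (normalClosure ({x} : Set G)).index := relIndex_dvd_index_of_normal _ _
  have h4 : Nat.card (normalClosure ({x} : Set G) ⊓
      centralizer ((normalClosure ({x} : Set G) : Subgroup G) : Set G) : Subgroup G) *
      (normalClosure ({x} : Set G)).relIndex
      (centralizer ((normalClosure ({x} : Set G) : Subgroup G) : Set G)) =
      Nat.card (centralizer ((normalClosure ({x} : Set G) : Subgroup G) : Set G)) := by
    rw [← inf_relIndex_right]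
    have h5 := card_mul_index ((normalClosure ({x} : Set G) ⊓
      centralizer ((normalClosure ({x} : Set G) : Subgroup G) : Set G)).subgroupOf
        (centralizer ((normalClosure ({x} : Set G) : Subgroup G) : Set G)))
    rw [Nat.card_congr (subgroupOfEquivOfLe inf_le_right).toEquiv] at h5
    exact h5
  rw [← h4]
  exact Nat.mul_dvd_mul h2 h3

end H60.SG
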