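import Cfsg.Agent.Lib.H60.SG5

/-!
Groups of order 2520 whose structure `Str 5 x` has a section of order 60 or 360.
-/

set_option autoImplicit false
set_option linter.unusedSectionVars false

open Subgroup Cfsg

namespace H60.SG

universe u

variable {G : Type u} [Group G] [Finite G]

theorem chk360 : chk 360 7 [(2, 3), (3, 5), (2, 5)] = true := by decide +kernel

/-- a 2-element in a simple group of order 360 whose square is not 1 -/
theorem exists_four {H : Type u} [Group H] [Finite H] [IsSimpleGroup H] (h : Nat.card H = 360) :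
    ∃ a : H, a ^ 4 = 1 ∧ a * a ≠ 1 := by
  obtain ⟨e⟩ := Cfsg.Agent.S0497.result h
  have hb : ∃ b : Equiv.Perm (Fin 6), b ∈ alternatingGroup (Fin 6) ∧ b ^ 4 = 1 ∧ b * b ≠ 1 := by
    refine ⟨Equiv.swap 0 1 * Equiv.swap 1 2 * Equiv.swap 2 3 * Equiv.swap 4 5, ?_, ?_, ?_⟩
    · rw [Equiv.Perm.mem_alternatingGroup]; decide +kernel
    · decide +kernel
    · decide +kernel
  obtain ⟨b, hb1, hb2, hb3⟩ := hb
  refine ⟨e.symm ⟨b, hb1⟩, ?_, ?_⟩
  · rw [← map_pow]
    have : (⟨b, hb1⟩ : alternatingGroup (Fin 6)) ^ 4 = 1 := Subtype.ext hb2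
    rw [this, map_one]
  · intro h1
    rw [← map_mul] at h1
    have h2 : (⟨b, hb1⟩ : alternatingGroup (Fin 6)) * ⟨b, hb1⟩ = 1 :=
      e.symm.injective (by rw [h1, map_one])
    exact hb3 (congrArg Subtype.val h2)

/-- all elements of some Sylow 2-subgroup have square 1, so all 2-elements do -/
theorem sq_of_sylow {H : Type u} [Group H] [Finite H] (P : Sylow 2 H) (hP : ∀ v ∈ P, v * v = 1)
    {a : H} (ha : a ^ 4 = 1) : a * a = 1 := by
  have f2 : Fact (Nat.Prime 2) := ⟨Nat.prime_two⟩
  have hz : IsPGroup 2 (zpowers a) := by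
    rintro ⟨g, hg⟩
    refine ⟨2, Subtype.ext ?_⟩
    obtain ⟨k, rfl⟩ := mem_zpowers_iff.1 hg
    show (a ^ k) ^ (2 ^ 2) = 1
    rw [← zpow_natCast, ← zpow_mul, mul_comm, zpow_mul]
    have : a ^ ((2 ^ 2 : ℕ) : ℤ) = 1 := by rw [zpow_natCast]; exact ha
    rw [this, one_zpow]
  obtain ⟨Q, hQ⟩ := hz.exists_le_sylow
  obtain ⟨g, rfl⟩ := MulAction.exists_smul_eq H P Q
  have h1 : a ∈ (g • P : Sylow 2 H) := hQ (mem_zpowers a)
  have h2 : g⁻¹ * a * g ∈ P := by
    have h3 : a ∈ ((g • P : Sylow 2 H) : Subgroup H) := h1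
    rw [Sylow.smul_def, Sylow.pointwise_smul_def, Subgroup.mem_pointwise_smul_iff_inv_smul_mem] at h3
    have h4 : g⁻¹ * a * g ∈ (P : Subgroup H) := by simpa [MulAut.smul_def, mul_assoc] using h3
    exact h4
  have h4 := hP _ h2
  have h5 : g⁻¹ * (a * a) * g = 1 := by
    rw [← h4]; group
  have h6 : a * a = g * (g⁻¹ * (a * a) * g) * g⁻¹ := by group
  rw [h6, h5]; group

/-- a fixed-point-free automorphism of order 7 on a group of order 8 -/
theorem sq_of_fpf {y : G} (hy : orderOf y = 7) (P : Subgroup G) (hPc : Nat.card P = 8)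
    (hP : y ∈ normalizer (P : Set G))
    (hf : Nat.card (P ⊓ centralizer ({y} : Set G) : Subgroup G) = 1) : ∀ v ∈ P, v * v = 1 := by
  have f2 : Fact (Nat.Prime 2) := ⟨Nat.prime_two⟩
  have hcomm := comm_of_fpf hy Nat.prime_two (by norm_num) P (by rw [hPc]; norm_num) hP hf
    (by norm_num) (by norm_num)
  let Z : Subgroup G :=
    { carrier := {v | v ∈ P ∧ v * v = 1}
      one_mem' := ⟨one_mem _, by simp⟩
      mul_mem' := by
        rintro a b ⟨ha, ha2⟩ ⟨hb, hb2⟩
        refine ⟨mul_mem ha hb, ?_⟩
        have := hcomm a ha b hb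
        calc a * b * (a * b) = a * (b * a) * b := by group
          _ = a * (a * b) * b := by rw [this]
          _ = (a * a) * (b * b) := by group
          _ = 1 := by rw [ha2, hb2, mul_one]
      inv_mem' := by
        rintro a ⟨ha, ha2⟩
        refine ⟨inv_mem ha, ?_⟩
        rw [← mul_inv_rev, ha2, inv_one] }
  have hZP : Z ≤ P := fun v hv => hv.1
  have hZn : y ∈ normalizer (Z : Set G) := by
    rw [mem_normalizer_iff]
    intro v
    have h1 := mem_normalizer_iff.1 hP v
    have h2 : y * v * y⁻¹ * (y * v * y⁻¹) = y * (v * v) * y⁻¹ := by group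
    constructor
    · rintro ⟨hv, hv2⟩
      refine ⟨h1.1 hv, ?_⟩
      rw [h2, hv2]; group
    · rintro ⟨hv, hv2⟩
      refine ⟨h1.2 hv, ?_⟩
      rw [h2] at hv2
      have h3 : v * v = y⁻¹ * (y * (v * v) * y⁻¹) * y := by group
      rw [h3, hv2]; group
  have hZp : IsPGroup 2 Z := (IsPGroup.of_card (n := 3) (by rw [hPc]; norm_num)).to_le hZP
  have hinf : Nat.card (Z ⊓ centralizer ({y} : Set G) : Subgroup G) = 1 := by
    apply Nat.eq_one_of_dvd_one
    rw [← hf]
    exact card_dvd_of_le (inf_le_inf_right _ hZP)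
  have hnle : ¬ Z ≤ centralizer ({y} : Set G) := by
    intro hle
    rw [inf_eq_left.2 hle] at hinf
    have h2P : 2 ∣ Nat.card P := by rw [hPc]; norm_num
    obtain ⟨w, hw⟩ := exists_prime_orderOf_dvd_card' 2 h2P
    have hwZ : (w : G) ∈ Z := by
      refine ⟨w.2, ?_⟩
      have h3 := pow_orderOf_eq_one w
      rw [hw, pow_two] at h3
      exact congrArg Subtype.val h3
    rw [Subgroup.card_eq_one] at hinf
    rw [hinf, mem_bot] at hwZ
    have h4 : w = 1 := Subtype.ext hwZ
    rw [h4, orderOf_one] at hw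
    omega
  obtain ⟨i, hi, hi2, hi3⟩ := exists_pow_of_not_le hy Nat.prime_two (by norm_num) Z hZp hZn hnle
  have f7 : Fact (Nat.Prime 7) := ⟨by norm_num⟩
  rw [hinf, mul_one] at hi3
  have hi4 : 3 ≤ i := by
    by_contra hcon
    push Not at hcon
    interval_cases i <;> norm_num at hi2
  have hle : 8 ≤ Nat.card Z := by
    rw [hi3]
    calc 8 = 2 ^ 3 := by norm_num
      _ ≤ 2 ^ i := Nat.pow_le_pow_right (by norm_num) hi4
  have hZeq : Z = P := eq_of_le_of_card_ge hZP (by rw [hPc]; exact hle)
  intro v hv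
  rw [← hZeq] at hv
  exact hv.2

theorem elim2520 (hG : Nat.card G = 2520) {x : G} (hx : orderOf x = 5) (h : Str 5 x)
    (h7 : 7 ∈ degreePrimes G)
    (ht : Nat.card (↥(normalClosure ({x} : Set G)) ⧸ pPrimeCore 5 ↥(normalClosure ({x} : Set G))) = 60 ∨
      Nat.card (↥(normalClosure ({x} : Set G)) ⧸ pPrimeCore 5 ↥(normalClosure ({x} : Set G))) = 360) :
    False := by
  have f2 : Fact (Nat.Prime 2) := ⟨Nat.prime_two⟩
  have h25 : ¬ 5 * 5 ∣ Nat.card G := by rw [hG]; norm_num
  have h49 : ¬ 7 * 7 ∣ Nat.card G := by rw [hG]; norm_num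
  have hM := Str.card_M 5 x
  have hMi := card_mul_index (normalClosure ({x} : Set G))
  rw [hG] at hMi
  obtain ⟨hKn, hKc, hKcard⟩ := h.core
  obtain ⟨t, htt⟩ : ∃ t, t = Nat.card (↥(normalClosure ({x} : Set G)) ⧸
    pPrimeCore 5 ↥(normalClosure ({x} : Set G))) := ⟨_, rfl⟩
  rw [← htt] at hM ht
  have hKi := card_mul_index ((pPrimeCore 5 ↥(normalClosure ({x} : Set G))).map
    (normalClosure ({x} : Set G)).subtype)
  rw [hG, hKcard] at hKi
  -- 7 does not divide |K|
  have h7K : ¬ 7 ∣ Nat.card (pPrimeCore 5 ↥(normalClosure ({x} : Set G))) := by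
    intro hd
    refine not_mem_degreePrimes _ hKc ?_ h7
    intro hd2
    have := Nat.mul_dvd_mul hd hd2
    rw [hKi] at this
    norm_num at this
  have h7M : ¬ 7 ∣ Nat.card ↥(normalClosure ({x} : Set G)) := by
    intro hd
    rw [hM] at hd
    rcases ((by norm_num : Nat.Prime 7).dvd_mul).1 hd with hd | hd
    · rcases ht with rfl | rfl <;> norm_num at hd
    · exact h7K hd
  have hM360 : Nat.card ↥(normalClosure ({x} : Set G)) ∣ 360 := by
    have h1 : Nat.card ↥(normalClosure ({x} : Set G)) ∣ 360 * 7 := Dvd.intro _ hMi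
    refine Nat.Coprime.dvd_of_dvd_mul_right ?_ h1
    exact ((Nat.Prime.coprime_iff_not_dvd (by norm_num : Nat.Prime 7)).2 h7M).symm
  obtain ⟨y, hy⟩ := exists_prime_orderOf_dvd_card' (G := G) 7 (by rw [hG]; norm_num)
  -- y centralizes M
  have hcent : normalClosure ({x} : Set G) ≤ centralizer ({y} : Set G) := by
    by_contra hcon
    obtain ⟨p, i, P, hp, hi, hi2, hPn, hPc⟩ := exists_sylow_of_normal hy _ h7M hcon
    have hPd : Nat.card ((P : Subgroup ↥(normalClosure ({x} : Set G))).map
        (normalClosure ({x} : Set G)).subtype) ∣ 360 :=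
      (card_dvd_of_le (map_subtype_le _)).trans hM360
    have h8 : p ^ i = 8 := by
      rcases hnum_of_chk [(2, 3), (3, 5), (2, 5)] (by norm_num) (by decide) chk360 hp hi
        ((Dvd.intro _ hPc.symm).trans hPd) hi2 with h8 | h8
      · exact h8.1
      · omega
    obtain ⟨rfl, rfl⟩ := eq_two_three hp h8
    have hone : Nat.card ((P : Subgroup ↥(normalClosure ({x} : Set G))).map
        (normalClosure ({x} : Set G)).subtype ⊓ centralizer ({y} : Set G) : Subgroup G) = 1 := by
      have hPp : IsPGroup 2 ((P : Subgroup ↥(normalClosure ({x} : Set G))).map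
        (normalClosure ({x} : Set G)).subtype ⊓ centralizer ({y} : Set G) : Subgroup G) :=
        (P.2.map (normalClosure ({x} : Set G)).subtype).to_le inf_le_left
      obtain ⟨b, hb⟩ := IsPGroup.iff_card.1 hPp
      rw [hb] at hPc ⊢
      rcases Nat.eq_zero_or_pos b with h0 | h0
      · rw [h0, pow_zero]
      · exfalso
        rw [hPc] at hPd
        have h16 : 16 ∣ 2 ^ 3 * 2 ^ b := by
          obtain ⟨c, rfl⟩ : ∃ c, b = c + 1 := ⟨b - 1, by omega⟩
          exact ⟨2 ^ c, by ring⟩
        have := h16.trans hPd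
        norm_num at this
    rw [hone, mul_one] at hPc
    have hPc8 : Nat.card ((P : Subgroup ↥(normalClosure ({x} : Set G))).map
        (normalClosure ({x} : Set G)).subtype) = 8 := by rw [hPc]; norm_num
    rcases ht with rfl | rfl
    · -- t = 60
      have h8M : 8 ∣ Nat.card ↥(normalClosure ({x} : Set G)) := by
        rw [← hPc8]; exact card_dvd_of_le (map_subtype_le _)
      have h2K : 2 ∣ Nat.card (pPrimeCore 5 ↥(normalClosure ({x} : Set G))) := by
        rw [hM] at h8M
        omega
      have hK6 : Nat.card (pPrimeCore 5 ↥(normalClosure ({x} : Set G))) ∣ 6 := by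
        rw [hM] at hM360
        exact Nat.dvd_of_mul_dvd_mul_left (by norm_num : 0 < 60) (by simpa using hM360)
      have hKy : (pPrimeCore 5 ↥(normalClosure ({x} : Set G))).map
          (normalClosure ({x} : Set G)).subtype ≤ centralizer ({y} : Set G) := by
        by_contra hcon2
        obtain ⟨q, j, hq, hj, hj2, hj3⟩ := exists_pow_of_normal hy _ (by rw [hKcard]; exact h7K) hcon2
        rw [hKcard] at hj3
        have hq6 := hj3.trans hK6
        have hle : q ^ j ≤ 6 := Nat.le_of_dvd (by norm_num) hq6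
        have hlt : 1 < q ^ j := Nat.one_lt_pow (by omega) hq.one_lt
        rw [Nat.mod_eq_of_lt (by omega)] at hj2
        omega
      have hbot : Nat.card ((pPrimeCore 5 ↥(normalClosure ({x} : Set G))).map
          (normalClosure ({x} : Set G)).subtype ⊓ ((P : Subgroup ↥(normalClosure ({x} : Set G))).map
        (normalClosure ({x} : Set G)).subtype) : Subgroup G) = 1 := by
        apply Nat.eq_one_of_dvd_one
        rw [← hone]
        apply card_dvd_of_le
        rintro z ⟨hz1, hz2⟩
        exact ⟨hz2, hKy hz1⟩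
      have h1 : ((pPrimeCore 5 ↥(normalClosure ({x} : Set G))).map
          (normalClosure ({x} : Set G)).subtype).relIndex
            ((P : Subgroup ↥(normalClosure ({x} : Set G))).map
              (normalClosure ({x} : Set G)).subtype) = 8 := by
        rw [← inf_relIndex_right]
        have h5 := card_mul_index (((pPrimeCore 5 ↥(normalClosure ({x} : Set G))).map
          (normalClosure ({x} : Set G)).subtype ⊓ (P : Subgroup ↥(normalClosure ({x} : Set G))).map
              (normalClosure ({x} : Set G)).subtype).subgroupOf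
                ((P : Subgroup ↥(normalClosure ({x} : Set G))).map
              (normalClosure ({x} : Set G)).subtype))
        rw [Nat.card_congr (subgroupOfEquivOfLe inf_le_right).toEquiv, hbot, one_mul, hPc8] at h5
        exact h5
      have h2 : 8 ∣ ((pPrimeCore 5 ↥(normalClosure ({x} : Set G))).map
          (normalClosure ({x} : Set G)).subtype).index := by
        rw [← h1]; exact relIndex_dvd_index_of_normal _ _
      have h3 := Nat.mul_dvd_mul h2K h2
      rw [hKi] at h3
      norm_num at h3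
    · -- t = 360
      have hK1 : Nat.card (pPrimeCore 5 ↥(normalClosure ({x} : Set G))) = 1 := by
        rw [hM] at hM360
        have := Nat.dvd_of_mul_dvd_mul_left (by norm_num : 0 < 360)
          (show 360 * _ ∣ 360 * 1 by simpa using hM360)
        exact Nat.dvd_one.1 this
      have hsq := sq_of_fpf hy _ hPc8 hPn hone
      have hKb : pPrimeCore 5 ↥(normalClosure ({x} : Set G)) = ⊥ := Subgroup.card_eq_one.1 hK1
      have hs := h.simple
      obtain ⟨a, ha4, ha2⟩ := exists_four htt.symm
      obtain ⟨b, rfl⟩ := QuotientGroup.mk'_surjective _ a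
      have hb4 : b ^ 4 = 1 := by
        have h1 : b ^ 4 ∈ pPrimeCore 5 ↥(normalClosure ({x} : Set G)) := by
          rw [← QuotientGroup.eq_one_iff]
          exact ha4
        rw [hKb, mem_bot] at h1
        exact h1
      have hb2 : b * b = 1 := by
        refine sq_of_sylow P ?_ hb4
        intro v hv
        exact Subtype.ext (hsq v ⟨v, hv, rfl⟩)
      apply ha2
      rw [← map_mul, hb2, map_one]
  -- the centralizer
  have hyC : y ∈ centralizer ((normalClosure ({x} : Set G) : Subgroup G) : Set G) := by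
    rw [mem_centralizer_iff]
    intro g hg
    exact mem_centralizer_singleton_iff.1 (hcent hg)
  have hCn : (centralizer ((normalClosure ({x} : Set G) : Subgroup G) : Set G)).Normal := inferInstance
  have hCd := h.card_cent hx h25
  have hC42 : Nat.card (centralizer ((normalClosure ({x} : Set G) : Subgroup G) : Set G)) ∣ 42 := by
    have h1 : t * (Nat.card (pPrimeCore 5 ↥(normalClosure ({x} : Set G))) *
        (normalClosure ({x} : Set G)).index) = 2520 := by
      rw [← mul_assoc, ← hM]; exact hMi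
    refine hCd.trans ?_
    rcases ht with rfl | rfl
    · exact ⟨1, by omega⟩
    · exact ⟨6, by omega⟩
  have h7C : 7 ∣ Nat.card (centralizer ((normalClosure ({x} : Set G) : Subgroup G) : Set G)) := by
    rw [← hy, ← Subgroup.orderOf_mk y hyC]
    exact orderOf_dvd_natCard _
  have hn1 : Nat.card (Sylow 7 (centralizer ((normalClosure ({x} : Set G) : Subgroup G) : Set G))) = 1 := by
    have h1 := card_sylow_modEq_one 7 (centralizer ((normalClosure ({x} : Set G) : Subgroup G) : Set G))
    have h2 := (H21.SylowTools.card_sylow_dvd (G := (centralizer ((normalClosure ({x} : Set G) :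
      Subgroup G) : Set G))) 7).trans hC42
    have h3 := Nat.le_of_dvd (by norm_num) h2
    rw [Nat.ModEq] at h1
    obtain ⟨n, hn⟩ : ∃ n, n = Nat.card (Sylow 7 (centralizer ((normalClosure ({x} : Set G) :
      Subgroup G) : Set G))) := ⟨_, rfl⟩
    rw [← hn] at h1 h2 h3 ⊢
    interval_cases n <;> first | rfl | (exfalso; revert h1 h2; decide)
  obtain ⟨Q⟩ : Nonempty (Sylow 7 G) := inferInstance
  have hQC : (Q : Subgroup G) ≤ centralizer ((normalClosure ({x} : Set G) : Subgroup G) : Set G) := by
    apply H21.HallTools.sylow_le_of_not_dvd_index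
    intro hd
    apply h49
    have h1 := Nat.mul_dvd_mul h7C hd
    rwa [card_mul_index] at h1
  have hQn := H21.HallTools.sylow_normal_of_normal_le Q _ hQC hn1
  apply sylow_ne_one h49 h7
  have := Sylow.unique_of_normal Q hQn
  exact Nat.card_unique

end H60.SG
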