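import Cfsg.Agent.Lib.H60.SG5
import Cfsg.Agent.Lib.H77.DegP4

/-!
Perfectness of `M`, Clifford's bound, the small cases of order 360.
-/

set_option autoImplicit false
set_option linter.unusedSectionVars false
set_option linter.style.haveILetI false

open Subgroup Cfsg
open scoped commutatorElement

namespace H60.SG

universe u

section general

variable {G : Type u} [Group G] [Finite G] {r : ℕ} [hr : Fact r.Prime] {x : G}

theorem Str.perfect (h : Str r x) (hx : orderOf x = r) (hrr : ¬ r * r ∣ Nat.card G) :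
    commutator ↥(normalClosure ({x} : Set G)) = ⊤ := by
  apply eq_top_of_dvd hx hrr
  by_contra hd
  have hle : commutator ↥(normalClosure ({x} : Set G)) ≤ pPrimeCore r ↥(normalClosure ({x} : Set G)) :=
    H1.Cores.le_pPrimeCore (p := r) inferInstance ((Nat.Prime.coprime_iff_not_dvd hr.out).2 hd).symm
  apply h.ncomm
  constructor
  constructor
  intro a b
  obtain ⟨a, rfl⟩ := QuotientGroup.mk'_surjective _ a
  obtain ⟨b, rfl⟩ := QuotientGroup.mk'_surjective _ b
  have h1 : ⁅a, b⁆ ∈ pPrimeCore r ↥(normalClosure ({x} : Set G)) :=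
    hle (commutator_mem_commutator (mem_top a) (mem_top b))
  have h2 : QuotientGroup.mk' (pPrimeCore r ↥(normalClosure ({x} : Set G))) ⁅a, b⁆ = 1 :=
    (QuotientGroup.eq_one_iff _).2 h1
  rw [map_commutatorElement, commutatorElement_eq_one_iff_mul_comm] at h2
  exact h2

end general

open scoped IsMulCommutative in
/-- transfer: in a perfect group with Sylow 3-subgroups of order 9 the centre is a 3'-group -/
theorem no_central_three {M : Type u} [Group M] [Finite M] (hp : commutator M = ⊤)
    (h9 : 9 ∣ Nat.card M) (h27 : ¬ 27 ∣ Nat.card M) {z : M} (hz : z ∈ center M) (hz3 : z ^ 3 = 1) :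
    z = 1 := by
  have f3 : Fact (Nat.Prime 3) := ⟨Nat.prime_three⟩
  obtain ⟨P⟩ : Nonempty (Sylow 3 M) := inferInstance
  have hP : Nat.card P = 3 ^ 2 := by
    rw [P.card_eq_multiplicity]
    congr 1
    have h1 : 2 ≤ (Nat.card M).factorization 3 :=
      (Nat.prime_three.pow_dvd_iff_le_factorization Nat.card_pos.ne').1 (by norm_num; exact h9)
    have h2 : ¬ 3 ≤ (Nat.card M).factorization 3 := by
      intro h3
      apply h27
      have := (Nat.prime_three.pow_dvd_iff_le_factorization Nat.card_pos.ne').2 h3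
      norm_num at this
      exact this
    omega
  have hc : IsMulCommutative (P : Subgroup M) := IsPGroup.isMulCommutative_of_card_eq_prime_sq hP
  have hker := Abelianization.commutator_subset_ker
    (MonoidHom.transfer (H := (P : Subgroup M)) (A := (P : Subgroup M)) (MonoidHom.id _))
  rw [hp] at hker
  have hz1 : MonoidHom.transfer (H := (P : Subgroup M)) (A := (P : Subgroup M)) (MonoidHom.id _) z = 1 :=
    hker (mem_top z)
  rw [MonoidHom.transfer_eq_pow (H := (P : Subgroup M)) (A := (P : Subgroup M)) (MonoidHom.id _) z (fun k g₀ _ => by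
    have h1 := mem_center_iff.1 (pow_mem hz k) g₀
    rw [mul_assoc, ← h1, ← mul_assoc, inv_mul_cancel, one_mul])] at hz1
  have h2 : z ^ (P : Subgroup M).index = 1 := congrArg Subtype.val hz1
  have h3 : Nat.Coprime 3 (P : Subgroup M).index :=
    (Nat.Prime.coprime_iff_not_dvd Nat.prime_three).2 P.not_dvd_index
  have h4 : orderOf z ∣ Nat.gcd 3 (P : Subgroup M).index :=
    Nat.dvd_gcd (orderOf_dvd_of_pow_eq_one hz3) (orderOf_dvd_of_pow_eq_one h2)
  rw [h3.gcd_eq_one] at h4
  exact orderOf_eq_one_iff.1 (Nat.dvd_one.1 h4)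

open H18.CharBasic H18.CharOrtho H18.CharInd H18.CharQuot H31.Clifford in
/-- Clifford's bound -/
theorem clifford_bound {G : Type u} [Group G] [Finite G] (N : Subgroup G) [hN : N.Normal]
    (χ : IrrCharacter G) (θ : IrrCharacter N) (h : H82.Cliff.LiesOver N (χ : G → ℂ) (θ : N → ℂ)) :
    ∃ e : ℕ, e ≠ 0 ∧ charDegree (χ : G → ℂ) =
      e * (inertia N (θ : N → ℂ)).index * charDegree (θ : N → ℂ) ∧
      e ^ 2 * (inertia N (θ : N → ℂ)).index ≤ N.index := by
  classical
  letI := Fintype.ofFinite G
  letI := Fintype.ofFinite N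
  rw [H82.Cliff.liesOver_iff] at h
  have h1 := degree_eq N χ.2 θ.2 h
  obtain ⟨m, hm⟩ := inner_char_natCast (isCharacter_restrict N (isCharacter_of_isIrr χ.2))
    (isCharacter_of_isIrr θ.2)
  have hr := restrict_eq N χ.2 θ.2 h
  rw [hm, ← H82.Deg.coe_charDegree' χ, ← H82.Deg.coe_charDegree' θ] at h1
  have hc := isClassFunction_of_isIrr χ.2
  have hinner : classInner (fun n : N => (χ : G → ℂ) n) (fun n : N => (χ : G → ℂ) n) =
      ((m ^ 2 * (inertia N (θ : N → ℂ)).index : ℕ) : ℂ) := by
    have e1 : classInner (fun n : N => (χ : G → ℂ) n) (fun n : N => (χ : G → ℂ) n) =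
        classInner (fun n : N => (χ : G → ℂ) n)
          (classInner (fun n : N => (χ : G → ℂ) n) (θ : N → ℂ) • ∑ φ ∈ orb N (θ : N → ℂ), φ) := by
      rw [← hr]
    rw [e1, H18.CharOrtho.inner_smul_right, inner_sum_right, hm]
    rw [Finset.sum_congr rfl (g := fun _ => (m : ℂ))]
    · rw [Finset.sum_const, card_orb, nsmul_eq_mul, Complex.conj_natCast]
      push_cast
      ring
    · intro φ hφ
      obtain ⟨g, rfl⟩ := (mem_orb N).1 hφ
      rw [inner_restrict_cj N g hc, hm]
  have hb := H19.FullRam.norm_restrict N χ.2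
  rw [hinner] at hb
  refine ⟨m, ?_, ?_, ?_⟩
  · rintro rfl
    apply h
    rw [hm]; simp
  · exact_mod_cast h1
  · have h2 : (0 : ℝ) ≤ ∑ g ∈ Finset.univ.filter (fun g : G => g ∉ N), ‖(χ : G → ℂ) g‖ ^ 2 :=
      Finset.sum_nonneg (fun _ _ => sq_nonneg _)
    rw [Complex.natCast_re] at hb
    have h3 : (Nat.card N : ℝ) * ((m ^ 2 * (inertia N (θ : N → ℂ)).index : ℕ) : ℝ) ≤
        (Nat.card N : ℝ) * (N.index : ℝ) := by
      have h4 : (Nat.card N : ℝ) * (N.index : ℝ) = Nat.card G := by
        exact_mod_cast N.card_mul_index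
      rw [h4]
      linarith
    have h5 : (0 : ℝ) < Nat.card N := by exact_mod_cast Nat.card_pos
    have h6 := le_of_mul_le_mul_left h3 h5
    exact_mod_cast h6

/-- a degree divisible by 10 in a group of order 360 is 10 -/
theorem deg_ten {G : Type u} [Group G] [Finite G] (hG : Nat.card G = 360) (χ : IrrCharacter G)
    (h : 10 ∣ charDegree (χ : G → ℂ)) : charDegree (χ : G → ℂ) = 10 := by
  have hne : (χ : G → ℂ) ≠ fun _ => 1 := by
    intro h1
    have h2 : charDegree (χ : G → ℂ) = 1 := H82.Deg.charDegree_eq_of (by rw [h1]; simp)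
    rw [h2] at h
    omega
  have h2 := H82.Deg.ne_one_degree_sq_lt χ hne
  rw [hG] at h2
  obtain ⟨k, hk⟩ := h
  have hpos := H82.Deg.charDegree_pos χ
  rw [hk] at h2 hpos ⊢
  have h3 : k < 2 := by
    by_contra hcon
    push Not at hcon
    nlinarith
  interval_cases k
  · omega
  · rfl

theorem elim360 {G : Type u} [Group G] [Finite G] (hG : Nat.card G = 360) {x : G} (hx : orderOf x = 5)
    (h : Str 5 x) (χ : IrrCharacter G) (hχ : charDegree (χ : G → ℂ) = 10)
    (ht : Nat.card (↥(normalClosure ({x} : Set G)) ⧸ pPrimeCore 5 ↥(normalClosure ({x} : Set G))) = 60) :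
    Nat.card (pPrimeCore 5 ↥(normalClosure ({x} : Set G))) = 1 := by
  letI := Fintype.ofFinite G
  have h25 : ¬ 5 * 5 ∣ Nat.card G := by rw [hG]; norm_num
  have hM := Str.card_M 5 x
  have hMi := card_mul_index (normalClosure ({x} : Set G))
  rw [hG] at hMi
  rw [ht] at hM
  obtain ⟨k, hk⟩ : ∃ k, k = Nat.card (pPrimeCore 5 ↥(normalClosure ({x} : Set G))) := ⟨_, rfl⟩
  rw [← hk] at hM ⊢
  have h6 : k * (normalClosure ({x} : Set G)).index = 6 := by
    rw [hM] at hMi
    have : 60 * (k * (normalClosure ({x} : Set G)).index) = 60 * 6 := by rw [← mul_assoc, hMi]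
    exact Nat.eq_of_mul_eq_mul_left (by norm_num) this
  have hk6 : k ∣ 6 := Dvd.intro _ h6
  have hperf := h.perfect hx h25
  -- 3 does not divide k
  have h3 : ¬ 3 ∣ k := by
    intro h3
    have f3 : Fact (Nat.Prime 3) := ⟨Nat.prime_three⟩
    rw [hk] at h3
    obtain ⟨z, hz⟩ := exists_prime_orderOf_dvd_card' 3 h3
    have hz1 : (z : ↥(normalClosure ({x} : Set G))) = 1 := by
      apply no_central_three hperf _ _ (h.cent z.2)
      · have := pow_orderOf_eq_one z
        rw [hz] at this
        exact congrArg Subtype.val this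
      · rw [hM]; rw [← hk] at h3; obtain ⟨c, hc⟩ := h3; exact ⟨20 * c, by rw [hc]; ring⟩
      · intro h27
        rw [hM] at h27
        have := h27.trans (Nat.mul_dvd_mul_left 60 hk6)
        norm_num at this
    have hz2 : z = 1 := Subtype.ext hz1
    rw [hz2, orderOf_one] at hz
    omega
  have hk2 : k = 1 ∨ k = 2 := by
    have hle := Nat.le_of_dvd (by norm_num) hk6
    interval_cases k
    · simp at hk6
    · left; rfl
    · right; rfl
    · simp at h3
    · norm_num at hk6
    · norm_num at hk6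
    · exfalso; exact h3 (by norm_num)
  rcases hk2 with rfl | rfl
  · rfl
  exfalso
  have hidx : (normalClosure ({x} : Set G)).index = 3 := by omega
  obtain ⟨ψ, hψ⟩ := H82.Cliff.exists_below (normalClosure ({x} : Set G)) χ
  obtain ⟨e, he0, he1, he2⟩ := clifford_bound _ χ ψ hψ
  rw [hidx] at he2
  have hs : (H31.Clifford.inertia (normalClosure ({x} : Set G)) (ψ : ↥(normalClosure ({x} : Set G)) → ℂ)).index ∣ 3 := by
    rw [← hidx]
    apply index_dvd_of_le
    exact H31.Clifford.le_inertia _ (H18.CharBasic.isClassFunction_of_isIrr ψ.2)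
  obtain ⟨s, hs1⟩ : ∃ s, s = (H31.Clifford.inertia (normalClosure ({x} : Set G)) (ψ : ↥(normalClosure ({x} : Set G)) → ℂ)).index :=
    ⟨_, rfl⟩
  rw [← hs1] at he1 he2 hs
  rw [hχ] at he1
  have hs2 : s = 1 := by
    rcases (Nat.dvd_prime Nat.prime_three).1 hs with h1 | h1
    · exact h1
    · exfalso
      rw [h1] at he1
      have : 3 ∣ 10 := ⟨e * charDegree (ψ : ↥(normalClosure ({x} : Set G)) → ℂ), by rw [he1]; ring⟩
      omega
  rw [hs2, mul_one] at he1 he2
  have he3 : e = 1 := by
    have : e < 2 := by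
      by_contra hcon
      push Not at hcon
      nlinarith
    omega
  rw [he3, one_mul] at he1
  have hb := H77.DegP.sq_le_index_center ψ
  have hb2 : (center ↥(normalClosure ({x} : Set G))).index ≤ 60 := by
    have h1 : (center ↥(normalClosure ({x} : Set G))).index ∣
        (pPrimeCore 5 ↥(normalClosure ({x} : Set G))).index := index_dvd_of_le h.cent
    have h2 : (pPrimeCore 5 ↥(normalClosure ({x} : Set G))).index = 60 := by
      rw [index_eq_card]; exact ht
    rw [h2] at h1
    exact Nat.le_of_dvd (by norm_num) h1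
  have hb3 : charDegree (ψ : ↥(normalClosure ({x} : Set G)) → ℂ) ^ 2 ≤ 60 := hb.trans hb2
  rw [← he1] at hb3
  norm_num at hb3

end H60.SG
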