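import Cfsg.Agent.Lib.H60.SG7
import Cfsg.Agent.S0856
import Cfsg.Agent.S0866

/-!
A group of order 360 with a normal subgroup `A₅` and a character of degree 10.
-/

set_option autoImplicit false
set_option linter.unusedSectionVars false
set_option linter.style.haveILetI false

open Subgroup Cfsg

namespace H60.SG

universe u

/-- a simple group of order 60 is perfect -/
theorem perfect60 {M : Type u} [Group M] [Finite M] [hs : IsSimpleGroup M] (hM : Nat.card M = 60) :
    commutator M = ⊤ := by
  rcases hs.eq_bot_or_eq_top_of_normal (commutator M) inferInstance with h | h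
  · exfalso
    have hc : ∀ a b : M, a * b = b * a := by
      intro a b
      have h1 : a * b * a⁻¹ * b⁻¹ ∈ commutator M :=
        commutator_mem_commutator (mem_top a) (mem_top b)
      rw [h, mem_bot] at h1
      have h2 := mul_inv_eq_one.1 h1
      exact mul_inv_eq_iff_eq_mul.1 h2
    let _ : CommGroup M := { (inferInstance : Group M) with mul_comm := hc }
    have hpr : (Nat.card M).Prime := IsSimpleGroup.prime_card
    rw [hM] at hpr
    norm_num at hpr
  · exact h

theorem det_one {M : Type u} [Group M] [Finite M] (hp : commutator M = ⊤) {θ : M → ℂ}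
    (hθ : IsCharacter M θ) (n : M) : detChar θ n = 1 := by
  unfold detChar
  rw [dif_pos hθ]
  let f : M →* ℂ := LinearMap.det.comp (Classical.choose (Classical.choose_spec hθ))
  have h1 := Abelianization.commutator_subset_ker (MonoidHom.toHomUnits f)
  rw [hp] at h1
  have h2 : MonoidHom.toHomUnits f n = 1 := h1 (mem_top n)
  have h3 := congrArg (fun u : ℂˣ => (u : ℂ)) h2
  exact h3

theorem eq_triv_of_degree {M : Type u} [Group M] [Finite M] (hp : commutator M = ⊤)
    {θ : IrrCharacter M} (hθ : charDegree (θ : M → ℂ) = 1) : θ = H82.Simple.triv M := by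
  have h1 := H82.Rel.eq_lin_of_degree hθ
  have h2 : Nat.card (H82.Rel.Lin M) = 1 := by rw [H82.Rel.Lin.card, hp, index_top]
  have h3 : Subsingleton (H82.Rel.Lin M) := (Nat.card_eq_one_iff_unique.1 h2).1
  rw [h1, Subsingleton.elim (H82.Rel.det θ) 1, H82.Rel.lin_one]

/-- numbers of characters of the degrees 5 and 3 of the simple group of order 60 -/
theorem degrees60 {M : Type u} [Group M] [Finite M] [IsSimpleGroup M] (hM : Nat.card M = 60) :
    ∃ (F5 F3 : Finset (IrrCharacter M)), (∀ ψ, ψ ∈ F5 ↔ charDegree (ψ : M → ℂ) = 5) ∧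
      (∀ ψ, ψ ∈ F3 ↔ charDegree (ψ : M → ℂ) = 3) ∧ F5.card = 1 ∧ F3.card = 2 ∧
      ∀ ψ : IrrCharacter M, charDegree (ψ : M → ℂ) ∈ [1, 2, 3, 4, 5] := by
  classical
  letI := Fintype.ofFinite (IrrCharacter M)
  have hp := perfect60 hM
  obtain ⟨hmem, h23, h25, h35⟩ := facts60 hM
  have hdeg : ∀ ψ : IrrCharacter M, charDegree (ψ : M → ℂ) ∈ [1, 2, 3, 4, 5] := by
    intro ψ
    have hd := H82.Deg.degree_dvd_card ψ
    have hpos := H82.Deg.charDegree_pos ψ
    rw [hM] at hd
    by_cases ht : ψ = H82.Simple.triv M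
    · rw [ht, H82.Simple.charDegree_triv]; simp
    · have hlt := H82.Deg.ne_one_degree_sq_lt ψ (fun h => ht (Subtype.ext h))
      rw [hM] at hlt
      have h8 : charDegree (ψ : M → ℂ) < 8 := by
        by_contra hcon
        push Not at hcon
        nlinarith
      have h6 : charDegree (ψ : M → ℂ) ≠ 6 := by
        intro h6
        exact h23 (adj_of_deg (by norm_num) Nat.prime_two Nat.prime_three ψ (by rw [h6]))
      have h7 : charDegree (ψ : M → ℂ) ≠ 7 := by
        intro h7
        rw [h7] at hd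
        norm_num at hd
      simp only [List.mem_cons, List.not_mem_nil, or_false]
      omega
  have hsum := H82.Deg.sum_degree_sq_nat (G := M)
  rw [hM] at hsum
  have hexp : ∀ ψ : IrrCharacter M, charDegree (ψ : M → ℂ) ^ 2 =
      (if charDegree (ψ : M → ℂ) = 1 then 1 else 0) + 4 * (if charDegree (ψ : M → ℂ) = 2 then 1 else 0) +
      9 * (if charDegree (ψ : M → ℂ) = 3 then 1 else 0) + 16 * (if charDegree (ψ : M → ℂ) = 4 then 1 else 0) +
      25 * (if charDegree (ψ : M → ℂ) = 5 then 1 else 0) := by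
    intro ψ
    have h1 := hdeg ψ
    simp only [List.mem_cons, List.not_mem_nil, or_false] at h1
    rcases h1 with h1 | h1 | h1 | h1 | h1 <;> rw [h1] <;> norm_num
  rw [Finset.sum_congr rfl (fun ψ _ => hexp ψ)] at hsum
  simp only [Finset.sum_add_distrib, ← Finset.mul_sum, ← Finset.card_filter] at hsum
  have h1c : (Finset.univ.filter (fun ψ : IrrCharacter M => charDegree (ψ : M → ℂ) = 1)).card = 1 := by
    rw [Finset.card_eq_one]
    refine ⟨H82.Simple.triv M, ?_⟩
    ext ψ
    simp only [Finset.mem_filter, Finset.mem_univ, true_and, Finset.mem_singleton]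
    constructor
    · exact fun h => eq_triv_of_degree hp h
    · rintro rfl; exact H82.Simple.charDegree_triv
  have pos : ∀ d : ℕ, (∃ ψ : IrrCharacter M, charDegree (ψ : M → ℂ) = d) →
      1 ≤ (Finset.univ.filter (fun ψ : IrrCharacter M => charDegree (ψ : M → ℂ) = d)).card := by
    rintro d ⟨ψ, hψ⟩
    exact Finset.card_pos.2 ⟨ψ, by simp [hψ]⟩
  have h5c := pos 5 (by
    obtain ⟨_, d, ⟨ψ, rfl⟩, hd⟩ := hmem 5 (by norm_num) (by norm_num)
    refine ⟨ψ, ?_⟩
    have h1 := hdeg ψ
    simp only [List.mem_cons, List.not_mem_nil, or_false] at h1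
    omega)
  have h3c := pos 3 (by
    obtain ⟨_, d, ⟨ψ, rfl⟩, hd⟩ := hmem 3 (by norm_num) (by norm_num)
    refine ⟨ψ, ?_⟩
    have h1 := hdeg ψ
    simp only [List.mem_cons, List.not_mem_nil, or_false] at h1
    omega)
  have h24c : 1 ≤ (Finset.univ.filter (fun ψ : IrrCharacter M => charDegree (ψ : M → ℂ) = 2)).card +
      (Finset.univ.filter (fun ψ : IrrCharacter M => charDegree (ψ : M → ℂ) = 4)).card := by
    obtain ⟨_, d, ⟨ψ, rfl⟩, hd⟩ := hmem 2 (by norm_num) (by norm_num)
    have h1 := hdeg ψ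
    simp only [List.mem_cons, List.not_mem_nil, or_false] at h1
    have h2 : charDegree (ψ : M → ℂ) = 2 ∨ charDegree (ψ : M → ℂ) = 4 := by
      omega
    rcases h2 with h2 | h2
    · have := pos 2 ⟨ψ, h2⟩; omega
    · have := pos 4 ⟨ψ, h2⟩; omega
  rw [h1c] at hsum
  have hfin : (Finset.univ.filter (fun ψ : IrrCharacter M => charDegree (ψ : M → ℂ) = 5)).card = 1 ∧
      (Finset.univ.filter (fun ψ : IrrCharacter M => charDegree (ψ : M → ℂ) = 3)).card = 2 := by
    revert hsum h5c h3c h24c
    generalize (Finset.univ.filter (fun ψ : IrrCharacter M => charDegree (ψ : M → ℂ) = 2)).card = a2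
    generalize (Finset.univ.filter (fun ψ : IrrCharacter M => charDegree (ψ : M → ℂ) = 3)).card = a3
    generalize (Finset.univ.filter (fun ψ : IrrCharacter M => charDegree (ψ : M → ℂ) = 4)).card = a4
    generalize (Finset.univ.filter (fun ψ : IrrCharacter M => charDegree (ψ : M → ℂ) = 5)).card = a5
    intro hsum h5c h3c h24c
    have b5 : a5 ≤ 2 := by omega
    have b3 : a3 ≤ 6 := by omega
    interval_cases a5 <;> interval_cases a3 <;> first | exact ⟨rfl, rfl⟩ | (exfalso; omega)
  refine ⟨Finset.univ.filter (fun ψ : IrrCharacter M => charDegree (ψ : M → ℂ) = 5),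
    Finset.univ.filter (fun ψ : IrrCharacter M => charDegree (ψ : M → ℂ) = 3), ?_, ?_, ?_, ?_, hdeg⟩
  · intro ψ; simp
  · intro ψ; simp
  · exact hfin.1
  · exact hfin.2

end H60.SG
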