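import Cfsg.Agent.Lib.H21.NE10

/-!
Certificates for the orders from 1093 to 2592, in the format of `H21.NE`.
-/

set_option autoImplicit false

namespace H60.SO

open H21.NE

/-- the exceptions -/
def exc : List ℕ := [1176, 1512, 1764, 1800, 2352, 2448, 2520, 2700, 3360, 3420, 3528, 3600]

/-- certificates from 1093 -/
def c0 : List (ℕ × List (ℕ × ℕ)) :=
  [(0, [(1093, 1), (2, 0)]), (1, []), (73, [(3, 3), (5, 5)]), (0, [(2, 3), (137, 1)]),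
  (0, [(1097, 1), (2, 0)]), (1, []), (0, [(7, 1), (157, 1)]), (11, [(2, 4), (5, 25)]),
  (0, [(3, 1), (367, 1)]), (1, []), (0, [(1103, 1), (2, 0)]), (23, [(2, 16), (3, 3)]),
  (17, [(5, 5), (13, 13)]), (1, []), (0, [(3, 3), (41, 1)]), (0, [(2, 2), (277, 1)]),
  (0, [(1109, 1), (2, 0)]), (1, []), (0, [(11, 1), (101, 1)]), (0, [(2, 3), (139, 1)]),
  (53, [(3, 3), (7, 7)]), (1, []), (0, [(5, 1), (223, 1)]), (31, [(2, 4), (3, 9)]),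
  (0, [(1117, 1), (2, 0)]), (1, []), (0, [(3, 1), (373, 1)]), (7, [(2, 32), (5, 5)]),
  (0, [(19, 1), (59, 1)]), (1, []), (0, [(1123, 1), (2, 0)]), (0, [(2, 2), (281, 1)]),
  (0, [(3, 2), (5, 3)]), (1, []), (0, [(7, 2), (23, 1)]), (47, [(2, 8), (3, 3)]),
  (0, [(1129, 1), (2, 0)]), (1, []), (29, [(3, 3), (13, 13)]), (0, [(2, 2), (283, 1)]),
  (0, [(11, 1), (103, 1)]), (1, []), (0, [(5, 1), (227, 1)]), (0, [(2, 4), (71, 1)]),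
  (0, [(3, 1), (379, 1)]), (1, []), (0, [(17, 1), (67, 1)]), (19, [(2, 4), (3, 3), (5, 5)]),
  (0, [(7, 1), (163, 1)]), (1, []), (0, [(3, 2), (127, 1)]), (13, [(2, 8), (11, 11)]),
  (0, [(5, 1), (229, 1)]), (1, []), (0, [(31, 1), (37, 1)]), (41, [(2, 4), (7, 7)]),
  (0, [(3, 1), (383, 1)]), (1, []), (0, [(1151, 1), (2, 0)]), (0, [(2, 7), (3, 2)]),
  (0, [(1153, 1), (2, 0)]), (1, []), (11, [(3, 3), (5, 5), (7, 7)]), (0, [(2, 2), (17, 2)]),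
  (0, [(13, 1), (89, 1)]), (1, []), (0, [(19, 1), (61, 1)]), (29, [(2, 8), (5, 5)]),
  (0, [(3, 3), (43, 1)]), (1, []), (0, [(1163, 1), (2, 0)]), (97, [(2, 4), (3, 3)]),
  (0, [(5, 1), (233, 1)]), (1, []), (0, [(3, 1), (389, 1)]), (0, [(2, 4), (73, 1)]),
  (0, [(7, 1), (167, 1)]), (1, []), (0, [(1171, 1), (2, 0)]), (0, [(2, 2), (293, 1)]),
  (23, [(3, 3), (17, 17)]), (1, []), (0, [(5, 2), (47, 1)]), (1, []), (0, [(11, 1), (107, 1)]),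
  (1, []), (0, [(3, 2), (131, 1)]), (59, [(2, 4), (5, 5)]), (0, [(1181, 1), (2, 0)]), (1, []),
  (0, [(7, 1), (13, 2)]), (0, [(2, 5), (37, 1)]), (79, [(3, 3), (5, 5)]), (1, []),
  (0, [(1187, 1), (2, 0)]), (11, [(2, 4), (3, 27)]), (0, [(29, 1), (41, 1)]), (1, []),
  (0, [(3, 1), (397, 1)]), (0, [(2, 3), (149, 1)]), (0, [(1193, 1), (2, 0)]), (1, []),
  (0, [(5, 1), (239, 1)]), (23, [(2, 4), (13, 13)]), (19, [(3, 9), (7, 7)]), (1, []),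
  (0, [(11, 1), (109, 1)]), (3, [(2, 16), (5, 25)]), (0, [(1201, 1), (2, 0)]), (1, []),
  (0, [(3, 1), (401, 1)]), (43, [(2, 4), (7, 7)]), (0, [(5, 1), (241, 1)]), (1, []),
  (0, [(17, 1), (71, 1)]), (0, [(2, 3), (151, 1)]), (31, [(3, 3), (13, 13)]), (1, []),
  (0, [(7, 1), (173, 1)]), (101, [(2, 4), (3, 3)]), (0, [(1213, 1), (2, 0)]), (1, []),
  (0, [(3, 5), (5, 1)]), (0, [(2, 6), (19, 1)]), (0, [(1217, 1), (2, 0)]), (1, []),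
  (0, [(23, 1), (53, 1)]), (61, [(2, 4), (5, 5)]), (37, [(3, 3), (11, 11)]), (1, []),
  (0, [(1223, 1), (2, 0)]), (17, [(2, 8), (3, 9)]), (0, [(5, 2), (7, 2)]), (1, []),
  (0, [(3, 1), (409, 1)]), (0, [(2, 2), (307, 1)]), (0, [(1229, 1), (2, 0)]), (1, []),
  (0, [(1231, 1), (2, 0)]), (11, [(2, 16), (7, 7)]), (0, [(3, 2), (137, 1)]), (1, []),
  (19, [(5, 5), (13, 13)]), (103, [(2, 4), (3, 3)]), (0, [(1237, 1), (2, 0)]), (1, []),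
  (59, [(3, 3), (7, 7)]), (31, [(2, 8), (5, 5)]), (0, [(17, 1), (73, 1)]), (1, []),
  (0, [(11, 1), (113, 1)]), (0, [(2, 2), (311, 1)]), (83, [(3, 3), (5, 5)]), (1, []),
  (0, [(29, 1), (43, 1)]), (13, [(2, 32), (3, 3)]), (0, [(1249, 1), (2, 0)]), (1, []),
  (0, [(3, 2), (139, 1)]), (0, [(2, 2), (313, 1)]), (0, [(7, 1), (179, 1)]), (1, []),
  (0, [(5, 1), (251, 1)]), (0, [(2, 3), (157, 1)]), (0, [(3, 1), (419, 1)]), (1, []),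
  (0, [(1259, 1), (2, 0)]), (7, [(2, 4), (3, 9), (5, 5)]), (0, [(13, 1), (97, 1)]), (1, []),
  (0, [(3, 1), (421, 1)]), (0, [(2, 4), (79, 1)]), (23, [(5, 5), (11, 11)]), (1, []),
  (0, [(7, 1), (181, 1)]), (0, [(2, 2), (317, 1)]), (0, [(3, 3), (47, 1)]), (1, []),
  (0, [(31, 1), (41, 1)]), (53, [(2, 8), (3, 3)]), (0, [(19, 1), (67, 1)]), (1, []),
  (17, [(3, 3), (5, 25)]), (29, [(2, 4), (11, 11)]), (0, [(1277, 1), (2, 0)]), (1, []),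
  (0, [(1279, 1), (2, 0)]), (0, [(2, 8), (5, 1)]), (61, [(3, 3), (7, 7)]), (1, []),
  (0, [(1283, 1), (2, 0)]), (107, [(2, 4), (3, 3)]), (0, [(5, 1), (257, 1)]), (1, []),
  (13, [(3, 9), (11, 11)]), (23, [(2, 8), (7, 7)]), (0, [(1289, 1), (2, 0)]), (1, []),
  (0, [(1291, 1), (2, 0)]), (19, [(2, 4), (17, 17)]), (0, [(3, 1), (431, 1)]), (1, []),
  (37, [(5, 5), (7, 7)]), (0, [(2, 4), (3, 4)]), (0, [(1297, 1), (2, 0)]), (1, []),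
  (0, [(3, 1), (433, 1)]), (13, [(2, 4), (5, 25)]), (0, [(1301, 1), (2, 0)]), (1, []),
  (0, [(1303, 1), (2, 0)]), (0, [(2, 3), (163, 1)]), (29, [(3, 9), (5, 5)]), (1, []),
  (0, [(1307, 1), (2, 0)]), (109, [(2, 4), (3, 3)]), (17, [(7, 7), (11, 11)]), (1, []),
  (23, [(3, 3), (19, 19)]), (0, [(2, 5), (41, 1)]), (0, [(13, 1), (101, 1)]), (1, []),
  (0, [(5, 1), (263, 1)]), (47, [(2, 4), (7, 7)]), (0, [(3, 1), (439, 1)]), (1, []),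
  (0, [(1319, 1), (2, 0)]), (11, [(2, 8), (3, 3), (5, 5)]), (0, [(1321, 1), (2, 0)]), (1, []),
  (0, [(3, 3), (7, 2)]), (0, [(2, 2), (331, 1)]), (0, [(5, 2), (53, 1)]), (1, []),
  (0, [(1327, 1), (2, 0)]), (0, [(2, 4), (83, 1)]), (0, [(3, 1), (443, 1)]), (1, []),
  (0, [(11, 3), (2, 0)]), (37, [(2, 4), (3, 9)]), (0, [(31, 1), (43, 1)]), (1, []),
  (89, [(3, 3), (5, 5)]), (0, [(2, 3), (167, 1)]), (0, [(7, 1), (191, 1)]), (1, []),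
  (0, [(13, 1), (103, 1)]), (67, [(2, 4), (5, 5)]), (0, [(3, 2), (149, 1)]), (1, []),
  (0, [(17, 1), (79, 1)]), (7, [(2, 64), (3, 3)]), (0, [(5, 1), (269, 1)]), (1, []),
  (0, [(3, 1), (449, 1)]), (0, [(2, 2), (337, 1)]), (0, [(19, 1), (71, 1)]), (1, []),
  (0, [(7, 1), (193, 1)]), (0, [(2, 3), (13, 2)]), (41, [(3, 3), (11, 11)]), (1, []),
  (0, [(5, 1), (271, 1)]), (113, [(2, 4), (3, 3)]), (0, [(23, 1), (59, 1)]), (1, []),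
  (0, [(3, 2), (151, 1)]), (17, [(2, 16), (5, 5)]), (0, [(1361, 1), (2, 0)]), (1, []),
  (0, [(29, 1), (47, 1)]), (31, [(2, 4), (11, 11)]), (13, [(3, 3), (5, 5), (7, 7)]), (1, []),
  (0, [(1367, 1), (2, 0)]), (19, [(2, 8), (3, 9)]), (0, [(37, 2), (2, 0)]), (1, []),
  (0, [(3, 1), (457, 1)]), (0, [(2, 2), (7, 3)]), (0, [(1373, 1), (2, 0)]), (1, []),
  (0, [(5, 3), (11, 1)]), (0, [(2, 5), (43, 1)]), (0, [(3, 4), (17, 1)]), (1, []),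
  (0, [(7, 1), (197, 1)]), (23, [(2, 4), (3, 3), (5, 5)]), (0, [(1381, 1), (2, 0)]), (1, []),
  (0, [(3, 1), (461, 1)]), (0, [(2, 3), (173, 1)]), (0, [(5, 1), (277, 1)]), (1, []),
  (0, [(19, 1), (73, 1)]), (0, [(2, 2), (347, 1)]), (0, [(3, 1), (463, 1)]), (1, []),
  (0, [(13, 1), (107, 1)]), (29, [(2, 16), (3, 3)])]

theorem h0 : goC 61 exc 1093 c0 = true := by decide +kernel

theorem l0 : c0.length = 300 := by decide +kernel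

/-- certificates from 1393 -/
def c1 : List (ℕ × List (ℕ × ℕ)) :=
  [(0, [(7, 1), (199, 1)]), (1, []), (31, [(3, 9), (5, 5)]), (0, [(2, 2), (349, 1)]),
  (0, [(11, 1), (127, 1)]), (1, []), (0, [(1399, 1), (2, 0)]), (7, [(2, 8), (5, 25)]),
  (0, [(3, 1), (467, 1)]), (1, []), (0, [(23, 1), (61, 1)]), (13, [(2, 4), (3, 27)]),
  (0, [(5, 1), (281, 1)]), (1, []), (67, [(3, 3), (7, 7)]), (0, [(2, 7), (11, 1)]),
  (0, [(1409, 1), (2, 0)]), (1, []), (0, [(17, 1), (83, 1)]), (0, [(2, 2), (353, 1)]),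
  (0, [(3, 2), (157, 1)]), (1, []), (0, [(5, 1), (283, 1)]), (59, [(2, 8), (3, 3)]),
  (0, [(13, 1), (109, 1)]), (1, []), (43, [(3, 3), (11, 11)]), (71, [(2, 4), (5, 5)]),
  (0, [(7, 2), (29, 1)]), (1, []), (0, [(1423, 1), (2, 0)]), (0, [(2, 4), (89, 1)]),
  (19, [(3, 3), (5, 25)]), (1, []), (0, [(1427, 1), (2, 0)]), (17, [(2, 4), (3, 3), (7, 7)]),
  (0, [(1429, 1), (2, 0)]), (1, []), (0, [(3, 3), (53, 1)]), (0, [(2, 3), (179, 1)]),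
  (0, [(1433, 1), (2, 0)]), (1, []), (41, [(5, 5), (7, 7)]), (0, [(2, 2), (359, 1)]),
  (0, [(3, 1), (479, 1)]), (1, []), (0, [(1439, 1), (2, 0)]), (5, [(2, 32), (3, 9)]),
  (0, [(11, 1), (131, 1)]), (1, []), (37, [(3, 3), (13, 13)]), (0, [(2, 2), (19, 2)]),
  (0, [(5, 1), (17, 2)]), (1, []), (0, [(1447, 1), (2, 0)]), (0, [(2, 3), (181, 1)]),
  (23, [(3, 9), (7, 7)]), (1, []), (0, [(1451, 1), (2, 0)]), (3, [(2, 4), (11, 121)]),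
  (0, [(1453, 1), (2, 0)]), (1, []), (97, [(3, 3), (5, 5)]), (13, [(2, 16), (7, 7)]),
  (0, [(31, 1), (47, 1)]), (1, []), (0, [(1459, 1), (2, 0)]), (73, [(2, 4), (5, 5)]),
  (0, [(3, 1), (487, 1)]), (1, []), (19, [(7, 7), (11, 11)]), (61, [(2, 8), (3, 3)]),
  (0, [(5, 1), (293, 1)]), (1, []), (0, [(3, 2), (163, 1)]), (0, [(2, 2), (367, 1)]),
  (0, [(13, 1), (113, 1)]), (1, []), (0, [(1471, 1), (2, 0)]), (0, [(2, 6), (23, 1)]),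
  (0, [(3, 1), (491, 1)]), (1, []), (0, [(5, 2), (59, 1)]), (41, [(2, 4), (3, 9)]),
  (0, [(7, 1), (211, 1)]), (1, []), (29, [(3, 3), (17, 17)]), (37, [(2, 8), (5, 5)]),
  (0, [(1481, 1), (2, 0)]), (1, []), (0, [(1483, 1), (2, 0)]), (53, [(2, 4), (7, 7)]),
  (11, [(3, 27), (5, 5)]), (1, []), (0, [(1487, 1), (2, 0)]), (31, [(2, 16), (3, 3)]),
  (0, [(1489, 1), (2, 0)]), (1, []), (71, [(3, 3), (7, 7)]), (0, [(2, 2), (373, 1)]),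
  (0, [(1493, 1), (2, 0)]), (1, []), (23, [(5, 5), (13, 13)]), (17, [(2, 8), (11, 11)]),
  (0, [(3, 1), (499, 1)]), (1, []), (0, [(1499, 1), (2, 0)]), (3, [(2, 4), (5, 125)]),
  (0, [(19, 1), (79, 1)]), (1, []), (0, [(3, 2), (167, 1)]), (0, [(2, 5), (47, 1)]),
  (43, [(5, 5), (7, 7)]), (1, []), (0, [(11, 1), (137, 1)]), (29, [(2, 4), (13, 13)]),
  (0, [(3, 1), (503, 1)]), (1, []), (0, [(1511, 1), (2, 0)]), (1, []), (0, [(17, 1), (89, 1)]),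
  (1, []), (101, [(3, 3), (5, 5)]), (0, [(2, 2), (379, 1)]), (0, [(37, 1), (41, 1)]), (1, []),
  (0, [(7, 2), (31, 1)]), (19, [(2, 16), (5, 5)]), (0, [(3, 2), (13, 2)]), (1, []),
  (0, [(1523, 1), (2, 0)]), (127, [(2, 4), (3, 3)]), (0, [(5, 2), (61, 1)]), (1, []),
  (0, [(3, 1), (509, 1)]), (0, [(2, 3), (191, 1)]), (0, [(11, 1), (139, 1)]), (1, []),
  (0, [(1531, 1), (2, 0)]), (0, [(2, 2), (383, 1)]), (73, [(3, 3), (7, 7)]), (1, []),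
  (0, [(5, 1), (307, 1)]), (0, [(2, 9), (3, 1)]), (0, [(29, 1), (53, 1)]), (1, []),
  (0, [(3, 4), (19, 1)]), (11, [(2, 4), (5, 5), (7, 7)]), (0, [(23, 1), (67, 1)]), (1, []),
  (0, [(1543, 1), (2, 0)]), (0, [(2, 3), (193, 1)]), (103, [(3, 3), (5, 5)]), (1, []),
  (17, [(7, 7), (13, 13)]), (43, [(2, 4), (3, 9)]), (0, [(1549, 1), (2, 0)]), (1, []),
  (47, [(3, 3), (11, 11)]), (0, [(2, 4), (97, 1)]), (0, [(1553, 1), (2, 0)]), (1, []),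
  (0, [(5, 1), (311, 1)]), (0, [(2, 2), (389, 1)]), (0, [(3, 2), (173, 1)]), (1, []),
  (0, [(1559, 1), (2, 0)]), (13, [(2, 8), (3, 3), (5, 5)]), (0, [(7, 1), (223, 1)]), (1, []),
  (0, [(3, 1), (521, 1)]), (23, [(2, 4), (17, 17)]), (0, [(5, 1), (313, 1)]), (1, []),
  (0, [(1567, 1), (2, 0)]), (0, [(2, 5), (7, 2)]), (0, [(3, 1), (523, 1)]), (1, []),
  (0, [(1571, 1), (2, 0)]), (131, [(2, 4), (3, 3)]), (0, [(11, 2), (13, 1)]), (1, []),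
  (7, [(3, 9), (5, 25)]), (0, [(2, 3), (197, 1)]), (0, [(19, 1), (83, 1)]), (1, []),
  (0, [(1579, 1), (2, 0)]), (79, [(2, 4), (5, 5)]), (31, [(3, 3), (17, 17)]), (1, []),
  (0, [(1583, 1), (2, 0)]), (11, [(2, 16), (3, 9)]), (0, [(5, 1), (317, 1)]), (1, []),
  (0, [(3, 1), (23, 2)]), (0, [(2, 2), (397, 1)]), (0, [(7, 1), (227, 1)]), (1, []),
  (0, [(37, 1), (43, 1)]), (0, [(2, 3), (199, 1)]), (0, [(3, 3), (59, 1)]), (1, []),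
  (29, [(5, 5), (11, 11)]), (19, [(2, 4), (3, 3), (7, 7)]), (0, [(1597, 1), (2, 0)]), (1, []),
  (41, [(3, 3), (13, 13)]), (0, [(2, 6), (5, 2)]), (0, [(1601, 1), (2, 0)]), (1, []),
  (0, [(7, 1), (229, 1)]), (0, [(2, 2), (401, 1)]), (107, [(3, 3), (5, 5)]), (1, []),
  (0, [(1607, 1), (2, 0)]), (67, [(2, 8), (3, 3)]), (0, [(1609, 1), (2, 0)]), (1, []),
  (0, [(3, 2), (179, 1)]), (31, [(2, 4), (13, 13)]), (0, [(1613, 1), (2, 0)]), (1, []),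
  (19, [(5, 5), (17, 17)]), (0, [(2, 4), (101, 1)]), (11, [(3, 3), (7, 49)]), (1, []),
  (0, [(1619, 1), (2, 0)]), (5, [(2, 4), (3, 81)]), (0, [(1621, 1), (2, 0)]), (1, []),
  (0, [(3, 1), (541, 1)]), (29, [(2, 8), (7, 7)]), (0, [(5, 3), (13, 1)]), (1, []),
  (0, [(1627, 1), (2, 0)]), (37, [(2, 4), (11, 11)]), (0, [(3, 2), (181, 1)]), (1, []),
  (0, [(7, 1), (233, 1)]), (17, [(2, 32), (3, 3)]), (0, [(23, 1), (71, 1)]), (1, []),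
  (109, [(3, 3), (5, 5)]), (0, [(2, 2), (409, 1)]), (0, [(1637, 1), (2, 0)]), (1, []),
  (0, [(11, 1), (149, 1)]), (41, [(2, 8), (5, 5)]), (0, [(3, 1), (547, 1)]), (1, []),
  (0, [(31, 1), (53, 1)]), (137, [(2, 4), (3, 3)]), (47, [(5, 5), (7, 7)]), (1, []),
  (0, [(3, 3), (61, 1)]), (0, [(2, 4), (103, 1)]), (0, [(17, 1), (97, 1)]), (1, []),
  (0, [(13, 1), (127, 1)]), (59, [(2, 4), (7, 7)]), (29, [(3, 3), (19, 19)]), (1, []),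
  (0, [(5, 1), (331, 1)]), (23, [(2, 8), (3, 9)]), (0, [(1657, 1), (2, 0)]), (1, []),
  (79, [(3, 3), (7, 7)]), (83, [(2, 4), (5, 5)]), (0, [(11, 1), (151, 1)]), (1, []),
  (0, [(1663, 1), (2, 0)]), (0, [(2, 7), (13, 1)]), (37, [(3, 9), (5, 5)]), (1, []),
  (0, [(1667, 1), (2, 0)]), (139, [(2, 4), (3, 3)]), (0, [(1669, 1), (2, 0)]), (1, []),
  (0, [(3, 1), (557, 1)]), (19, [(2, 8), (11, 11)]), (0, [(7, 1), (239, 1)]), (1, []),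
  (0, [(5, 2), (67, 1)]), (0, [(2, 2), (419, 1)]), (43, [(3, 3), (13, 13)]), (1, []),
  (0, [(23, 1), (73, 1)]), (5, [(2, 16), (3, 3), (7, 7)]), (0, [(41, 2), (2, 0)]), (1, []),
  (17, [(3, 9), (11, 11)]), (0, [(2, 2), (421, 1)]), (0, [(5, 1), (337, 1)]), (1, []),
  (0, [(7, 1), (241, 1)]), (0, [(2, 3), (211, 1)]), (0, [(3, 1), (563, 1)]), (1, []),
  (0, [(19, 1), (89, 1)]), (47, [(2, 4), (3, 9)])]

theorem h1 : goC 61 exc 1393 c1 = true := by decide +kernel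

theorem l1 : c1.length = 300 := by decide +kernel

/-- certificates from 1693 -/
def c2 : List (ℕ × List (ℕ × ℕ)) :=
  [(0, [(1693, 1), (2, 0)]), (1, []), (113, [(3, 3), (5, 5)]), (0, [(2, 5), (53, 1)]),
  (0, [(1697, 1), (2, 0)]), (1, []), (0, [(1699, 1), (2, 0)]), (17, [(2, 4), (5, 25)]),
  (0, [(3, 5), (7, 1)]), (1, []), (0, [(13, 1), (131, 1)]), (71, [(2, 8), (3, 3)]),
  (31, [(5, 5), (11, 11)]), (1, []), (0, [(3, 1), (569, 1)]), (61, [(2, 4), (7, 7)]),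
  (0, [(1709, 1), (2, 0)]), (1, []), (0, [(29, 1), (59, 1)]), (0, [(2, 4), (107, 1)]),
  (0, [(3, 1), (571, 1)]), (1, []), (0, [(5, 1), (7, 3)]), (3, [(2, 4), (11, 11), (13, 13)]),
  (0, [(17, 1), (101, 1)]), (1, []), (0, [(3, 2), (191, 1)]), (43, [(2, 8), (5, 5)]),
  (0, [(1721, 1), (2, 0)]), (1, []), (0, [(1723, 1), (2, 0)]), (0, [(2, 2), (431, 1)]),
  (23, [(3, 3), (5, 25)]), (1, []), (0, [(11, 1), (157, 1)]), (0, [(2, 6), (3, 3)]),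
  (19, [(7, 7), (13, 13)]), (1, []), (0, [(3, 1), (577, 1)]), (0, [(2, 2), (433, 1)]),
  (0, [(1733, 1), (2, 0)]), (1, []), (0, [(5, 1), (347, 1)]), (31, [(2, 8), (7, 7)]),
  (0, [(3, 2), (193, 1)]), (1, []), (0, [(37, 1), (47, 1)]), (29, [(2, 4), (3, 3), (5, 5)]),
  (0, [(1741, 1), (2, 0)]), (1, []), (83, [(3, 3), (7, 7)]), (0, [(2, 4), (109, 1)]),
  (0, [(5, 1), (349, 1)]), (1, []), (0, [(1747, 1), (2, 0)]), (23, [(2, 4), (19, 19)]),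
  (53, [(3, 3), (11, 11)]), (1, []), (0, [(17, 1), (103, 1)]), (73, [(2, 8), (3, 3)]),
  (0, [(1753, 1), (2, 0)]), (1, []), (13, [(3, 27), (5, 5)]), (0, [(2, 2), (439, 1)]),
  (0, [(7, 1), (251, 1)]), (1, []), (0, [(1759, 1), (2, 0)]), (11, [(2, 32), (5, 5)]),
  (0, [(3, 1), (587, 1)]), (1, []), (0, [(41, 1), (43, 1)]), (1, []), (0, [(5, 1), (353, 1)]),
  (1, []), (31, [(3, 3), (19, 19)]), (17, [(2, 8), (13, 13)]), (0, [(29, 1), (61, 1)]), (1, []),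
  (23, [(7, 7), (11, 11)]), (0, [(2, 2), (443, 1)]), (0, [(3, 2), (197, 1)]), (1, []),
  (0, [(5, 2), (71, 1)]), (37, [(2, 16), (3, 3)]), (0, [(1777, 1), (2, 0)]), (1, []),
  (0, [(3, 1), (593, 1)]), (89, [(2, 4), (5, 5)]), (0, [(13, 1), (137, 1)]), (1, []),
  (0, [(1783, 1), (2, 0)]), (0, [(2, 3), (223, 1)]), (17, [(3, 3), (5, 5), (7, 7)]), (1, []),
  (0, [(1787, 1), (2, 0)]), (149, [(2, 4), (3, 3)]), (0, [(1789, 1), (2, 0)]), (1, []),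
  (0, [(3, 2), (199, 1)]), (0, [(2, 8), (7, 1)]), (0, [(11, 1), (163, 1)]), (1, []),
  (0, [(5, 1), (359, 1)]), (0, [(2, 2), (449, 1)]), (0, [(3, 1), (599, 1)]), (1, []),
  (0, [(7, 1), (257, 1)]), (1, []), (0, [(1801, 1), (2, 0)]), (1, []), (0, [(3, 1), (601, 1)]),
  (41, [(2, 4), (11, 11)]), (0, [(5, 1), (19, 2)]), (1, []), (0, [(13, 1), (139, 1)]),
  (0, [(2, 4), (113, 1)]), (0, [(3, 3), (67, 1)]), (1, []), (0, [(1811, 1), (2, 0)]),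
  (151, [(2, 4), (3, 3)]), (0, [(7, 2), (37, 1)]), (1, []), (5, [(3, 3), (11, 121)]),
  (0, [(2, 3), (227, 1)]), (0, [(23, 1), (79, 1)]), (1, []), (0, [(17, 1), (107, 1)]),
  (13, [(2, 4), (5, 5), (7, 7)]), (0, [(3, 1), (607, 1)]), (1, []), (0, [(1823, 1), (2, 0)]),
  (19, [(2, 32), (3, 3)]), (0, [(5, 2), (73, 1)]), (1, []), (29, [(3, 9), (7, 7)]),
  (0, [(2, 2), (457, 1)]), (0, [(31, 1), (59, 1)]), (1, []), (0, [(1831, 1), (2, 0)]),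
  (0, [(2, 3), (229, 1)]), (47, [(3, 3), (13, 13)]), (1, []), (0, [(5, 1), (367, 1)]),
  (17, [(2, 4), (3, 27)]), (0, [(11, 1), (167, 1)]), (1, []), (0, [(3, 1), (613, 1)]),
  (23, [(2, 16), (5, 5)]), (0, [(7, 1), (263, 1)]), (1, []), (0, [(19, 1), (97, 1)]),
  (0, [(2, 2), (461, 1)]), (41, [(3, 9), (5, 5)]), (1, []), (0, [(1847, 1), (2, 0)]),
  (11, [(2, 8), (3, 3), (7, 7)]), (0, [(43, 2), (2, 0)]), (1, []), (0, [(3, 1), (617, 1)]),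
  (0, [(2, 2), (463, 1)]), (0, [(17, 1), (109, 1)]), (1, []), (53, [(5, 5), (7, 7)]),
  (0, [(2, 6), (29, 1)]), (0, [(3, 1), (619, 1)]), (1, []), (0, [(11, 1), (13, 2)]),
  (31, [(2, 4), (3, 3), (5, 5)]), (0, [(1861, 1), (2, 0)]), (1, []), (0, [(3, 4), (23, 1)]),
  (0, [(2, 3), (233, 1)]), (0, [(5, 1), (373, 1)]), (1, []), (0, [(1867, 1), (2, 0)]),
  (0, [(2, 2), (467, 1)]), (89, [(3, 3), (7, 7)]), (1, []), (0, [(1871, 1), (2, 0)]),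
  (13, [(2, 16), (3, 9)]), (0, [(1873, 1), (2, 0)]), (1, []), (0, [(3, 1), (5, 4)]),
  (67, [(2, 4), (7, 7)]), (0, [(1877, 1), (2, 0)]), (1, []), (0, [(1879, 1), (2, 0)]),
  (47, [(2, 8), (5, 5)]), (19, [(3, 9), (11, 11)]), (1, []), (0, [(7, 1), (269, 1)]),
  (157, [(2, 4), (3, 3)]), (29, [(5, 5), (13, 13)]), (1, []), (37, [(3, 3), (17, 17)]),
  (0, [(2, 5), (59, 1)]), (0, [(1889, 1), (2, 0)]), (1, []), (0, [(31, 1), (61, 1)]),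
  (43, [(2, 4), (11, 11)]), (0, [(3, 1), (631, 1)]), (1, []), (0, [(5, 1), (379, 1)]),
  (79, [(2, 8), (3, 3)]), (0, [(7, 1), (271, 1)]), (1, []), (0, [(3, 2), (211, 1)]),
  (19, [(2, 4), (5, 25)]), (0, [(1901, 1), (2, 0)]), (1, []), (0, [(11, 1), (173, 1)]),
  (17, [(2, 16), (7, 7)]), (127, [(3, 3), (5, 5)]), (1, []), (0, [(1907, 1), (2, 0)]),
  (53, [(2, 4), (3, 9)]), (0, [(23, 1), (83, 1)]), (1, []), (13, [(3, 3), (7, 49)]),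
  (0, [(2, 3), (239, 1)]), (0, [(1913, 1), (2, 0)]), (1, []), (0, [(5, 1), (383, 1)]),
  (0, [(2, 2), (479, 1)]), (0, [(3, 3), (71, 1)]), (1, []), (0, [(19, 1), (101, 1)]),
  (5, [(2, 128), (3, 3)]), (0, [(17, 1), (113, 1)]), (1, []), (0, [(3, 1), (641, 1)]),
  (37, [(2, 4), (13, 13)]), (11, [(5, 25), (7, 7)]), (1, []), (0, [(41, 1), (47, 1)]),
  (0, [(2, 3), (241, 1)]), (0, [(3, 1), (643, 1)]), (1, []), (0, [(1931, 1), (2, 0)]),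
  (23, [(2, 4), (3, 3), (7, 7)]), (0, [(1933, 1), (2, 0)]), (1, []), (43, [(3, 9), (5, 5)]),
  (0, [(2, 4), (11, 2)]), (0, [(13, 1), (149, 1)]), (1, []), (0, [(7, 1), (277, 1)]),
  (97, [(2, 4), (5, 5)]), (0, [(3, 1), (647, 1)]), (1, []), (0, [(29, 1), (67, 1)]),
  (0, [(2, 3), (3, 5)]), (0, [(5, 1), (389, 1)]), (1, []), (59, [(3, 3), (11, 11)]),
  (0, [(2, 2), (487, 1)]), (0, [(1949, 1), (2, 0)]), (1, []), (0, [(1951, 1), (2, 0)]),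
  (0, [(2, 5), (61, 1)]), (31, [(3, 9), (7, 7)]), (1, []), (23, [(5, 5), (17, 17)]),
  (163, [(2, 4), (3, 3)]), (0, [(19, 1), (103, 1)]), (1, []), (0, [(3, 1), (653, 1)]),
  (5, [(2, 8), (7, 49)]), (0, [(37, 1), (53, 1)]), (1, []), (0, [(13, 1), (151, 1)]),
  (0, [(2, 2), (491, 1)]), (131, [(3, 3), (5, 5)]), (1, []), (0, [(7, 1), (281, 1)]),
  (41, [(2, 16), (3, 3)]), (0, [(11, 1), (179, 1)]), (1, []), (0, [(3, 3), (73, 1)]),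
  (29, [(2, 4), (17, 17)]), (0, [(1973, 1), (2, 0)]), (1, []), (0, [(5, 2), (79, 1)]),
  (19, [(2, 8), (13, 13)]), (0, [(3, 1), (659, 1)]), (1, []), (0, [(1979, 1), (2, 0)]),
  (11, [(2, 4), (3, 9), (5, 5)]), (0, [(7, 1), (283, 1)]), (1, []), (0, [(3, 1), (661, 1)]),
  (0, [(2, 6), (31, 1)]), (0, [(5, 1), (397, 1)]), (1, []), (0, [(1987, 1), (2, 0)]),
  (71, [(2, 4), (7, 7)]), (17, [(3, 9), (13, 13)]), (1, []), (0, [(11, 1), (181, 1)]),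
  (83, [(2, 8), (3, 3)])]

theorem h2 : goC 61 exc 1693 c2 = true := by decide +kernel

theorem l2 : c2.length = 300 := by decide +kernel

/-- certificates from 1993 -/
def c3 : List (ℕ × List (ℕ × ℕ)) :=
  [(0, [(1993, 1), (2, 0)]), (1, []), (19, [(3, 3), (5, 5), (7, 7)]), (0, [(2, 2), (499, 1)]),
  (0, [(1997, 1), (2, 0)]), (1, []), (0, [(1999, 1), (2, 0)]), (0, [(2, 4), (5, 3)]),
  (29, [(3, 3), (23, 23)]), (1, []), (0, [(2003, 1), (2, 0)]), (167, [(2, 4), (3, 3)]),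
  (0, [(5, 1), (401, 1)]), (1, []), (0, [(3, 2), (223, 1)]), (0, [(2, 3), (251, 1)]),
  (0, [(7, 2), (41, 1)]), (1, []), (0, [(2011, 1), (2, 0)]), (0, [(2, 2), (503, 1)]),
  (61, [(3, 3), (11, 11)]), (1, []), (31, [(5, 5), (13, 13)]), (7, [(2, 32), (3, 9)]),
  (0, [(2017, 1), (2, 0)]), (1, []), (0, [(3, 1), (673, 1)]), (101, [(2, 4), (5, 5)]),
  (0, [(43, 1), (47, 1)]), (1, []), (0, [(7, 1), (17, 2)]), (23, [(2, 8), (11, 11)]),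
  (0, [(3, 4), (5, 2)]), (1, []), (0, [(2027, 1), (2, 0)]), (3, [(2, 4), (13, 169)]),
  (0, [(2029, 1), (2, 0)]), (1, []), (0, [(3, 1), (677, 1)]), (0, [(2, 4), (127, 1)]),
  (0, [(19, 1), (107, 1)]), (1, []), (37, [(5, 5), (11, 11)]), (0, [(2, 2), (509, 1)]),
  (97, [(3, 3), (7, 7)]), (1, []), (0, [(2039, 1), (2, 0)]), (17, [(2, 8), (3, 3), (5, 5)]),
  (0, [(13, 1), (157, 1)]), (1, []), (0, [(3, 2), (227, 1)]), (73, [(2, 4), (7, 7)]),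
  (0, [(5, 1), (409, 1)]), (1, []), (0, [(23, 1), (89, 1)]), (0, [(2, 11), (3, 0)]),
  (0, [(3, 1), (683, 1)]), (1, []), (0, [(7, 1), (293, 1)]), (19, [(2, 4), (3, 27)]),
  (0, [(2053, 1), (2, 0)]), (1, []), (137, [(3, 3), (5, 5)]), (0, [(2, 3), (257, 1)]),
  (0, [(11, 2), (17, 1)]), (1, []), (0, [(29, 1), (71, 1)]), (103, [(2, 4), (5, 5)]),
  (0, [(3, 2), (229, 1)]), (1, []), (0, [(2063, 1), (2, 0)]), (43, [(2, 16), (3, 3)]),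
  (59, [(5, 5), (7, 7)]), (1, []), (53, [(3, 3), (13, 13)]), (47, [(2, 4), (11, 11)]),
  (0, [(2069, 1), (2, 0)]), (1, []), (0, [(19, 1), (109, 1)]), (37, [(2, 8), (7, 7)]),
  (0, [(3, 1), (691, 1)]), (1, []), (0, [(5, 2), (83, 1)]), (173, [(2, 4), (3, 3)]),
  (0, [(31, 1), (67, 1)]), (1, []), (11, [(3, 27), (7, 7)]), (13, [(2, 32), (5, 5)]),
  (0, [(2081, 1), (2, 0)]), (1, []), (0, [(2083, 1), (2, 0)]), (0, [(2, 2), (521, 1)]),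
  (139, [(3, 3), (5, 5)]), (1, []), (0, [(2087, 1), (2, 0)]), (29, [(2, 8), (3, 9)]),
  (0, [(2089, 1), (2, 0)]), (1, []), (41, [(3, 3), (17, 17)]), (0, [(2, 2), (523, 1)]),
  (23, [(7, 7), (13, 13)]), (1, []), (0, [(5, 1), (419, 1)]), (0, [(2, 4), (131, 1)]),
  (0, [(3, 2), (233, 1)]), (1, []), (0, [(2099, 1), (2, 0)]), (3, [(2, 4), (5, 25), (7, 7)]),
  (0, [(11, 1), (191, 1)]), (1, []), (0, [(3, 1), (701, 1)]), (0, [(2, 3), (263, 1)]),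
  (0, [(5, 1), (421, 1)]), (1, []), (0, [(7, 2), (43, 1)]), (31, [(2, 4), (17, 17)]),
  (37, [(3, 3), (19, 19)]), (1, []), (0, [(2111, 1), (2, 0)]), (11, [(2, 64), (3, 3)]),
  (0, [(2113, 1), (2, 0)]), (1, []), (47, [(3, 9), (5, 5)]), (0, [(2, 2), (23, 2)]),
  (0, [(29, 1), (73, 1)]), (1, []), (0, [(13, 1), (163, 1)]), (53, [(2, 8), (5, 5)]),
  (101, [(3, 3), (7, 7)]), (1, []), (0, [(11, 1), (193, 1)]), (59, [(2, 4), (3, 9)]),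
  (0, [(5, 3), (17, 1)]), (1, []), (0, [(3, 1), (709, 1)]), (19, [(2, 16), (7, 7)]),
  (0, [(2129, 1), (2, 0)]), (1, []), (0, [(2131, 1), (2, 0)]), (41, [(2, 4), (13, 13)]),
  (0, [(3, 3), (79, 1)]), (1, []), (61, [(5, 5), (7, 7)]), (89, [(2, 8), (3, 3)]),
  (0, [(2137, 1), (2, 0)]), (1, []), (31, [(3, 3), (23, 23)]), (107, [(2, 4), (5, 5)]),
  (0, [(2141, 1), (2, 0)]), (1, []), (0, [(2143, 1), (2, 0)]), (0, [(2, 5), (67, 1)]),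
  (13, [(3, 3), (5, 5), (11, 11)]), (1, []), (0, [(19, 1), (113, 1)]), (179, [(2, 4), (3, 3)]),
  (0, [(7, 1), (307, 1)]), (1, []), (0, [(3, 2), (239, 1)]), (0, [(2, 3), (269, 1)]),
  (0, [(2153, 1), (2, 0)]), (1, []), (0, [(5, 1), (431, 1)]), (11, [(2, 4), (7, 49)]),
  (0, [(3, 1), (719, 1)]), (1, []), (0, [(17, 1), (127, 1)]), (5, [(2, 16), (3, 27)]),
  (0, [(2161, 1), (2, 0)]), (1, []), (103, [(3, 3), (7, 7)]), (0, [(2, 2), (541, 1)]),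
  (0, [(5, 1), (433, 1)]), (1, []), (0, [(11, 1), (197, 1)]), (0, [(2, 3), (271, 1)]),
  (0, [(3, 2), (241, 1)]), (1, []), (0, [(13, 1), (167, 1)]), (181, [(2, 4), (3, 3)]),
  (0, [(41, 1), (53, 1)]), (1, []), (29, [(3, 3), (5, 25)]), (0, [(2, 7), (17, 1)]),
  (0, [(7, 1), (311, 1)]), (1, []), (0, [(2179, 1), (2, 0)]), (109, [(2, 4), (5, 5)]),
  (0, [(3, 1), (727, 1)]), (1, []), (0, [(37, 1), (59, 1)]), (13, [(2, 8), (3, 3), (7, 7)]),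
  (23, [(5, 5), (19, 19)]), (1, []), (0, [(3, 7), (2, 0)]), (0, [(2, 2), (547, 1)]),
  (0, [(11, 1), (199, 1)]), (1, []), (0, [(7, 1), (313, 1)]), (0, [(2, 4), (137, 1)]),
  (43, [(3, 3), (17, 17)]), (1, []), (0, [(5, 1), (439, 1)]), (61, [(2, 4), (3, 9)]),
  (0, [(13, 3), (2, 0)]), (1, []), (0, [(3, 1), (733, 1)]), (11, [(2, 8), (5, 25)]),
  (0, [(31, 1), (71, 1)]), (1, []), (0, [(2203, 1), (2, 0)]), (29, [(2, 4), (19, 19)]),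
  (5, [(3, 9), (7, 49)]), (1, []), (0, [(2207, 1), (2, 0)]), (23, [(2, 32), (3, 3)]),
  (0, [(47, 2), (2, 0)]), (1, []), (67, [(3, 3), (11, 11)]), (79, [(2, 4), (7, 7)]),
  (0, [(2213, 1), (2, 0)]), (1, []), (0, [(5, 1), (443, 1)]), (0, [(2, 3), (277, 1)]),
  (0, [(3, 1), (739, 1)]), (1, []), (0, [(7, 1), (317, 1)]), (37, [(2, 4), (3, 3), (5, 5)]),
  (0, [(2221, 1), (2, 0)]), (1, []), (19, [(3, 9), (13, 13)]), (0, [(2, 4), (139, 1)]),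
  (0, [(5, 2), (89, 1)]), (1, []), (0, [(17, 1), (131, 1)]), (0, [(2, 2), (557, 1)]),
  (0, [(3, 1), (743, 1)]), (1, []), (0, [(23, 1), (97, 1)]), (31, [(2, 8), (3, 9)]),
  (29, [(7, 7), (11, 11)]), (1, []), (149, [(3, 3), (5, 5)]), (43, [(2, 4), (13, 13)]),
  (0, [(2237, 1), (2, 0)]), (1, []), (0, [(2239, 1), (2, 0)]), (7, [(2, 64), (5, 5)]),
  (0, [(3, 3), (83, 1)]), (1, []), (0, [(2243, 1), (2, 0)]), (17, [(2, 4), (3, 3), (11, 11)]),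
  (0, [(5, 1), (449, 1)]), (1, []), (107, [(3, 3), (7, 7)]), (0, [(2, 3), (281, 1)]),
  (0, [(13, 1), (173, 1)]), (1, []), (0, [(2251, 1), (2, 0)]), (0, [(2, 2), (563, 1)]),
  (0, [(3, 1), (751, 1)]), (1, []), (41, [(5, 5), (11, 11)]), (47, [(2, 16), (3, 3)]),
  (0, [(37, 1), (61, 1)]), (1, []), (0, [(3, 2), (251, 1)]), (113, [(2, 4), (5, 5)]),
  (19, [(7, 7), (17, 17)]), (1, []), (0, [(31, 1), (73, 1)]), (0, [(2, 3), (283, 1)]),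
  (151, [(3, 3), (5, 5)]), (1, []), (0, [(2267, 1), (2, 0)]), (7, [(2, 4), (3, 81)]),
  (0, [(2269, 1), (2, 0)]), (1, []), (0, [(3, 1), (757, 1)]), (0, [(2, 5), (71, 1)]),
  (0, [(2273, 1), (2, 0)]), (1, []), (13, [(5, 25), (7, 7)]), (0, [(2, 2), (569, 1)]),
  (23, [(3, 9), (11, 11)]), (1, []), (0, [(43, 1), (53, 1)]), (19, [(2, 8), (3, 3), (5, 5)]),
  (0, [(2281, 1), (2, 0)]), (1, []), (0, [(3, 1), (761, 1)]), (0, [(2, 2), (571, 1)]),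
  (0, [(5, 1), (457, 1)]), (1, []), (0, [(2287, 1), (2, 0)]), (13, [(2, 16), (11, 11)]),
  (109, [(3, 3), (7, 7)]), (1, []), (0, [(29, 1), (79, 1)]), (191, [(2, 4), (3, 3)])]

theorem h3 : goC 61 exc 1993 c3 = true := by decide +kernel

theorem l3 : c3.length = 300 := by decide +kernel

/-- certificates from 2293 -/
def c4 : List (ℕ × List (ℕ × ℕ)) :=
  [(0, [(2293, 1), (2, 0)]), (1, []), (17, [(3, 27), (5, 5)]), (41, [(2, 8), (7, 7)]),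
  (0, [(2297, 1), (2, 0)]), (1, []), (0, [(11, 2), (19, 1)]), (23, [(2, 4), (5, 25)]),
  (59, [(3, 3), (13, 13)]), (1, []), (0, [(7, 2), (47, 1)]), (0, [(2, 8), (3, 2)]),
  (0, [(5, 1), (461, 1)]), (1, []), (0, [(3, 1), (769, 1)]), (0, [(2, 2), (577, 1)]),
  (0, [(2309, 1), (2, 0)]), (1, []), (0, [(2311, 1), (2, 0)]), (0, [(2, 3), (17, 2)]),
  (0, [(3, 2), (257, 1)]), (1, []), (0, [(5, 1), (463, 1)]), (193, [(2, 4), (3, 3)]),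
  (0, [(7, 1), (331, 1)]), (1, []), (0, [(3, 1), (773, 1)]), (29, [(2, 16), (5, 5)]),
  (0, [(11, 1), (211, 1)]), (1, []), (0, [(23, 1), (101, 1)]), (83, [(2, 4), (7, 7)]),
  (31, [(3, 3), (5, 25)]), (1, []), (0, [(13, 1), (179, 1)]), (97, [(2, 8), (3, 3)]),
  (0, [(17, 1), (137, 1)]), (1, []), (37, [(3, 9), (7, 7)]), (53, [(2, 4), (11, 11)]),
  (0, [(2333, 1), (2, 0)]), (1, []), (0, [(5, 1), (467, 1)]), (0, [(2, 5), (73, 1)]),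
  (41, [(3, 3), (19, 19)]), (1, []), (0, [(2339, 1), (2, 0)]), (13, [(2, 4), (3, 9), (5, 5)]),
  (0, [(2341, 1), (2, 0)]), (1, []), (71, [(3, 3), (11, 11)]), (0, [(2, 3), (293, 1)]),
  (67, [(5, 5), (7, 7)]), (1, []), (0, [(2347, 1), (2, 0)]), (0, [(2, 2), (587, 1)]),
  (0, [(3, 4), (29, 1)]), (1, []), (0, [(2351, 1), (2, 0)]), (1, []), (0, [(13, 1), (181, 1)]),
  (1, []), (157, [(3, 3), (5, 5)]), (31, [(2, 4), (19, 19)]), (0, [(2357, 1), (2, 0)]), (1, []),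
  (0, [(7, 1), (337, 1)]), (59, [(2, 8), (5, 5)]), (0, [(3, 1), (787, 1)]), (1, []),
  (0, [(17, 1), (139, 1)]), (197, [(2, 4), (3, 3)]), (43, [(5, 5), (11, 11)]), (1, []),
  (0, [(3, 2), (263, 1)]), (0, [(2, 6), (37, 1)]), (0, [(23, 1), (103, 1)]), (1, []),
  (0, [(2371, 1), (2, 0)]), (0, [(2, 2), (593, 1)]), (113, [(3, 3), (7, 7)]), (1, []),
  (0, [(5, 3), (19, 1)]), (11, [(2, 8), (3, 27)]), (0, [(2377, 1), (2, 0)]), (1, []),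
  (61, [(3, 3), (13, 13)]), (17, [(2, 4), (5, 5), (7, 7)]), (0, [(2381, 1), (2, 0)]), (1, []),
  (0, [(2383, 1), (2, 0)]), (0, [(2, 4), (149, 1)]), (53, [(3, 9), (5, 5)]), (1, []),
  (31, [(7, 7), (11, 11)]), (199, [(2, 4), (3, 3)]), (0, [(2389, 1), (2, 0)]), (1, []),
  (0, [(3, 1), (797, 1)]), (23, [(2, 8), (13, 13)]), (0, [(2393, 1), (2, 0)]), (1, []),
  (0, [(5, 1), (479, 1)]), (0, [(2, 2), (599, 1)]), (47, [(3, 3), (17, 17)]), (1, []),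
  (0, [(2399, 1), (2, 0)]), (3, [(2, 32), (5, 25)]), (0, [(7, 4), (2, 0)]), (1, []),
  (0, [(3, 3), (89, 1)]), (0, [(2, 2), (601, 1)]), (37, [(5, 5), (13, 13)]), (1, []),
  (0, [(29, 1), (83, 1)]), (43, [(2, 8), (7, 7)]), (73, [(3, 3), (11, 11)]), (1, []),
  (0, [(2411, 1), (2, 0)]), (67, [(2, 4), (3, 9)]), (0, [(19, 1), (127, 1)]), (1, []),
  (23, [(3, 3), (5, 5), (7, 7)]), (0, [(2, 4), (151, 1)]), (0, [(2417, 1), (2, 0)]), (1, []),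
  (0, [(41, 1), (59, 1)]), (5, [(2, 4), (11, 121)]), (0, [(3, 2), (269, 1)]), (1, []),
  (0, [(2423, 1), (2, 0)]), (101, [(2, 8), (3, 3)]), (0, [(5, 2), (97, 1)]), (1, []),
  (0, [(3, 1), (809, 1)]), (0, [(2, 2), (607, 1)]), (0, [(7, 1), (347, 1)]), (1, []),
  (17, [(11, 11), (13, 13)]), (0, [(2, 7), (19, 1)]), (0, [(3, 1), (811, 1)]), (1, []),
  (0, [(5, 1), (487, 1)]), (29, [(2, 4), (3, 3), (7, 7)]), (0, [(2437, 1), (2, 0)]), (1, []),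
  (0, [(3, 2), (271, 1)]), (61, [(2, 8), (5, 5)]), (0, [(2441, 1), (2, 0)]), (1, []),
  (0, [(7, 1), (349, 1)]), (47, [(2, 4), (13, 13)]), (163, [(3, 3), (5, 5)]), (1, []),
  (0, [(2447, 1), (2, 0)]), (1, []), (0, [(31, 1), (79, 1)]), (1, []), (43, [(3, 3), (19, 19)]),
  (0, [(2, 2), (613, 1)]), (0, [(11, 1), (223, 1)]), (1, []), (0, [(5, 1), (491, 1)]),
  (0, [(2, 3), (307, 1)]), (13, [(3, 27), (7, 7)]), (1, []), (0, [(2459, 1), (2, 0)]),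
  (41, [(2, 4), (3, 3), (5, 5)]), (0, [(23, 1), (107, 1)]), (1, []), (0, [(3, 1), (821, 1)]),
  (11, [(2, 32), (7, 7)]), (29, [(5, 5), (17, 17)]), (1, []), (0, [(2467, 1), (2, 0)]),
  (0, [(2, 2), (617, 1)]), (0, [(3, 1), (823, 1)]), (1, []), (0, [(7, 1), (353, 1)]),
  (103, [(2, 8), (3, 3)]), (0, [(2473, 1), (2, 0)]), (1, []), (11, [(3, 9), (5, 25)]),
  (0, [(2, 2), (619, 1)]), (0, [(2477, 1), (2, 0)]), (1, []), (0, [(37, 1), (67, 1)]),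
  (31, [(2, 16), (5, 5)]), (0, [(3, 1), (827, 1)]), (1, []), (0, [(13, 1), (191, 1)]),
  (23, [(2, 4), (3, 27)]), (71, [(5, 5), (7, 7)]), (1, []), (0, [(3, 1), (829, 1)]),
  (0, [(2, 3), (311, 1)]), (0, [(19, 1), (131, 1)]), (1, []), (0, [(47, 1), (53, 1)]),
  (89, [(2, 4), (7, 7)]), (0, [(3, 2), (277, 1)]), (1, []), (0, [(5, 1), (499, 1)]),
  (13, [(2, 64), (3, 3)]), (0, [(11, 1), (227, 1)]), (1, []), (17, [(3, 3), (7, 49)]),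
  (0, [(2, 2), (5, 4)]), (0, [(41, 1), (61, 1)]), (1, []), (0, [(2503, 1), (2, 0)]),
  (0, [(2, 3), (313, 1)]), (167, [(3, 3), (5, 5)]), (1, []), (0, [(23, 1), (109, 1)]),
  (19, [(2, 4), (3, 3), (11, 11)]), (0, [(13, 1), (193, 1)]), (1, []), (0, [(3, 4), (31, 1)]),
  (0, [(2, 4), (157, 1)]), (0, [(7, 1), (359, 1)]), (1, []), (0, [(5, 1), (503, 1)]),
  (37, [(2, 4), (17, 17)]), (0, [(3, 1), (839, 1)]), (1, []), (0, [(11, 1), (229, 1)]), (1, []),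
  (0, [(2521, 1), (2, 0)]), (1, []), (0, [(3, 1), (29, 2)]), (0, [(2, 2), (631, 1)]),
  (0, [(5, 2), (101, 1)]), (1, []), (0, [(7, 1), (19, 2)]), (0, [(2, 5), (79, 1)]),
  (0, [(3, 2), (281, 1)]), (1, []), (0, [(2531, 1), (2, 0)]), (211, [(2, 4), (3, 3)]),
  (0, [(17, 1), (149, 1)]), (1, []), (5, [(3, 3), (13, 169)]), (0, [(2, 3), (317, 1)]),
  (0, [(43, 1), (59, 1)]), (1, []), (0, [(2539, 1), (2, 0)]), (127, [(2, 4), (5, 5)]),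
  (7, [(3, 3), (11, 121)]), (1, []), (0, [(2543, 1), (2, 0)]), (53, [(2, 16), (3, 3)]),
  (0, [(5, 1), (509, 1)]), (1, []), (0, [(3, 2), (283, 1)]), (13, [(2, 4), (7, 49)]),
  (0, [(2549, 1), (2, 0)]), (1, []), (0, [(2551, 1), (2, 0)]), (29, [(2, 8), (11, 11)]),
  (37, [(3, 3), (23, 23)]), (1, []), (73, [(5, 5), (7, 7)]), (71, [(2, 4), (3, 9)]),
  (0, [(2557, 1), (2, 0)]), (1, []), (0, [(3, 1), (853, 1)]), (0, [(2, 9), (5, 1)]),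
  (0, [(13, 1), (197, 1)]), (1, []), (0, [(11, 1), (233, 1)]), (0, [(2, 2), (641, 1)]),
  (19, [(3, 27), (5, 5)]), (1, []), (0, [(17, 1), (151, 1)]), (107, [(2, 8), (3, 3)]),
  (0, [(7, 1), (367, 1)]), (1, []), (0, [(3, 1), (857, 1)]), (0, [(2, 2), (643, 1)]),
  (0, [(31, 1), (83, 1)]), (1, []), (0, [(5, 2), (103, 1)]), (23, [(2, 16), (7, 7)]),
  (0, [(3, 1), (859, 1)]), (1, []), (0, [(2579, 1), (2, 0)]), (43, [(2, 4), (3, 3), (5, 5)]),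
  (0, [(29, 1), (89, 1)]), (1, []), (41, [(3, 9), (7, 7)]), (19, [(2, 8), (17, 17)]),
  (47, [(5, 5), (11, 11)]), (1, []), (0, [(13, 1), (199, 1)]), (0, [(2, 2), (647, 1)]),
  (0, [(3, 1), (863, 1)]), (1, []), (0, [(2591, 1), (2, 0)]), (0, [(2, 5), (3, 4)])]

theorem h4 : goC 61 exc 2293 c4 = true := by decide +kernel

theorem l4 : c4.length = 300 := by decide +kernel


end H60.SO
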