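import Cfsg.Agent.Lib.H60.SO1

/-!
Certificates for the orders from 2593 to 3639, in the format of `H21.NE`.
-/

set_option autoImplicit false

namespace H60.SO

open H21.NE

/-- certificates from 2593 -/
def c5 : List (ℕ × List (ℕ × ℕ)) :=
  [(0, [(2593, 1), (2, 0)]), (1, []), (173, [(3, 3), (5, 5)]), (59, [(2, 4), (11, 11)]),
  (0, [(7, 2), (53, 1)]), (1, []), (0, [(23, 1), (113, 1)]), (13, [(2, 8), (5, 25)]),
  (0, [(3, 2), (17, 2)]), (1, []), (0, [(19, 1), (137, 1)]), (31, [(2, 4), (3, 3), (7, 7)]),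
  (0, [(5, 1), (521, 1)]), (1, []), (79, [(3, 3), (11, 11)]), (0, [(2, 4), (163, 1)]),
  (0, [(2609, 1), (2, 0)]), (1, []), (0, [(7, 1), (373, 1)]), (0, [(2, 2), (653, 1)]),
  (67, [(3, 3), (13, 13)]), (1, []), (0, [(5, 1), (523, 1)]), (109, [(2, 8), (3, 3)]),
  (0, [(2617, 1), (2, 0)]), (1, []), (0, [(3, 3), (97, 1)]), (131, [(2, 4), (5, 5)]),
  (0, [(2621, 1), (2, 0)]), (1, []), (0, [(43, 1), (61, 1)]), (0, [(2, 6), (41, 1)]),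
  (7, [(3, 3), (5, 125)]), (1, []), (0, [(37, 1), (71, 1)]), (73, [(2, 4), (3, 9)]),
  (0, [(11, 1), (239, 1)]), (1, []), (0, [(3, 1), (877, 1)]), (47, [(2, 8), (7, 7)]),
  (0, [(2633, 1), (2, 0)]), (1, []), (31, [(5, 5), (17, 17)]), (0, [(2, 2), (659, 1)]),
  (0, [(3, 2), (293, 1)]), (1, []), (29, [(7, 7), (13, 13)]), (11, [(2, 16), (3, 3), (5, 5)]),
  (0, [(19, 1), (139, 1)]), (1, []), (0, [(3, 1), (881, 1)]), (0, [(2, 2), (661, 1)]),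
  (0, [(5, 1), (23, 2)]), (1, []), (0, [(2647, 1), (2, 0)]), (0, [(2, 3), (331, 1)]),
  (0, [(3, 1), (883, 1)]), (1, []), (0, [(11, 1), (241, 1)]), (17, [(2, 4), (3, 3), (13, 13)]),
  (0, [(7, 1), (379, 1)]), (1, []), (59, [(3, 9), (5, 5)]), (0, [(2, 5), (83, 1)]),
  (0, [(2657, 1), (2, 0)]), (1, []), (0, [(2659, 1), (2, 0)]), (19, [(2, 4), (5, 5), (7, 7)]),
  (0, [(3, 1), (887, 1)]), (1, []), (0, [(2663, 1), (2, 0)]), (37, [(2, 8), (3, 9)]),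
  (41, [(5, 5), (13, 13)]), (1, []), (127, [(3, 3), (7, 7)]), (29, [(2, 4), (23, 23)]),
  (0, [(17, 1), (157, 1)]), (1, []), (0, [(2671, 1), (2, 0)]), (0, [(2, 4), (167, 1)]),
  (0, [(3, 5), (11, 1)]), (1, []), (0, [(5, 2), (107, 1)]), (223, [(2, 4), (3, 3)]),
  (0, [(2677, 1), (2, 0)]), (1, []), (47, [(3, 3), (19, 19)]), (67, [(2, 8), (5, 5)]),
  (0, [(7, 1), (383, 1)]), (1, []), (0, [(2683, 1), (2, 0)]), (61, [(2, 4), (11, 11)]),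
  (179, [(3, 3), (5, 5)]), (1, []), (0, [(2687, 1), (2, 0)]), (7, [(2, 128), (3, 3)]),
  (0, [(2689, 1), (2, 0)]), (1, []), (23, [(3, 9), (13, 13)]), (0, [(2, 2), (673, 1)]),
  (0, [(2693, 1), (2, 0)]), (1, []), (11, [(5, 5), (7, 49)]), (0, [(2, 3), (337, 1)]),
  (31, [(3, 3), (29, 29)]), (1, []), (0, [(2699, 1), (2, 0)]), (1, []), (0, [(37, 1), (73, 1)]),
  (1, []), (53, [(3, 3), (17, 17)]), (0, [(2, 4), (13, 2)]), (0, [(5, 1), (541, 1)]), (1, []),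
  (0, [(2707, 1), (2, 0)]), (0, [(2, 2), (677, 1)]), (43, [(3, 9), (7, 7)]), (1, []),
  (0, [(2711, 1), (2, 0)]), (113, [(2, 8), (3, 3)]), (0, [(2713, 1), (2, 0)]), (1, []),
  (181, [(3, 3), (5, 5)]), (97, [(2, 4), (7, 7)]), (19, [(11, 11), (13, 13)]), (1, []),
  (0, [(2719, 1), (2, 0)]), (17, [(2, 32), (5, 5)]), (0, [(3, 1), (907, 1)]), (1, []),
  (0, [(7, 1), (389, 1)]), (227, [(2, 4), (3, 3)]), (0, [(5, 2), (109, 1)]), (1, []),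
  (0, [(3, 3), (101, 1)]), (31, [(2, 8), (11, 11)]), (0, [(2729, 1), (2, 0)]), (1, []),
  (0, [(2731, 1), (2, 0)]), (0, [(2, 2), (683, 1)]), (0, [(3, 1), (911, 1)]), (1, []),
  (0, [(5, 1), (547, 1)]), (19, [(2, 16), (3, 9)]), (23, [(7, 7), (17, 17)]), (1, []),
  (83, [(3, 3), (11, 11)]), (137, [(2, 4), (5, 5)]), (0, [(2741, 1), (2, 0)]), (1, []),
  (0, [(13, 1), (211, 1)]), (0, [(2, 3), (7, 3)]), (61, [(3, 9), (5, 5)]), (1, []),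
  (0, [(41, 1), (67, 1)]), (229, [(2, 4), (3, 3)]), (0, [(2749, 1), (2, 0)]), (1, []),
  (131, [(3, 3), (7, 7)]), (0, [(2, 6), (43, 1)]), (0, [(2753, 1), (2, 0)]), (1, []),
  (29, [(5, 5), (19, 19)]), (53, [(2, 4), (13, 13)]), (0, [(3, 1), (919, 1)]), (1, []),
  (0, [(31, 1), (89, 1)]), (23, [(2, 8), (3, 3), (5, 5)]), (0, [(11, 1), (251, 1)]), (1, []),
  (0, [(3, 2), (307, 1)]), (0, [(2, 2), (691, 1)]), (79, [(5, 5), (7, 7)]), (1, []),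
  (0, [(2767, 1), (2, 0)]), (0, [(2, 4), (173, 1)]), (71, [(3, 3), (13, 13)]), (1, []),
  (0, [(17, 1), (163, 1)]), (11, [(2, 4), (3, 9), (7, 7)]), (0, [(47, 1), (59, 1)]), (1, []),
  (37, [(3, 3), (5, 25)]), (0, [(2, 3), (347, 1)]), (0, [(2777, 1), (2, 0)]), (1, []),
  (0, [(7, 1), (397, 1)]), (139, [(2, 4), (5, 5)]), (0, [(3, 3), (103, 1)]), (1, []),
  (0, [(11, 2), (23, 1)]), (29, [(2, 32), (3, 3)]), (0, [(5, 1), (557, 1)]), (1, []),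
  (0, [(3, 1), (929, 1)]), (41, [(2, 4), (17, 17)]), (0, [(2789, 1), (2, 0)]), (1, []),
  (0, [(2791, 1), (2, 0)]), (0, [(2, 3), (349, 1)]), (19, [(3, 3), (7, 49)]), (1, []),
  (43, [(5, 5), (13, 13)]), (233, [(2, 4), (3, 3)]), (0, [(2797, 1), (2, 0)]), (1, []),
  (0, [(3, 2), (311, 1)]), (7, [(2, 16), (5, 25)]), (0, [(2801, 1), (2, 0)]), (1, []),
  (0, [(2803, 1), (2, 0)]), (0, [(2, 2), (701, 1)]), (17, [(3, 3), (5, 5), (11, 11)]), (1, []),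
  (0, [(7, 1), (401, 1)]), (13, [(2, 8), (3, 27)]), (0, [(53, 2), (2, 0)]), (1, []),
  (0, [(3, 1), (937, 1)]), (37, [(2, 4), (19, 19)]), (0, [(29, 1), (97, 1)]), (1, []),
  (0, [(5, 1), (563, 1)]), (0, [(2, 8), (11, 1)]), (0, [(3, 2), (313, 1)]), (1, []),
  (0, [(2819, 1), (2, 0)]), (47, [(2, 4), (3, 3), (5, 5)]), (31, [(7, 7), (13, 13)]), (1, []),
  (0, [(3, 1), (941, 1)]), (0, [(2, 3), (353, 1)]), (0, [(5, 2), (113, 1)]), (1, []),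
  (0, [(11, 1), (257, 1)]), (101, [(2, 4), (7, 7)]), (41, [(3, 3), (23, 23)]), (1, []),
  (0, [(19, 1), (149, 1)]), (59, [(2, 16), (3, 3)]), (0, [(2833, 1), (2, 0)]), (1, []),
  (7, [(3, 81), (5, 5)]), (0, [(2, 2), (709, 1)]), (0, [(2837, 1), (2, 0)]), (1, []),
  (0, [(17, 1), (167, 1)]), (71, [(2, 8), (5, 5)]), (0, [(3, 1), (947, 1)]), (1, []),
  (0, [(2843, 1), (2, 0)]), (79, [(2, 4), (3, 9)]), (0, [(5, 1), (569, 1)]), (1, []),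
  (73, [(3, 3), (13, 13)]), (0, [(2, 5), (89, 1)]), (37, [(7, 7), (11, 11)]), (1, []),
  (0, [(2851, 1), (2, 0)]), (31, [(2, 4), (23, 23)]), (0, [(3, 2), (317, 1)]), (1, []),
  (0, [(5, 1), (571, 1)]), (17, [(2, 8), (3, 3), (7, 7)]), (0, [(2857, 1), (2, 0)]), (1, []),
  (0, [(3, 1), (953, 1)]), (13, [(2, 4), (5, 5), (11, 11)]), (0, [(2861, 1), (2, 0)]), (1, []),
  (0, [(7, 1), (409, 1)]), (0, [(2, 4), (179, 1)]), (191, [(3, 3), (5, 5)]), (1, []),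
  (0, [(47, 1), (61, 1)]), (239, [(2, 4), (3, 3)]), (0, [(19, 1), (151, 1)]), (1, []),
  (29, [(3, 9), (11, 11)]), (0, [(2, 3), (359, 1)]), (0, [(13, 2), (17, 1)]), (1, []),
  (0, [(5, 3), (23, 1)]), (0, [(2, 2), (719, 1)]), (137, [(3, 3), (7, 7)]), (1, []),
  (0, [(2879, 1), (2, 0)]), (5, [(2, 64), (3, 9)]), (0, [(43, 1), (67, 1)]), (1, []),
  (0, [(3, 1), (31, 2)]), (103, [(2, 4), (7, 7)]), (0, [(5, 1), (577, 1)]), (1, []),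
  (0, [(2887, 1), (2, 0)]), (0, [(2, 3), (19, 2)]), (0, [(3, 3), (107, 1)]), (1, []),
  (0, [(7, 2), (59, 1)]), (241, [(2, 4), (3, 3)])]

theorem h5 : goC 61 exc 2593 c5 = true := by decide +kernel

theorem l5 : c5.length = 300 := by decide +kernel

/-- certificates from 2893 -/
def c6 : List (ℕ × List (ℕ × ℕ)) :=
  [(0, [(11, 1), (263, 1)]), (1, []), (193, [(3, 3), (5, 5)]), (0, [(2, 4), (181, 1)]),
  (0, [(2897, 1), (2, 0)]), (1, []), (0, [(13, 1), (223, 1)]), (29, [(2, 4), (5, 25)]),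
  (0, [(3, 1), (967, 1)]), (1, []), (0, [(2903, 1), (2, 0)]), (3, [(2, 8), (11, 121)]),
  (83, [(5, 5), (7, 7)]), (1, []), (19, [(3, 9), (17, 17)]), (0, [(2, 2), (727, 1)]),
  (0, [(2909, 1), (2, 0)]), (1, []), (0, [(41, 1), (71, 1)]), (13, [(2, 32), (7, 7)]),
  (0, [(3, 1), (971, 1)]), (1, []), (53, [(5, 5), (11, 11)]), (0, [(2, 2), (3, 6)]),
  (0, [(2917, 1), (2, 0)]), (1, []), (139, [(3, 3), (7, 7)]), (73, [(2, 8), (5, 5)]),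
  (0, [(23, 1), (127, 1)]), (1, []), (0, [(37, 1), (79, 1)]), (43, [(2, 4), (17, 17)]),
  (13, [(3, 9), (5, 25)]), (1, []), (0, [(2927, 1), (2, 0)]), (61, [(2, 16), (3, 3)]),
  (0, [(29, 1), (101, 1)]), (1, []), (0, [(3, 1), (977, 1)]), (0, [(2, 2), (733, 1)]),
  (0, [(7, 1), (419, 1)]), (1, []), (0, [(5, 1), (587, 1)]), (0, [(2, 3), (367, 1)]),
  (89, [(3, 3), (11, 11)]), (1, []), (0, [(2939, 1), (2, 0)]), (5, [(2, 4), (3, 3), (7, 49)]),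
  (0, [(17, 1), (173, 1)]), (1, []), (0, [(3, 3), (109, 1)]), (0, [(2, 7), (23, 1)]),
  (31, [(5, 5), (19, 19)]), (1, []), (0, [(7, 1), (421, 1)]), (67, [(2, 4), (11, 11)]),
  (0, [(3, 1), (983, 1)]), (1, []), (0, [(13, 1), (227, 1)]), (41, [(2, 8), (3, 9)]),
  (0, [(2953, 1), (2, 0)]), (1, []), (197, [(3, 3), (5, 5)]), (0, [(2, 2), (739, 1)]),
  (0, [(2957, 1), (2, 0)]), (1, []), (0, [(11, 1), (269, 1)]), (37, [(2, 16), (5, 5)]),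
  (47, [(3, 9), (7, 7)]), (1, []), (0, [(2963, 1), (2, 0)]), (19, [(2, 4), (3, 3), (13, 13)]),
  (0, [(5, 1), (593, 1)]), (1, []), (43, [(3, 3), (23, 23)]), (53, [(2, 8), (7, 7)]),
  (0, [(2969, 1), (2, 0)]), (1, []), (0, [(2971, 1), (2, 0)]), (0, [(2, 2), (743, 1)]),
  (0, [(3, 1), (991, 1)]), (1, []), (17, [(5, 25), (7, 7)]), (31, [(2, 32), (3, 3)]),
  (0, [(13, 1), (229, 1)]), (1, []), (0, [(3, 2), (331, 1)]), (149, [(2, 4), (5, 5)]),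
  (0, [(11, 1), (271, 1)]), (1, []), (0, [(19, 1), (157, 1)]), (0, [(2, 3), (373, 1)]),
  (199, [(3, 3), (5, 5)]), (1, []), (0, [(29, 1), (103, 1)]), (83, [(2, 4), (3, 9)]),
  (0, [(7, 2), (61, 1)]), (1, []), (0, [(3, 1), (997, 1)]), (17, [(2, 16), (11, 11)]),
  (0, [(41, 1), (73, 1)]), (1, []), (0, [(5, 1), (599, 1)]), (107, [(2, 4), (7, 7)]),
  (0, [(3, 4), (37, 1)]), (1, []), (0, [(2999, 1), (2, 0)]), (3, [(2, 8), (5, 125)]),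
  (0, [(3001, 1), (2, 0)]), (1, []), (13, [(3, 3), (7, 7), (11, 11)]), (0, [(2, 2), (751, 1)]),
  (0, [(5, 1), (601, 1)]), (1, []), (0, [(31, 1), (97, 1)]), (0, [(2, 6), (47, 1)]),
  (59, [(3, 3), (17, 17)]), (1, []), (0, [(3011, 1), (2, 0)]), (251, [(2, 4), (3, 3)]),
  (0, [(23, 1), (131, 1)]), (1, []), (67, [(3, 9), (5, 5)]), (29, [(2, 8), (13, 13)]),
  (0, [(7, 1), (431, 1)]), (1, []), (0, [(3019, 1), (2, 0)]), (151, [(2, 4), (5, 5)]),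
  (53, [(3, 3), (19, 19)]), (1, []), (0, [(3023, 1), (2, 0)]), (7, [(2, 16), (3, 27)]),
  (0, [(5, 2), (11, 2)]), (1, []), (0, [(3, 1), (1009, 1)]), (0, [(2, 2), (757, 1)]),
  (0, [(13, 1), (233, 1)]), (1, []), (0, [(7, 1), (433, 1)]), (0, [(2, 3), (379, 1)]),
  (0, [(3, 2), (337, 1)]), (1, []), (0, [(5, 1), (607, 1)]), (23, [(2, 4), (3, 3), (11, 11)]),
  (0, [(3037, 1), (2, 0)]), (1, []), (0, [(3, 1), (1013, 1)]), (19, [(2, 32), (5, 5)]),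
  (0, [(3041, 1), (2, 0)]), (1, []), (0, [(17, 1), (179, 1)]), (0, [(2, 2), (761, 1)]),
  (29, [(3, 3), (5, 5), (7, 7)]), (1, []), (0, [(11, 1), (277, 1)]), (127, [(2, 8), (3, 3)]),
  (0, [(3049, 1), (2, 0)]), (1, []), (0, [(3, 3), (113, 1)]), (109, [(2, 4), (7, 7)]),
  (0, [(43, 1), (71, 1)]), (1, []), (47, [(5, 5), (13, 13)]), (0, [(2, 4), (191, 1)]),
  (0, [(3, 1), (1019, 1)]), (1, []), (23, [(7, 7), (19, 19)]), (17, [(2, 4), (3, 9), (5, 5)]),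
  (0, [(3061, 1), (2, 0)]), (1, []), (0, [(3, 1), (1021, 1)]), (0, [(2, 3), (383, 1)]),
  (0, [(5, 1), (613, 1)]), (1, []), (0, [(3067, 1), (2, 0)]), (59, [(2, 4), (13, 13)]),
  (31, [(3, 9), (11, 11)]), (1, []), (0, [(37, 1), (83, 1)]), (0, [(2, 10), (3, 1)]),
  (0, [(7, 1), (439, 1)]), (1, []), (41, [(3, 3), (5, 25)]), (0, [(2, 2), (769, 1)]),
  (0, [(17, 1), (181, 1)]), (1, []), (0, [(3079, 1), (2, 0)]), (11, [(2, 8), (5, 5), (7, 7)]),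
  (79, [(3, 3), (13, 13)]), (1, []), (0, [(3083, 1), (2, 0)]), (257, [(2, 4), (3, 3)]),
  (0, [(5, 1), (617, 1)]), (1, []), (0, [(3, 2), (7, 3)]), (0, [(2, 4), (193, 1)]),
  (0, [(3089, 1), (2, 0)]), (1, []), (0, [(11, 1), (281, 1)]), (0, [(2, 2), (773, 1)]),
  (0, [(3, 1), (1031, 1)]), (1, []), (0, [(5, 1), (619, 1)]), (43, [(2, 8), (3, 9)]),
  (0, [(19, 1), (163, 1)]), (1, []), (0, [(3, 1), (1033, 1)]), (31, [(2, 4), (5, 25)]),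
  (0, [(7, 1), (443, 1)]), (1, []), (0, [(29, 1), (107, 1)]), (0, [(2, 5), (97, 1)]),
  (23, [(3, 27), (5, 5)]), (1, []), (0, [(13, 1), (239, 1)]), (37, [(2, 4), (3, 3), (7, 7)]),
  (0, [(3109, 1), (2, 0)]), (1, []), (61, [(3, 3), (17, 17)]), (0, [(2, 3), (389, 1)]),
  (0, [(11, 1), (283, 1)]), (1, []), (89, [(5, 5), (7, 7)]), (41, [(2, 4), (19, 19)]),
  (0, [(3, 1), (1039, 1)]), (1, []), (0, [(3119, 1), (2, 0)]), (13, [(2, 16), (3, 3), (5, 5)]),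
  (0, [(3121, 1), (2, 0)]), (1, []), (0, [(3, 2), (347, 1)]), (71, [(2, 4), (11, 11)]),
  (0, [(5, 5), (2, 0)]), (1, []), (0, [(53, 1), (59, 1)]), (23, [(2, 8), (17, 17)]),
  (149, [(3, 3), (7, 7)]), (1, []), (0, [(31, 1), (101, 1)]), (29, [(2, 4), (3, 27)]),
  (0, [(13, 1), (241, 1)]), (1, []), (19, [(3, 3), (5, 5), (11, 11)]), (0, [(2, 6), (7, 2)]),
  (0, [(3137, 1), (2, 0)]), (1, []), (0, [(43, 1), (73, 1)]), (157, [(2, 4), (5, 5)]),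
  (0, [(3, 2), (349, 1)]), (1, []), (0, [(7, 1), (449, 1)]), (131, [(2, 8), (3, 3)]),
  (37, [(5, 5), (17, 17)]), (1, []), (0, [(3, 1), (1049, 1)]), (0, [(2, 2), (787, 1)]),
  (0, [(47, 1), (67, 1)]), (1, []), (0, [(23, 1), (137, 1)]), (0, [(2, 4), (197, 1)]),
  (0, [(3, 1), (1051, 1)]), (1, []), (0, [(5, 1), (631, 1)]), (263, [(2, 4), (3, 3)]),
  (41, [(7, 7), (11, 11)]), (1, []), (0, [(3, 5), (13, 1)]), (79, [(2, 8), (5, 5)]),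
  (0, [(29, 1), (109, 1)]), (1, []), (0, [(3163, 1), (2, 0)]), (113, [(2, 4), (7, 7)]),
  (211, [(3, 3), (5, 5)]), (1, []), (0, [(3167, 1), (2, 0)]), (11, [(2, 32), (3, 9)]),
  (0, [(3169, 1), (2, 0)]), (1, []), (151, [(3, 3), (7, 7)]), (61, [(2, 4), (13, 13)]),
  (0, [(19, 1), (167, 1)]), (1, []), (0, [(5, 2), (127, 1)]), (0, [(2, 3), (397, 1)]),
  (0, [(3, 2), (353, 1)]), (1, []), (0, [(11, 1), (17, 2)]), (53, [(2, 4), (3, 3), (5, 5)]),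
  (0, [(3181, 1), (2, 0)]), (1, []), (0, [(3, 1), (1061, 1)]), (0, [(2, 4), (199, 1)]),
  (13, [(5, 5), (7, 49)]), (1, []), (0, [(3187, 1), (2, 0)]), (0, [(2, 2), (797, 1)]),
  (0, [(3, 1), (1063, 1)]), (1, []), (0, [(3191, 1), (2, 0)]), (19, [(2, 8), (3, 3), (7, 7)])]

theorem h6 : goC 61 exc 2893 c6 = true := by decide +kernel

theorem l6 : c6.length = 300 := by decide +kernel

/-- certificates from 3193 -/
def c7 : List (ℕ × List (ℕ × ℕ)) :=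
  [(0, [(31, 1), (103, 1)]), (1, []), (71, [(3, 9), (5, 5)]), (47, [(2, 4), (17, 17)]),
  (0, [(23, 1), (139, 1)]), (1, []), (0, [(7, 1), (457, 1)]), (0, [(2, 7), (5, 2)]),
  (97, [(3, 3), (11, 11)]), (1, []), (0, [(3203, 1), (2, 0)]), (89, [(2, 4), (3, 9)]),
  (0, [(5, 1), (641, 1)]), (1, []), (0, [(3, 1), (1069, 1)]), (0, [(2, 3), (401, 1)]),
  (0, [(3209, 1), (2, 0)]), (1, []), (0, [(13, 2), (19, 1)]), (73, [(2, 4), (11, 11)]),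
  (17, [(3, 27), (7, 7)]), (1, []), (0, [(5, 1), (643, 1)]), (67, [(2, 16), (3, 3)]),
  (0, [(3217, 1), (2, 0)]), (1, []), (37, [(3, 3), (29, 29)]), (23, [(2, 4), (5, 5), (7, 7)]),
  (0, [(3221, 1), (2, 0)]), (1, []), (0, [(11, 1), (293, 1)]), (31, [(2, 8), (13, 13)]),
  (43, [(3, 3), (5, 25)]), (1, []), (0, [(7, 1), (461, 1)]), (269, [(2, 4), (3, 3)]),
  (0, [(3229, 1), (2, 0)]), (1, []), (0, [(3, 2), (359, 1)]), (0, [(2, 5), (101, 1)]),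
  (0, [(53, 1), (61, 1)]), (1, []), (0, [(5, 1), (647, 1)]), (0, [(2, 2), (809, 1)]),
  (83, [(3, 3), (13, 13)]), (1, []), (0, [(41, 1), (79, 1)]), (5, [(2, 8), (3, 81)]),
  (0, [(7, 1), (463, 1)]), (1, []), (47, [(3, 3), (23, 23)]), (0, [(2, 2), (811, 1)]),
  (59, [(5, 5), (11, 11)]), (1, []), (0, [(17, 1), (191, 1)]), (29, [(2, 16), (7, 7)]),
  (0, [(3, 2), (19, 2)]), (1, []), (0, [(3251, 1), (2, 0)]), (271, [(2, 4), (3, 3)]),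
  (0, [(3253, 1), (2, 0)]), (1, []), (31, [(3, 3), (5, 5), (7, 7)]), (37, [(2, 8), (11, 11)]),
  (0, [(3257, 1), (2, 0)]), (1, []), (0, [(3259, 1), (2, 0)]), (163, [(2, 4), (5, 5)]),
  (0, [(3, 1), (1087, 1)]), (1, []), (0, [(13, 1), (251, 1)]), (17, [(2, 64), (3, 3)]),
  (0, [(5, 1), (653, 1)]), (1, []), (0, [(3, 3), (11, 2)]), (43, [(2, 4), (19, 19)]),
  (0, [(7, 1), (467, 1)]), (1, []), (0, [(3271, 1), (2, 0)]), (0, [(2, 3), (409, 1)]),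
  (0, [(3, 1), (1091, 1)]), (1, []), (0, [(5, 2), (131, 1)]), (13, [(2, 4), (3, 9), (7, 7)]),
  (0, [(29, 1), (113, 1)]), (1, []), (0, [(3, 1), (1093, 1)]), (41, [(2, 16), (5, 5)]),
  (0, [(17, 1), (193, 1)]), (1, []), (0, [(7, 2), (67, 1)]), (0, [(2, 2), (821, 1)]),
  (73, [(3, 9), (5, 5)]), (1, []), (0, [(19, 1), (173, 1)]), (137, [(2, 8), (3, 3)]),
  (23, [(11, 11), (13, 13)]), (1, []), (0, [(3, 1), (1097, 1)]), (0, [(2, 2), (823, 1)]),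
  (0, [(37, 1), (89, 1)]), (1, []), (0, [(5, 1), (659, 1)]), (0, [(2, 5), (103, 1)]),
  (157, [(3, 3), (7, 7)]), (1, []), (0, [(3299, 1), (2, 0)]), (11, [(2, 4), (3, 3), (5, 25)]),
  (0, [(3301, 1), (2, 0)]), (1, []), (0, [(3, 2), (367, 1)]), (59, [(2, 8), (7, 7)]),
  (0, [(5, 1), (661, 1)]), (1, []), (0, [(3307, 1), (2, 0)]), (0, [(2, 2), (827, 1)]),
  (0, [(3, 1), (1103, 1)]), (1, []), (43, [(7, 7), (11, 11)]), (23, [(2, 16), (3, 9)]),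
  (0, [(3313, 1), (2, 0)]), (1, []), (17, [(3, 3), (5, 5), (13, 13)]), (0, [(2, 2), (829, 1)]),
  (0, [(31, 1), (107, 1)]), (1, []), (0, [(3319, 1), (2, 0)]), (83, [(2, 8), (5, 5)]),
  (0, [(3, 4), (41, 1)]), (1, []), (0, [(3323, 1), (2, 0)]), (277, [(2, 4), (3, 3)]),
  (19, [(5, 25), (7, 7)]), (1, []), (0, [(3, 1), (1109, 1)]), (0, [(2, 8), (13, 1)]),
  (0, [(3329, 1), (2, 0)]), (1, []), (0, [(3331, 1), (2, 0)]), (17, [(2, 4), (7, 49)]),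
  (101, [(3, 3), (11, 11)]), (1, []), (29, [(5, 5), (23, 23)]), (139, [(2, 8), (3, 3)]),
  (0, [(47, 1), (71, 1)]), (1, []), (53, [(3, 9), (7, 7)]), (167, [(2, 4), (5, 5)]),
  (0, [(13, 1), (257, 1)]), (1, []), (0, [(3343, 1), (2, 0)]), (19, [(2, 16), (11, 11)]),
  (223, [(3, 3), (5, 5)]), (1, []), (0, [(3347, 1), (2, 0)]), (31, [(2, 4), (3, 27)]),
  (0, [(17, 1), (197, 1)]), (1, []), (0, [(3, 1), (1117, 1)]), (0, [(2, 3), (419, 1)]),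
  (0, [(7, 1), (479, 1)]), (1, []), (61, [(5, 5), (11, 11)]), (0, [(2, 2), (839, 1)]),
  (0, [(3, 2), (373, 1)]), (1, []), (0, [(3359, 1), (2, 0)]), (1, []), (0, [(3361, 1), (2, 0)]),
  (1, []), (59, [(3, 3), (19, 19)]), (0, [(2, 2), (29, 2)]), (0, [(5, 1), (673, 1)]), (1, []),
  (37, [(7, 7), (13, 13)]), (0, [(2, 3), (421, 1)]), (0, [(3, 1), (1123, 1)]), (1, []),
  (0, [(3371, 1), (2, 0)]), (281, [(2, 4), (3, 3)]), (0, [(3373, 1), (2, 0)]), (1, []),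
  (0, [(3, 3), (5, 3)]), (0, [(2, 4), (211, 1)]), (0, [(11, 1), (307, 1)]), (1, []),
  (0, [(31, 1), (109, 1)]), (5, [(2, 4), (13, 169)]), (23, [(3, 3), (7, 49)]), (1, []),
  (0, [(17, 1), (199, 1)]), (47, [(2, 8), (3, 9)]), (0, [(5, 1), (677, 1)]), (1, []),
  (0, [(3, 1), (1129, 1)]), (7, [(2, 4), (11, 121)]), (0, [(3389, 1), (2, 0)]), (1, []),
  (0, [(3391, 1), (2, 0)]), (0, [(2, 6), (53, 1)]), (29, [(3, 9), (13, 13)]), (1, []),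
  (97, [(5, 5), (7, 7)]), (283, [(2, 4), (3, 3)]), (0, [(43, 1), (79, 1)]), (1, []),
  (103, [(3, 3), (11, 11)]), (17, [(2, 8), (5, 25)]), (0, [(19, 1), (179, 1)]), (1, []),
  (0, [(41, 1), (83, 1)]), (37, [(2, 4), (23, 23)]), (227, [(3, 3), (5, 5)]), (1, []),
  (0, [(3407, 1), (2, 0)]), (71, [(2, 16), (3, 3)]), (0, [(7, 1), (487, 1)]), (1, []),
  (0, [(3, 2), (379, 1)]), (0, [(2, 2), (853, 1)]), (0, [(3413, 1), (2, 0)]), (1, []),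
  (0, [(5, 1), (683, 1)]), (61, [(2, 8), (7, 7)]), (67, [(3, 3), (17, 17)]), (1, []),
  (0, [(13, 1), (263, 1)]), (1, []), (0, [(11, 1), (311, 1)]), (1, []), (163, [(3, 3), (7, 7)]),
  (0, [(2, 5), (107, 1)]), (0, [(5, 2), (137, 1)]), (1, []), (0, [(23, 1), (149, 1)]),
  (0, [(2, 2), (857, 1)]), (0, [(3, 3), (127, 1)]), (1, []), (0, [(47, 1), (73, 1)]),
  (13, [(2, 8), (3, 3), (11, 11)]), (0, [(3433, 1), (2, 0)]), (1, []), (229, [(3, 3), (5, 5)]),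
  (0, [(2, 2), (859, 1)]), (0, [(7, 1), (491, 1)]), (1, []), (0, [(19, 1), (181, 1)]),
  (43, [(2, 16), (5, 5)]), (37, [(3, 3), (31, 31)]), (1, []), (0, [(11, 1), (313, 1)]),
  (41, [(2, 4), (3, 3), (7, 7)]), (53, [(5, 5), (13, 13)]), (1, []), (0, [(3, 2), (383, 1)]),
  (0, [(2, 3), (431, 1)]), (0, [(3449, 1), (2, 0)]), (1, []), (29, [(7, 7), (17, 17)]),
  (0, [(2, 2), (863, 1)]), (0, [(3, 1), (1151, 1)]), (1, []), (0, [(5, 1), (691, 1)]),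
  (0, [(2, 7), (3, 3)]), (0, [(3457, 1), (2, 0)]), (1, []), (0, [(3, 1), (1153, 1)]),
  (173, [(2, 4), (5, 5)]), (0, [(3461, 1), (2, 0)]), (1, []), (0, [(3463, 1), (2, 0)]),
  (0, [(2, 3), (433, 1)]), (11, [(3, 9), (5, 5), (7, 7)]), (1, []), (0, [(3467, 1), (2, 0)]),
  (3, [(2, 4), (17, 289)]), (0, [(3469, 1), (2, 0)]), (1, []), (89, [(3, 3), (13, 13)]),
  (31, [(2, 16), (7, 7)]), (0, [(23, 1), (151, 1)]), (1, []), (0, [(5, 2), (139, 1)]),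
  (79, [(2, 4), (11, 11)]), (61, [(3, 3), (19, 19)]), (1, []), (0, [(7, 2), (71, 1)]),
  (29, [(2, 8), (3, 3), (5, 5)]), (0, [(59, 2), (2, 0)]), (1, []), (0, [(3, 4), (43, 1)]),
  (67, [(2, 4), (13, 13)]), (41, [(5, 5), (17, 17)]), (1, []), (0, [(11, 1), (317, 1)]),
  (0, [(2, 5), (109, 1)]), (0, [(3, 1), (1163, 1)]), (1, []), (0, [(3491, 1), (2, 0)]),
  (97, [(2, 4), (3, 9)])]

theorem h7 : goC 61 exc 3193 c7 = true := by decide +kernel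

theorem l7 : c7.length = 300 := by decide +kernel

/-- certificates from 3493 -/
def c8 : List (ℕ × List (ℕ × ℕ)) :=
  [(0, [(7, 1), (499, 1)]), (1, []), (233, [(3, 3), (5, 5)]), (23, [(2, 8), (19, 19)]),
  (0, [(13, 1), (269, 1)]), (1, []), (0, [(3499, 1), (2, 0)]), (7, [(2, 4), (5, 125)]),
  (0, [(3, 2), (389, 1)]), (1, []), (0, [(31, 1), (113, 1)]), (73, [(2, 16), (3, 3)]),
  (0, [(5, 1), (701, 1)]), (1, []), (167, [(3, 3), (7, 7)]), (0, [(2, 2), (877, 1)]),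
  (0, [(11, 2), (29, 1)]), (1, []), (0, [(3511, 1), (2, 0)]), (0, [(2, 3), (439, 1)]),
  (0, [(3, 1), (1171, 1)]), (1, []), (37, [(5, 5), (19, 19)]), (293, [(2, 4), (3, 3)]),
  (0, [(3517, 1), (2, 0)]), (1, []), (23, [(3, 9), (17, 17)]), (11, [(2, 64), (5, 5)]),
  (0, [(7, 1), (503, 1)]), (1, []), (0, [(13, 1), (271, 1)]), (0, [(2, 2), (881, 1)]),
  (47, [(3, 3), (5, 25)]), (1, []), (0, [(3527, 1), (2, 0)]), (1, []), (0, [(3529, 1), (2, 0)]),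
  (1, []), (107, [(3, 3), (11, 11)]), (0, [(2, 2), (883, 1)]), (0, [(3533, 1), (2, 0)]), (1, []),
  (101, [(5, 5), (7, 7)]), (17, [(2, 16), (13, 13)]), (0, [(3, 3), (131, 1)]), (1, []),
  (0, [(3539, 1), (2, 0)]), (59, [(2, 4), (3, 3), (5, 5)]), (0, [(3541, 1), (2, 0)]), (1, []),
  (0, [(3, 1), (1181, 1)]), (0, [(2, 3), (443, 1)]), (0, [(5, 1), (709, 1)]), (1, []),
  (0, [(3547, 1), (2, 0)]), (0, [(2, 2), (887, 1)]), (7, [(3, 3), (13, 169)]), (1, []),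
  (0, [(53, 1), (67, 1)]), (37, [(2, 32), (3, 3)]), (19, [(11, 11), (17, 17)]), (1, []),
  (79, [(3, 9), (5, 5)]), (127, [(2, 4), (7, 7)]), (0, [(3557, 1), (2, 0)]), (1, []),
  (0, [(3559, 1), (2, 0)]), (89, [(2, 8), (5, 5)]), (0, [(3, 1), (1187, 1)]), (1, []),
  (0, [(7, 1), (509, 1)]), (11, [(2, 4), (3, 81)]), (31, [(5, 5), (23, 23)]), (1, []),
  (41, [(3, 3), (29, 29)]), (0, [(2, 4), (223, 1)]), (0, [(43, 1), (83, 1)]), (1, []),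
  (0, [(3571, 1), (2, 0)]), (47, [(2, 4), (19, 19)]), (0, [(3, 2), (397, 1)]), (1, []),
  (13, [(5, 25), (11, 11)]), (149, [(2, 8), (3, 3)]), (0, [(7, 2), (73, 1)]), (1, []),
  (0, [(3, 1), (1193, 1)]), (179, [(2, 4), (5, 5)]), (0, [(3581, 1), (2, 0)]), (1, []),
  (0, [(3583, 1), (2, 0)]), (0, [(2, 9), (7, 1)]), (239, [(3, 3), (5, 5)]), (1, []),
  (0, [(17, 1), (211, 1)]), (23, [(2, 4), (3, 3), (13, 13)]), (0, [(37, 1), (97, 1)]), (1, []),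
  (19, [(3, 27), (7, 7)]), (0, [(2, 3), (449, 1)]), (0, [(3593, 1), (2, 0)]), (1, []),
  (0, [(5, 1), (719, 1)]), (31, [(2, 4), (29, 29)]), (109, [(3, 3), (11, 11)]), (1, []),
  (0, [(59, 1), (61, 1)]), (1, []), (0, [(13, 1), (277, 1)]), (1, []), (0, [(3, 1), (1201, 1)]),
  (53, [(2, 4), (17, 17)]), (103, [(5, 5), (7, 7)]), (1, []), (0, [(3607, 1), (2, 0)]),
  (41, [(2, 8), (11, 11)]), (0, [(3, 2), (401, 1)]), (1, []), (0, [(23, 1), (157, 1)]),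
  (43, [(2, 4), (3, 3), (7, 7)]), (0, [(3613, 1), (2, 0)]), (1, []), (241, [(3, 3), (5, 5)]),
  (0, [(2, 5), (113, 1)]), (0, [(3617, 1), (2, 0)]), (1, []), (47, [(7, 7), (11, 11)]),
  (181, [(2, 4), (5, 5)]), (71, [(3, 3), (17, 17)]), (1, []), (0, [(3623, 1), (2, 0)]),
  (151, [(2, 8), (3, 3)]), (0, [(5, 3), (29, 1)]), (1, []), (31, [(3, 9), (13, 13)]),
  (0, [(2, 2), (907, 1)]), (0, [(19, 1), (191, 1)]), (1, []), (0, [(3631, 1), (2, 0)]),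
  (0, [(2, 4), (227, 1)]), (173, [(3, 3), (7, 7)]), (1, []), (0, [(5, 1), (727, 1)]),
  (101, [(2, 4), (3, 9)]), (0, [(3637, 1), (2, 0)]), (1, []), (0, [(3, 1), (1213, 1)])]

theorem h8 : goC 61 exc 3493 c8 = true := by decide +kernel

theorem l8 : c8.length = 147 := by decide +kernel

universe u

theorem mem_exc {G : Type u} [Group G] [Finite G] [IsSimpleGroup G]
    (hG : ¬ IsMulCommutative G) (g1 : 1092 < Nat.card G) (g2 : Nat.card G < 3640) :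
    Nat.card G ∈ exc := by
  rcases Nat.lt_or_ge (Nat.card G) 1393 with k0 | k0
  · exact mem_of_goC hG h0 (by omega) (by rw [l0]; omega)
  rcases Nat.lt_or_ge (Nat.card G) 1693 with k1 | k1
  · exact mem_of_goC hG h1 (by omega) (by rw [l1]; omega)
  rcases Nat.lt_or_ge (Nat.card G) 1993 with k2 | k2
  · exact mem_of_goC hG h2 (by omega) (by rw [l2]; omega)
  rcases Nat.lt_or_ge (Nat.card G) 2293 with k3 | k3
  · exact mem_of_goC hG h3 (by omega) (by rw [l3]; omega)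
  rcases Nat.lt_or_ge (Nat.card G) 2593 with k4 | k4
  · exact mem_of_goC hG h4 (by omega) (by rw [l4]; omega)
  rcases Nat.lt_or_ge (Nat.card G) 2893 with k5 | k5
  · exact mem_of_goC hG h5 (by omega) (by rw [l5]; omega)
  rcases Nat.lt_or_ge (Nat.card G) 3193 with k6 | k6
  · exact mem_of_goC hG h6 (by omega) (by rw [l6]; omega)
  rcases Nat.lt_or_ge (Nat.card G) 3493 with k7 | k7
  · exact mem_of_goC hG h7 (by omega) (by rw [l7]; omega)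
  exact mem_of_goC hG h8 (by omega) (by rw [l8]; omega)

end H60.SO
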